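import Groth.Agent.ShStabX.Next

/-!
# Harder–Narasimhan filtrations for truncated Hilbert polynomials: existence and uniqueness
-/

set_option linter.style.haveILetI false
set_option linter.unusedSectionVars false
set_option backward.isDefEq.respectTransparency false
set_option backward.isDefEq.respectTransparency.types false

universe u

open CategoryTheory CategoryTheory.Limits AlgebraicGeometry Polynomial StabCat TopologicalSpace

noncomputable section

namespace Groth.Agent.ShStabX

open Groth.Agent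

variable {X : Scheme.{u}} {k : Type u} [Field k] [X.Over (Spec (CommRingCat.of k))]
  [IsProper (X ↘ Spec (CommRingCat.of k))] {L : X.Modules} {d ℓ : ℕ} {E : X.Modules}

variable (k L d ℓ) in
/-- Filtrations with semistable factors of strictly decreasing reduced truncation. -/
def IsHN (s : LTSeries (Subobject E)) : Prop :=
  s.head = ⊥ ∧ s.last = ⊤ ∧ (∀ i : Fin s.length, SSl k L d ℓ (factor s i)) ∧
    ∀ i j : Fin s.length, i.val + 1 = j.val → RedLT d (tp k L d ℓ (factor s j)) (tp k L d ℓ (factor s i))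

section Basic

variable (hL : CohB1.IsAmple L) (hE : Coh.IsCoh E) (hp : ShStab.IsPure X E d)

include k hL hE hp

lemma isCoh_bot_sub : Coh.IsCoh ((⊥ : Subobject E) : X.Modules) ∧ ShStab.IsPure X (cokernel (⊥ : Subobject E).arrow) d := by
  haveI : IsNoetherian X := CurveCohLib.isNoetherian_of_proper (k := k)
  refine ⟨HilbPoly.isCoh_of_iso ?_ (QCoh.isCoh_kernel hE hE (𝟙 E)), ?_⟩
  · exact (kernel.ofMono (𝟙 E)).trans Subobject.botCoeIsoZero.symm
  · haveI : IsIso (cokernel.π (⊥ : Subobject E).arrow) := isIso_π_of_arrow_eq_zero Subobject.bot_arrow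
    exact isPure_of_iso (asIso (cokernel.π (⊥ : Subobject E).arrow)) hp

/-- All terms of a filtration with coherent factors are coherent. -/
lemma isCoh_terms {s : LTSeries (Subobject E)} (hlast : s.last = ⊤)
    (hf : ∀ i : Fin s.length, Coh.IsCoh (factor s i)) (i : Fin (s.length + 1)) :
    Coh.IsCoh (s i : X.Modules) := by
  haveI : IsNoetherian X := CurveCohLib.isNoetherian_of_proper (k := k)
  induction i using Fin.reverseInduction with
  | last =>
    have h : Coh.IsCoh ((⊤ : Subobject E) : X.Modules) :=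
      HilbPoly.isCoh_of_iso (asIso (⊤ : Subobject E).arrow).symm hE
    rwa [← hlast] at h
  | cast i ih =>
    have hS : (ShortComplex.mk (Subobject.ofLE (s i.castSucc) (s i.succ) (le_of_lt (s.step i))) (cokernel.π _)
        (cokernel.condition _)).ShortExact :=
      .mk' (ShortComplex.exact_of_g_is_cokernel _ (cokernelIsCokernel _)) inferInstance inferInstance
    exact HilbPoly.isCoh_of_iso (IsLimit.conePointUniqueUpToIso (kernelIsKernel _) hS.fIsKernel)
      (QCoh.isCoh_kernel ih (hf i) (cokernel.π (Subobject.ofLE (s i.castSucc) (s i.succ) (le_of_lt (s.step i)))))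

/-- Purity of the quotients of a filtration with pure factors. -/
lemma isPure_cok_terms {s : LTSeries (Subobject E)} (hlast : s.last = ⊤)
    (hf : ∀ i : Fin s.length, Coh.IsCoh (factor s i) ∧ ShStab.IsPure X (factor s i) d) (i : Fin (s.length + 1)) :
    ShStab.IsPure X (cokernel (s i).arrow) d := by
  haveI : IsNoetherian X := CurveCohLib.isNoetherian_of_proper (k := k)
  have hd := HilbPoly.dim_le_of_isPure hp hE
  have hcoh := isCoh_terms (k := k) hL hE hp hlast fun i => (hf i).1
  induction i using Fin.reverseInduction with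
  | last =>
    intro F ι hι _ hF0
    haveI := hι
    exact absurd ((IsZero.iff_id_eq_zero F).2 (by
      rw [← cancel_mono ι, Category.id_comp, Limits.zero_comp]
      exact (isZero_cokernel_arrow_iff.2 (show s (Fin.last s.length) = ⊤ from hlast)).eq_of_tgt _ _)) hF0
  | cast i ih =>
    intro F ι hι hF hF0
    haveI := hι
    have hle : s i.castSucc ≤ s i.succ := le_of_lt (s.step i)
    obtain ⟨hQ, hdQ⟩ := isCoh_cok (k := k) hL hE hd (hcoh i.castSucc)
    obtain ⟨hQ', -⟩ := isCoh_cok (k := k) hL hE hd (hcoh i.succ)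
    obtain ⟨K, I, a, p, b, w, hfac, ha, hb, hp', hS, hKc, hIc⟩ :=
      HilbPoly.exists_factor (k := k) hF hQ' (ι ≫ quotProj hle)
    haveI := ha; haveI := hb; haveI := hp'
    refine le_antisymm (HilbPoly.dim_mono hF hQ ι hdQ) ?_
    by_cases hI0 : IsZero I
    · have h0 : ι ≫ quotProj hle = 0 := by rw [← hfac, hI0.eq_of_tgt p 0, Limits.zero_comp]
      let l := (quot_shortExact hle).exact.lift ι h0
      haveI : Mono l := by
        haveI : Mono (l ≫ quotIncl hle) := by
          rw [show l ≫ quotIncl hle = ι from (quot_shortExact hle).exact.lift_f ι h0]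
          infer_instance
        exact mono_of_mono l (quotIncl hle)
      exact ((hf i).2 F l inferInstance hF hF0).ge
    · exact (ih I b hb hIc hI0).ge.trans
        (H23.TopDim.dim_le_dim_of_subset (QCoh.support_of_epi hF.1 hIc.1 p))

/-- The factors after the `i`-th are worse than it. -/
lemma IsHN.redLT_of_lt {s : LTSeries (Subobject E)} (hs : IsHN k L d ℓ s) :
    ∀ {i j : Fin s.length}, i < j → RedLT d (tp k L d ℓ (factor s j)) (tp k L d ℓ (factor s i)) := by
  suffices h : ∀ (n : ℕ) (i j : Fin s.length), i.val + n + 1 = j.val →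
      RedLT d (tp k L d ℓ (factor s j)) (tp k L d ℓ (factor s i)) from
    fun {i j} hij => h (j.val - i.val - 1) i j (by have : i.val < j.val := hij; omega)
  intro n
  induction n with
  | zero => exact fun i j h => hs.2.2.2 i j (by omega)
  | succ n ih =>
    intro i j h
    exact redLT_trans' ((hs.2.2.1 j).alpha_pos hL) ((hs.2.2.1 ⟨i.val + n + 1, by omega⟩).alpha_pos hL)
      ((hs.2.2.1 i).alpha_pos hL).le (hs.2.2.2 _ j (by show i.val + n + 1 + 1 = j.val; omega)) (ih i _ rfl)

/-- No maps from a semistable module to a quotient all whose factors are worse. -/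
theorem hom_to_quot_eq_zero {s : LTSeries (Subobject E)} (hlast : s.last = ⊤)
    (hf : ∀ j : Fin s.length, SSl k L d ℓ (factor s j)) {H : X.Modules}
    (hH : SSl k L d ℓ H) (i : Fin (s.length + 1))
    (hlt : ∀ j : Fin s.length, i.val ≤ j.val → RedLT d (tp k L d ℓ (factor s j)) (tp k L d ℓ H))
    (φ : H ⟶ cokernel (s i).arrow) : φ = 0 := by
  induction i using Fin.reverseInduction with
  | last => exact (isZero_cokernel_arrow_iff.2 (show s (Fin.last s.length) = ⊤ from hlast)).eq_of_tgt _ _
  | cast i ih =>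
    have hle : s i.castSucc ≤ s i.succ := le_of_lt (s.step i)
    have h0 : φ ≫ quotProj hle = 0 := ih (fun j hj => hlt j (by
      simp only [Fin.val_succ, Fin.val_castSucc] at hj ⊢; omega)) _
    have hψ : (quot_shortExact hle).exact.lift φ h0 = 0 := by
      by_contra hne
      exact HilbPoly.not_redLE_of_redLT (hlt i (by simp)) (ssl_redLE_of_ne_zero hL hH (hf i) hne)
    have := (quot_shortExact hle).exact.lift_f φ h0
    rw [hψ] at this
    simpa using this.symm

/-- In a Harder–Narasimhan filtration each term is followed by its next step. -/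
theorem IsHN.isNext {s : LTSeries (Subobject E)} (hs : IsHN k L d ℓ s) (i : Fin s.length) :
    IsNext k L d ℓ (s i.castSucc) (s i.succ) := by
  have hd := HilbPoly.dim_le_of_isPure hp hE
  have hcoh := isCoh_terms (k := k) hL hE hp hs.2.1 fun j => (hs.2.2.1 j).1
  have hpure := isPure_cok_terms (k := k) hL hE hp hs.2.1 (fun j => ⟨(hs.2.2.1 j).1, (hs.2.2.1 j).2.2.1⟩) i.castSucc
  have hne : s i.castSucc ≠ ⊤ := (lt_of_lt_of_le (s.step i) le_top).ne
  have hlt : s i.castSucc < s i.succ := s.step i
  obtain ⟨T, hT⟩ := exists_isNext (k := k) (ℓ := ℓ) hL hE hp (hcoh _) hpure hne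
  have hG := hT.ssl hL hE hp (hcoh _) hpure
  -- the piece of `T` is at least as good as the factor
  have h1 : RedLE d (tp k L d ℓ (factor s i)) (tp k L d ℓ (cokernel (Subobject.ofLE _ T hT.1.le))) := by
    rw [tp_piece hL hE hd (hcoh _) hT.2.1 hT.1.le]
    show RedLE d (tp k L d ℓ (cokernel (Subobject.ofLE _ _ hlt.le))) _
    rw [tp_piece hL hE hd (hcoh _) (hcoh _) hlt.le]
    exact (hT.2.2 _ hlt (hcoh _)).1
  have hsi : T ≤ s i.succ := by
    refine le_of_comp_quotProj hlt.le hT.1.le ?_
    refine hom_to_quot_eq_zero hL hE hp hs.2.1 hs.2.2.1 hG i.succ (fun j hj => ?_) _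
    exact redLT_trans_right ((hs.2.2.1 j).alpha_pos hL).le ((hs.2.2.1 i).alpha_pos hL) (hG.alpha_pos hL)
      (hs.redLT_of_lt hL hE hp (by show i.val < j.val; simp only [Fin.val_succ] at hj; omega)) h1
  have h2 : RedLE d (tp k L d ℓ (T : X.Modules) - tp k L d ℓ (s i.castSucc : X.Modules)) (tp k L d ℓ (factor s i)) := by
    rw [← tp_piece hL hE hd (hcoh _) hT.2.1 hT.1.le]
    have h0 : quotIncl hT.1.le ≫ quotProj hlt.le = 0 := by
      rw [← cancel_epi (cokernel.π (Subobject.ofLE _ T hT.1.le)), π_quotIncl_assoc, π_quotProj,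
        ← Subobject.ofLE_arrow hsi, Category.assoc, cokernel.condition, Limits.comp_zero, Limits.comp_zero]
    let a := (quot_shortExact hlt.le).exact.lift (quotIncl hT.1.le) h0
    haveI : Mono a := by
      haveI : Mono (a ≫ quotIncl hlt.le) := by
        rw [show a ≫ quotIncl hlt.le = quotIncl hT.1.le from (quot_shortExact hlt.le).exact.lift_f _ h0]
        infer_instance
      exact mono_of_mono a (quotIncl hlt.le)
    exact (hs.2.2.1 i).2.2.2 _ a inferInstance hG.1 hG.2.1
  have hle' : s i.succ ≤ T := by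
    obtain ⟨-, hh⟩ := hT.2.2 _ hlt (hcoh i.succ)
    refine hh ?_
    rw [← tp_piece hL hE hd (hcoh _) (hcoh _) hlt.le, ← tp_piece hL hE hd (hcoh _) hT.2.1 hT.1.le]
    exact HilbPoly.redEq_of_le_le h1 (by rw [tp_piece hL hE hd (hcoh _) hT.2.1 hT.1.le]; exact h2)
  rw [le_antisymm hle' hsi]
  exact hT

end Basic

section Chain


variable (k L d ℓ) in
open Classical in
/-- One step of the canonical filtration. -/
def nextSub (S : Subobject E) : Subobject E :=
  if h : ∃ T, IsNext k L d ℓ S T then h.choose else S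

variable (k L d ℓ E) in
/-- The canonical sequence. -/
def hnSeq : ℕ → Subobject E
  | 0 => ⊥
  | n + 1 => nextSub k L d ℓ (hnSeq n)

variable (hL : CohB1.IsAmple L) (hE : Coh.IsCoh E) (hp : ShStab.IsPure X E d)

include hL hE hp

lemma nextSub_spec {S : Subobject E} (hS : Coh.IsCoh (S : X.Modules)) (hSp : ShStab.IsPure X (cokernel S.arrow) d)
    (hne : S ≠ ⊤) : IsNext k L d ℓ S (nextSub k L d ℓ S) := by
  have h := exists_isNext (k := k) (ℓ := ℓ) hL hE hp hS hSp hne
  rw [nextSub, dif_pos h]
  exact h.choose_spec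

lemma hnSeq_good : ∀ n, (∀ m < n, hnSeq k L d ℓ E m ≠ ⊤) →
    Coh.IsCoh (hnSeq k L d ℓ E n : X.Modules) ∧
      ShStab.IsPure X (cokernel (hnSeq k L d ℓ E n).arrow) d
  | 0, _ => isCoh_bot_sub (k := k) hL hE hp
  | n + 1, h => by
    obtain ⟨h1, h2⟩ := hnSeq_good n fun m hm => h m (by omega)
    have hN := nextSub_spec (k := k) (ℓ := ℓ) hL hE hp h1 h2 (h n (by omega))
    exact ⟨hN.2.1, hN.isPure_cok hL hE hp h1⟩

theorem existsUnique_hn : ∃! s : LTSeries (Subobject E), IsHN k L d ℓ s := by
  classical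
  haveI : IsNoetherian X := CurveCohLib.isNoetherian_of_proper (k := k)
  let f := hnSeq k L d ℓ E
  have hstep : ∀ n, (∀ m < n + 1, f m ≠ ⊤) → IsNext k L d ℓ (f n) (f (n + 1)) := fun n h => by
    obtain ⟨h1, h2⟩ := hnSeq_good (k := k) (ℓ := ℓ) hL hE hp n fun m hm => h m (by omega)
    exact nextSub_spec (k := k) (ℓ := ℓ) hL hE hp h1 h2 (h n (by omega))
  have hex : ∃ n, f n = ⊤ := by
    by_contra hne
    simp only [not_exists] at hne
    obtain ⟨S, ⟨hSc, n, rfl⟩, hmax⟩ := HilbPoly.exists_maximal_coh hE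
      (fun S => Coh.IsCoh (S : X.Modules) ∧ ∃ n, f n = S) (fun _ h => h.1)
      ⟨f 0, (hnSeq_good (k := k) (ℓ := ℓ) hL hE hp 0 fun m _ => hne m).1, 0, rfl⟩
    have hN := hstep n fun m _ => hne m
    exact hN.1.ne' (hmax _ ⟨hN.2.1, n + 1, rfl⟩ hN.1.le)
  let N := Nat.find hex
  have hlt : ∀ m < N, f m ≠ ⊤ := fun m hm => Nat.find_min hex hm
  let s : LTSeries (Subobject E) :=
    { length := N
      toFun := fun i => f i.val
      step := fun i => (hstep i.val fun m hm => hlt m (by have := i.isLt; omega)).1 }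
  have hsN : ∀ i : Fin N, IsNext k L d ℓ (f i.val) (f (i.val + 1)) :=
    fun i => hstep i.val fun m hm => hlt m (by have := i.isLt; omega)
  have hgood : ∀ i : Fin (N + 1), Coh.IsCoh (f i.val : X.Modules) ∧ ShStab.IsPure X (cokernel (f i.val).arrow) d :=
    fun i => hnSeq_good (k := k) (ℓ := ℓ) hL hE hp i.val fun m hm => hlt m (by have := i.isLt; omega)
  have hd := HilbPoly.dim_le_of_isPure hp hE
  refine ⟨s, ⟨rfl, Nat.find_spec hex, fun i => ?_, fun i j hij => ?_⟩, fun t ht => ?_⟩
  · exact (hsN i).ssl hL hE hp (hgood i.castSucc).1 (hgood i.castSucc).2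
  · show RedLT d (tp k L d ℓ (cokernel (Subobject.ofLE (f j.val) (f (j.val + 1)) (hsN j).1.le)))
      (tp k L d ℓ (cokernel (Subobject.ofLE (f i.val) (f (i.val + 1)) (hsN i).1.le)))
    have hci : Coh.IsCoh (f i.val : X.Modules) := (hgood i.castSucc).1
    have hcj : Coh.IsCoh (f j.val : X.Modules) := (hgood j.castSucc).1
    rw [tp_piece (ℓ := ℓ) hL hE hd hcj (hsN j).2.1 (hsN j).1.le,
      tp_piece (ℓ := ℓ) hL hE hd hci (hsN i).2.1 (hsN i).1.le]
    have hij' : f (i.val + 1) < f (j.val + 1) := by rw [hij]; exact (hsN j).1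
    have := (hsN i).redLT hL hE hp hij' (hsN j).2.1
    rwa [hij] at this ⊢
  · have key : ∀ i : Fin (t.length + 1), t i = f i.val ∧ ∀ m < i.val, f m ≠ ⊤ := by
      intro i
      induction i using Fin.induction with
      | zero => exact ⟨ht.1, fun m hm => absurd hm (by simp)⟩
      | succ i ih =>
        have hne : f i.castSucc.val ≠ ⊤ := by
          rw [← ih.1]
          exact (lt_of_lt_of_le (t.step i) le_top).ne
        have hall : ∀ m < i.val + 1, f m ≠ ⊤ := fun m hm => by
          rcases Nat.lt_succ_iff_lt_or_eq.1 hm with h | h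
          · exact ih.2 m (by simpa using h)
          · subst h; simpa using hne
        refine ⟨?_, fun m hm => hall m (by simpa using hm)⟩
        have h1 := ht.isNext hL hE hp i
        rw [ih.1] at h1
        exact isNext_unique (k := k) hL hE hd h1 (hstep i.val hall)
    have hlen : t.length = N := by
      have h1 := key (Fin.last t.length)
      refine ((Nat.find_eq_iff hex).2 ⟨h1.1.symm.trans ht.2.1, fun m hm => h1.2 m hm⟩).symm
    exact RelSeries.ext hlen (funext fun i => (key i).1)

end Chain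

end Groth.Agent.ShStabX
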