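import Groth.Agent.ShStabX.SecCore
import Groth.Agent.AmpleVan.Pull
import Groth.Agent.ASBunK.HomBC
import Groth.Agent.ShStabX.HN

/-!
# Semistability ascends along extensions of the base field
-/

set_option linter.style.haveILetI false
set_option linter.unusedSectionVars false
set_option backward.isDefEq.respectTransparency false
set_option backward.isDefEq.respectTransparency.types false

universe u

open CategoryTheory CategoryTheory.Limits AlgebraicGeometry Polynomial StabCat Filter TensorProduct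

noncomputable section

namespace Groth.Agent.ShStabX

open Groth.Agent

/-- Ampleness is preserved by affine morphisms. -/
theorem isAmple_pullback_affine {X Z : Scheme.{u}} (u : Z ⟶ X) [IsAffineHom u] [CompactSpace Z]
    {L : X.Modules} (h : CohB1.IsAmple L) : CohB1.IsAmple ((Scheme.Modules.pullback u).obj L) := by
  refine ⟨PicClLib.isInvertible_pullback u h.1, inferInstance, fun z => ?_⟩
  obtain ⟨n, s, hz, hs⟩ := h.2.2 (u z)
  obtain ⟨e⟩ := PicClLib.nonempty_pullback_structureModule u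
  have hg := InvX.genLocus_pullback u (InvX.isInvertible_tensorPow h.1 (n + 1)) s e.symm
  obtain ⟨t, ht⟩ := AmpleX.exists_section_of_cl_eq
    (B := CohB1.tensorPow ((Scheme.Modules.pullback u).obj L) (n + 1))
    (H23.PicMul.cl_eq_iff.2 (nonempty_pull_tensorPow u L (n + 1)))
    (e.symm.hom ≫ (Scheme.Modules.pullback u).map s)
  rw [hg] at ht
  exact ⟨n, t, ht.symm ▸ hz, ht.symm ▸ hs.preimage u⟩

variable (k : Type u) [Field k] {X : Scheme.{u}} [X.Over (Spec (CommRingCat.of k))]
  [IsProper (X ↘ Spec (CommRingCat.of k))]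
  (K : Type u) [Field K] [Algebra k K] {X' : Scheme.{u}} [X'.Over (Spec (CommRingCat.of K))]
  (g : X' ⟶ X)
  (hpb : IsPullback g (X' ↘ Spec (CommRingCat.of K)) (X ↘ Spec (CommRingCat.of k))
      (Spec.map (CommRingCat.ofHom (algebraMap k K))))
  {L E : X.Modules} {d ℓ : ℕ}

include hpb

theorem isAmple_bc (hL : CohB1.IsAmple L) : CohB1.IsAmple ((Scheme.Modules.pullback g).obj L) := by
  haveI : IsAffineHom g := MorphismProperty.of_isPullback hpb.flip inferInstance
  haveI := CurveBC.isProper k K g hpb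
  haveI := QuasiCompact.compactSpace_of_compactSpace (X' ↘ Spec (CommRingCat.of K))
  exact isAmple_pullback_affine g hL

/-- A submodule of an extended semistable module satisfies the semistability bound. -/
theorem bound_of_sub_bc (hL : CohB1.IsAmple L) (hE : SSl k L d ℓ E) {F : X'.Modules}
    (κ : F ⟶ (Scheme.Modules.pullback g).obj E) [Mono κ] (hF : Coh.IsCoh F) (h0 : ¬ IsZero F) {P : ℚ[X]}
    (hP : ShStab.IsHilbPoly K X' ((Scheme.Modules.pullback g).obj L) F P) :
    Bound d ℓ (tp k L d ℓ E) P := by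
  classical
  haveI := CurveBC.isProper k K g hpb
  haveI : IsNoetherian X := CurveCohLib.isNoetherian_of_proper (k := k)
  haveI : IsNoetherian X' := CurveCohLib.isNoetherian_of_proper (k := K)
  haveI := Abelian.hasFiniteBiproducts (C := X'.Modules)
  obtain ⟨A, hA⟩ := exists_testFam hL.1
  have hA' := hA.pullback g
  have hL' := isAmple_bc k K g hpb hL
  haveI hfin : ∀ j, Module.Finite k (A j ⟶ E) := fun j => hA.finite_hom j hE.1
  let G' := (Scheme.Modules.pullback g).obj E
  let gA : ℕ → X'.Modules := fun j => (Scheme.Modules.pullback g).obj (A j)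
  have hEq : Coh.IsQCoh E := hE.1.1
  let θ : ∀ j, K ⊗[k] (A j ⟶ E) ≃ₗ[K] (gA j ⟶ G') := fun j =>
    LinearEquiv.ofBijective (ASBunK.θ k K g hpb (A j) E)
      ⟨ASBunK.θ_injective k K g hpb hEq, ASBunK.θ_surjective k K g hpb (hA.isCoh (k := k) j) hEq⟩
  let R : ∀ j, Submodule K (gA j ⟶ G') := fun j => LinearMap.range (Linear.rightComp K (gA j) κ)
  let W : ∀ j, Submodule K (K ⊗[k] (A j ⟶ E)) := fun j => (R j).comap (θ j).toLinearMap
  have hnat : ∀ i j (σ : A j ⟶ A i) (z : K ⊗[k] (A i ⟶ E)),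
      θ j ((Linear.leftComp k E σ).baseChange K z) = (Scheme.Modules.pullback g).map σ ≫ θ i z := by
    intro i j σ z
    induction z using TensorProduct.induction_on with
    | zero => simp
    | tmul c m =>
      show ASBunK.θ k K g hpb (A j) E (c ⊗ₜ (σ ≫ m)) =
        (Scheme.Modules.pullback g).map σ ≫ ASBunK.θ k K g hpb (A i) E (c ⊗ₜ m)
      rw [ASBunK.θ_tmul, ASBunK.θ_tmul, Functor.map_comp, Linear.comp_smul]
    | add x y hx hy => simp only [map_add, hx, hy, Preadditive.comp_add]
  have hW : ∀ i j, ∀ f ∈ preOp k E A i j, ∀ w ∈ W i, f.baseChange K w ∈ W j := by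
    rintro i j _ ⟨σ, rfl⟩ w ⟨t, ht⟩
    refine ⟨(Scheme.Modules.pullback g).map σ ≫ t, ?_⟩
    show ((Scheme.Modules.pullback g).map σ ≫ t) ≫ κ = θ j ((Linear.leftComp k E σ).baseChange K w)
    rw [hnat, Category.assoc]
    exact congrArg ((Scheme.Modules.pullback g).map σ ≫ ·) ht
  -- a generating degree
  obtain ⟨j₀, hj₀⟩ := Filter.eventually_atTop.1 (hA'.eventually_jointEpi (k := K) hL' hF)
  haveI : Module.Finite K (gA j₀ ⟶ F) := hA'.finite_hom j₀ hF
  haveI : Module.Free K (gA j₀ ⟶ F) := Module.Free.of_divisionRing K (gA j₀ ⟶ F)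
  let b := Module.finBasis K (gA j₀ ⟶ F)
  let s : Fin (Module.finrank K (gA j₀ ⟶ F)) → K ⊗[k] (A j₀ ⟶ E) := fun t => (θ j₀).symm (b t ≫ κ)
  let S := Finset.univ.image s
  have hsW : ∀ t, s t ∈ W j₀ := fun t => ⟨b t, ((θ j₀).apply_symm_apply _).symm⟩
  let Ψ : (⨁ fun _ : Fin (Module.finrank K (gA j₀ ⟶ F)) => gA j₀) ⟶ F := biproduct.desc fun t => b t
  haveI : Epi Ψ := by
    refine ⟨fun {Z} a c hac => hj₀ j₀ le_rfl Z a c fun φ => ?_⟩
    have hφ : φ = ∑ t, b.repr φ t • b t := (b.sum_repr φ).symm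
    rw [hφ, Preadditive.sum_comp, Preadditive.sum_comp]
    refine Finset.sum_congr rfl fun t _ => ?_
    rw [Linear.smul_comp, Linear.smul_comp, show b t = biproduct.ι (fun _ => gA j₀) t ≫ Ψ from
      (biproduct.ι_desc _ _).symm, Category.assoc, Category.assoc, hac]
  have hlift := hA'.eventually_lift (k := K) hL'
    (isCoh_biproduct_fin _ (hA'.isCoh (k := K) j₀)) hF Ψ
  have hgen : ∀ᶠ j in atTop, W j ≤ Submodule.span K
      {x | ∃ f ∈ preOp k E A j₀ j, ∃ y ∈ S, x = f.baseChange K y} := by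
    filter_upwards [hlift] with j hj w ⟨t, ht⟩
    obtain ⟨ψ, hψ⟩ := hj t
    have hw : w = ∑ i, (θ j).symm ((ψ ≫ biproduct.π _ i) ≫ b i ≫ κ) := by
      rw [← map_sum, LinearEquiv.eq_symm_apply]
      show θ j w = _
      rw [show θ j w = t ≫ κ from ht.symm, ← hψ]
      conv_lhs => rw [← Category.comp_id ψ, ← biproduct.total]
      simp only [Ψ, Preadditive.comp_sum, Preadditive.sum_comp, Category.assoc, biproduct.ι_desc_assoc]
    rw [hw]
    refine Submodule.sum_mem _ fun i _ => ?_
    obtain ⟨z, hz⟩ := ASBunK.θ_surjective k K g hpb (hA.isCoh (k := k) j) (hA.isCoh (k := k) j₀).1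
      (ψ ≫ biproduct.π _ i)
    rw [← hz]
    clear hz
    induction z using TensorProduct.induction_on with
    | zero => rw [map_zero, Limits.zero_comp, map_zero]; exact Submodule.zero_mem _
    | add x y hx hy => rw [map_add, Preadditive.add_comp, map_add]; exact Submodule.add_mem _ hx hy
    | tmul c σ =>
      rw [ASBunK.θ_tmul, Linear.smul_comp, map_smul]
      refine Submodule.smul_mem _ _ (Submodule.subset_span ⟨_, ⟨σ, rfl⟩, s i,
        Finset.mem_image.2 ⟨i, Finset.mem_univ _, rfl⟩, ?_⟩)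
      rw [LinearEquiv.symm_apply_eq, hnat, (θ j₀).apply_symm_apply]
  refine SecFam.Good.of_generated (C := Bound d ℓ (tp k L d ℓ E)) (fun n Q hn h => bound_of_smul n Q hn h)
    (good_of_ssl hA hL hE) W hW j₀ S (fun y hy => ?_) hgen P ?_ ?_
  · obtain ⟨t, -, rfl⟩ := Finset.mem_image.1 hy
    exact hsW t
  · filter_upwards [hA'.finrank_hom hL' hF hP] with j hj
    rw [← hj]
    norm_cast
    have hinj : Function.Injective (Linear.rightComp K (gA j) κ) := fun a c h => (cancel_mono κ).1 h
    rw [← LinearMap.finrank_range_of_inj hinj]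
    rw [show W j = (R j).map (θ j).symm.toLinearMap from
      (Submodule.map_equiv_eq_comap_symm (θ j).symm (R j)).symm]
    exact ((θ j).symm.submoduleMap (R j)).finrank_eq.symm
  · intro hP0
    subst hP0
    obtain ⟨n, hn⟩ := exists_dim_le_nat K (X := X')
    exact h0 (HilbPoly.isZero_of_hilb_zero hL' hF
      (Topology.IsInducing.subtypeVal.topologicalKrullDim_le.trans hn) hP)

/-- Semistability ascends along extensions of the base field. -/
theorem ssl_bc (hL : CohB1.IsAmple L) (hE : SSl k L d ℓ E) :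
    haveI := CurveBC.isProper k K g hpb
    SSl K ((Scheme.Modules.pullback g).obj L) d ℓ ((Scheme.Modules.pullback g).obj E) ∧
      tp K ((Scheme.Modules.pullback g).obj L) d ℓ ((Scheme.Modules.pullback g).obj E) = tp k L d ℓ E := by
  haveI := CurveBC.isProper k K g hpb
  haveI : IsNoetherian X' := CurveCohLib.isNoetherian_of_proper (k := K)
  have hL' := isAmple_bc k K g hpb hL
  have hG := isCoh_bc k K g hpb hE.1
  have h0 : ¬ IsZero ((Scheme.Modules.pullback g).obj E) := fun h => hE.2.1 ((isZero_bc_iff k K g hpb).1 h)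
  obtain ⟨n, hn⟩ := exists_dim_le_nat K (X := X')
  have key : ∀ (F : X'.Modules) (κ : F ⟶ (Scheme.Modules.pullback g).obj E), Mono κ → Coh.IsCoh F → ¬ IsZero F →
      topologicalKrullDim ↥(CohB1.support F) = (d : WithBot ℕ∞) ∧
        RedLE d (tp K ((Scheme.Modules.pullback g).obj L) d ℓ F) (tp k L d ℓ E) := by
    intro F κ hκ hF hF0
    haveI := hκ
    have hFn : DimLE F n := Topology.IsInducing.subtypeVal.topologicalKrullDim_le.trans hn
    obtain ⟨e, -, he⟩ := HilbPoly.exists_dim_eq (k := K) hFn hF0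
    obtain ⟨P, hP, hPe, -⟩ := HilbPoly.exists_hilb (k := K) hL'.1 hF he.le
    obtain ⟨h1, h2, h3⟩ := bound_of_sub_bc k K g hpb hL hE κ hF hF0 hP
    have hepos := HilbPoly.alpha_pos hL' hF he hP
    have hed : e = d := by
      refine le_antisymm ?_ ?_
      · by_contra hh
        simp [alpha, coeff_eq_zero_of_natDegree_lt (show P.natDegree < e by omega)] at hepos
      · by_contra hh
        simp [alpha, coeff_eq_zero_of_natDegree_lt (show P.natDegree < d by omega)] at h1
    subst hed
    exact ⟨he, by rwa [tp_eq hL' hF he.le hP]⟩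
  have hd := (key _ (𝟙 _) inferInstance hG h0).1
  have htp : tp K ((Scheme.Modules.pullback g).obj L) d ℓ ((Scheme.Modules.pullback g).obj E) = tp k L d ℓ E := by
    rw [tp_eq hL' hG hd.le ((isHilbPoly_bc_iff k K g hpb hL.1 hE.1 _).2
      (HilbPoly.isHilbPoly_hp (k := k) hL hE.1 hE.dimLE)), tp_eq hL hE.1 hE.dimLE
      (HilbPoly.isHilbPoly_hp (k := k) hL hE.1 hE.dimLE)]
  exact ⟨⟨hG, h0, fun F κ hκ hF hF0 => (key F κ hκ hF hF0).1,
    fun F κ hκ hF hF0 => htp.symm ▸ (key F κ hκ hF hF0).2⟩, htp⟩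

end Groth.Agent.ShStabX
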