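import Groth.Agent.ShStabX.Simple
import Groth.Agent.TFCurvLib.AssTF
import Groth.Agent.Lib.CurveTensor
import Groth.Agent.S9407
import Groth.Prelude.Def_DecSh2

/-!
# Torsion-free modules on reduced curves: purity and multiplicities
-/

set_option linter.style.haveILetI false
set_option linter.unusedSectionVars false
set_option backward.isDefEq.respectTransparency false
set_option backward.isDefEq.respectTransparency.types false

universe u

open CategoryTheory CategoryTheory.Limits AlgebraicGeometry Polynomial StabCat TopologicalSpace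

noncomputable section

namespace Groth.Agent.ShStabX

open Groth.Agent

variable {X : Scheme.{u}}

/-- A scheme smooth over a field is reduced. -/
theorem isReduced_smooth {Y : Scheme.{u}} (f : X ⟶ Y) [Smooth f] [IsReduced Y] : IsReduced X := by
  have key : ∀ x : ↥X, ∃ W : X.Opens, x ∈ W ∧ IsReduced W.toScheme := by
    intro x
    obtain ⟨U, hU, hxU, -⟩ := exists_isAffineOpen_mem_and_subset (U := (⊤ : Y.Opens)) (x := f x) trivial
    obtain ⟨V, hV, hxV, hVU⟩ := exists_isAffineOpen_mem_and_subset (U := f ⁻¹ᵁ U) (x := x) hxU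
    have h : (f.appLE U V hVU).hom.Smooth := HasRingHomProperty.appLE (P := @Smooth) f ‹_› ⟨U, hU⟩ ⟨V, hV⟩ hVU
    let _ := (f.appLE U V hVU).hom.toAlgebra
    have : Algebra.Smooth Γ(Y, U) Γ(X, V) := h
    have : _root_.IsReduced Γ(X, V) := Groth.Agent.S9407.result Γ(Y, U) Γ(X, V)
    exact ⟨V, hxV, isReduced_of_isOpenImmersion hV.isoSpec.hom⟩
  choose W hxW hW using key
  exact @IsReduced.of_openCover _ (X.openCoverOfIsOpenCover W
    (.mk (top_unique fun x _ => TopologicalSpace.Opens.mem_iSup.mpr ⟨x, hxW x⟩))) hW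

/-- Submodules of modules with torsion-free stalks have torsion-free stalks. -/
theorem isTorsionFree_of_mono {F E : X.Modules} (ι : F ⟶ E) [Mono ι] (h : TorSh.IsTorsionFree E) :
    TorSh.IsTorsionFree F := fun x => by
  let g : F.presheaf.stalk x →ₗ[X.presheaf.stalk x] E.presheaf.stalk x := ((DerSch.stalkFunctor X x).map ι).hom
  have hinj : Function.Injective g :=
    (ModuleCat.mono_iff_injective ((DerSch.stalkFunctor X x).map ι)).1 inferInstance
  haveI : Module.IsTorsionFree (X.presheaf.stalk x) (E.presheaf.stalk x) := h x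
  exact Function.Injective.moduleIsTorsionFree g hinj (map_smul g)

/-- Bundles have torsion-free stalks. -/
theorem isTorsionFree_of_locFree {E : X.Modules} {r : ℕ} (hE : FlatMod.IsFinLocFreeOfRank r E) :
    TorSh.IsTorsionFree E := fun x => by
  obtain ⟨b⟩ := CurveTensor.exists_basis_stalk hE x
  exact Function.Injective.moduleIsTorsionFree b.equivFun b.equivFun.injective (map_smul b.equivFun)

/-- On a Noetherian reduced space without isolated points a nonzero torsion-free module is not supported at
closed points. -/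
theorem exists_notClosed_mem_support [IsNoetherian X] [IsReduced X] (hpure : ∀ x : X, ¬ IsOpen ({x} : Set X))
    {F : X.Modules} (hF : Coh.IsCoh F) (htF : TorSh.IsTorsionFree F) (h0 : ¬ IsZero F) :
    ∃ x ∈ CohB1.support F, ¬ IsClosed ({x} : Set X) := by
  by_contra! hne
  apply h0
  rw [IsZero.iff_id_eq_zero]
  refine Scheme.Modules.hom_ext _ _ fun U => ?_
  ext s
  show s = 0
  refine TFCurvLib.eq_zero_of_germ_isField hF.1 htF s fun y hy hfld => ?_
  by_contra hg
  have hyS : y ∈ CohB1.support F := fun hsub => hg (hsub.elim _ _)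
  have hcl := hne y hyS
  let O : X.Opens := ⟨{y}ᶜ, hcl.isOpen_compl⟩
  have hd : Dense (O : Set X) := by
    show Dense ({y}ᶜ : Set X)
    rw [dense_compl_singleton_iff_not_open]
    exact hpure y
  exact TFCurvLib.mem_of_dense_of_isField hd hfld rfl

variable {k : Type u} [Field k] [X.Over (Spec (CommRingCat.of k))] [IsProper (X ↘ Spec (CommRingCat.of k))]
  {L : X.Modules}

include k in
/-- Torsion-free modules on a reduced curve without isolated points are pure. -/
theorem isPure_one_of_torsionFree [IsReduced X] (hdim : topologicalKrullDim X = 1)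
    (hpure : ∀ x : X, ¬ IsOpen ({x} : Set X)) {E : X.Modules} (htf : TorSh.IsTorsionFree E) :
    ShStab.IsPure X E 1 := by
  haveI : IsNoetherian X := CurveCohLib.isNoetherian_of_proper (k := k)
  intro F ι hι hF h0
  haveI := hι
  obtain ⟨x, hxS, hx⟩ := exists_notClosed_mem_support hpure hF (isTorsionFree_of_mono ι htf) h0
  refine le_antisymm ((topologicalKrullDim_subspace_le X _).trans hdim.le) ?_
  obtain ⟨x', hx', hcl⟩ := (isClosed_closure (s := ({x} : Set X))).exists_closed_singleton ⟨x, subset_closure rfl⟩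
  have hne : x' ≠ x := fun e => hx (e ▸ hcl)
  have hspec : x ⤳ x' := specializes_iff_mem_closure.2 hx'
  have hx'S : x' ∈ CohB1.support F := QCoh.stableUnderSpecialization_support hF.1 hspec hxS
  let C : CohB1.support F → IrreducibleCloseds (CohB1.support F) := fun w =>
    ⟨closure {w}, isIrreducible_singleton.closure, isClosed_closure⟩
  have hlt : C ⟨x', hx'S⟩ < C ⟨x, hxS⟩ := by
    have hle : C ⟨x', hx'S⟩ ≤ C ⟨x, hxS⟩ :=
      closure_minimal (Set.singleton_subset_iff.2 (specializes_iff_mem_closure.1
        ((subtype_specializes_iff (⟨x, hxS⟩ : CohB1.support F) ⟨x', hx'S⟩).2 hspec))) isClosed_closure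
    refine lt_of_le_of_ne hle fun e => hne ?_
    have hmem : (⟨x, hxS⟩ : CohB1.support F) ∈ (C ⟨x', hx'S⟩ : Set (CohB1.support F)) := by
      rw [e]; exact subset_closure rfl
    have h2 : x' ⤳ x := (subtype_specializes_iff (⟨x', hx'S⟩ : CohB1.support F) ⟨x, hxS⟩).1
      (specializes_iff_mem_closure.2 hmem)
    exact (h2.antisymm hspec).eq
  let s : LTSeries (IrreducibleCloseds (CohB1.support F)) := LTSeries.mk 1 ![C ⟨x', hx'S⟩, C ⟨x, hxS⟩]
    (Fin.strictMono_iff_lt_succ.2 fun i => by fin_cases i; exact hlt)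
  have := Order.LTSeries.length_le_krullDim s
  exact_mod_cast this

lemma decMult_eq (F : X.Modules) : DecSh.mult k X L F = HilbPoly.mult k L 1 F := by
  rfl

/-- The multiplicity in dimension one, as coefficient. -/
lemma alpha_one_eq_decMult (hL : CohB1.IsAmple L) {F : X.Modules} (hF : Coh.IsCoh F)
    (hd : topologicalKrullDim ↥(CohB1.support F) ≤ ((1 : ℕ) : WithBot ℕ∞)) {P : ℚ[X]}
    (hP : ShStab.IsHilbPoly k X L F P) : alpha 1 P = (DecSh.mult k X L F : ℚ) := by
  rw [(HilbPoly.hilb_props hL.1 hF hd hP).2, decMult_eq]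

lemma decMult_iso {F G : X.Modules} (e : F ≅ G) : DecSh.mult k X L F = DecSh.mult k X L G := by
  simp only [DecSh.mult]
  rw [(HilbPoly.additive_euler k).iso _ _ ⟨e⟩,
    (HilbPoly.additive_euler k).iso (CohB1.tensorMod F L) (CohB1.tensorMod G L) ⟨(AmpleVan.tw L).mapIso e⟩]

/-- Multiplicities along a monomorphism into a pure one-dimensional module. -/
theorem decMult_mono (hdim : topologicalKrullDim X = 1) (hL : CohB1.IsAmple L) {E F : X.Modules}
    (hE : Coh.IsCoh E) (hp : ShStab.IsPure X E 1) (ι : F ⟶ E) [Mono ι] (hF : Coh.IsCoh F) (h0 : ¬ IsZero F) :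
    1 ≤ DecSh.mult k X L F ∧ DecSh.mult k X L F ≤ DecSh.mult k X L E := by
  haveI : IsNoetherian X := CurveCohLib.isNoetherian_of_proper (k := k)
  have hdF : topologicalKrullDim ↥(CohB1.support F) = ((1 : ℕ) : WithBot ℕ∞) := hp F ι inferInstance hF h0
  have hQ : Coh.IsCoh (cokernel ι) := QCoh.isCoh_cokernel hF.1 hE ι
  have hdQ : topologicalKrullDim ↥(CohB1.support (cokernel ι)) ≤ ((1 : ℕ) : WithBot ℕ∞) :=
    (topologicalKrullDim_subspace_le X _).trans hdim.le
  constructor
  · rw [decMult_eq]
    exact (HilbPoly.mult_nonneg_and_pos k hL 1 F hF hdF.le).2 hdF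
  · rw [decMult_eq, decMult_eq]
    have hadd := (HilbPoly.additive_lead (HilbPoly.additive_euler k) hL.1 1).add
      (ShortComplex.mk ι (cokernel.π ι) (cokernel.condition ι))
      (.mk' (ShortComplex.exact_of_g_is_cokernel _ (cokernelIsCokernel ι)) inferInstance inferInstance) hF hE hQ
    have := (HilbPoly.mult_nonneg_and_pos k hL 1 _ hQ hdQ).1
    simp only [HilbPoly.mult] at this ⊢
    dsimp only at hadd
    omega

end Groth.Agent.ShStabX
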