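import Groth.Agent.ShStabX.Curve

/-!
# Bounds for the function `μ` of a tensor field
-/

set_option linter.style.haveILetI false
set_option linter.unusedSectionVars false
set_option backward.isDefEq.respectTransparency false
set_option backward.isDefEq.respectTransparency.types false

universe v u

open CategoryTheory CategoryTheory.Limits AlgebraicGeometry

noncomputable section

namespace Groth.Agent.ShStabX

open Groth.Agent

section Generic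

variable {C : Type u} [Category.{v} C] {E : C} (𝓕 : DecSh.WFilt E) (αE : ℤ) (α : Subobject E → ℤ) {a : ℕ}

lemma gam_term_bounds (h : ∀ i, 1 ≤ α (𝓕.piece i) ∧ α (𝓕.piece i) ≤ αE) (I : Fin a → Fin (𝓕.t + 1)) (i : Fin 𝓕.t) :
    (a : ℚ) * (α (𝓕.piece i) : ℚ) - (a : ℚ) * (αE : ℚ) ≤
        (a : ℚ) * (α (𝓕.piece i) : ℚ) - (𝓕.nu αE α I i : ℚ) * (αE : ℚ) ∧
      |(a : ℚ) * (α (𝓕.piece i) : ℚ) - (𝓕.nu αE α I i : ℚ) * (αE : ℚ)| ≤ (a : ℚ) * ((αE : ℚ) - 1) := by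
  obtain ⟨h1, h2⟩ := h i
  have hν : (𝓕.nu αE α I i : ℚ) ≤ (a : ℚ) := by
    have : 𝓕.nu αE α I i ≤ a := (Finset.card_filter_le _ _).trans_eq (Finset.card_fin a)
    exact_mod_cast this
  have q1 : (1 : ℚ) ≤ (α (𝓕.piece i) : ℚ) := by exact_mod_cast h1
  have q2 : (α (𝓕.piece i) : ℚ) ≤ (αE : ℚ) := by exact_mod_cast h2
  have ha : (0 : ℚ) ≤ (a : ℚ) := Nat.cast_nonneg a
  have hlow : (a : ℚ) * (α (𝓕.piece i) : ℚ) - (a : ℚ) * (αE : ℚ) ≤
      (a : ℚ) * (α (𝓕.piece i) : ℚ) - (𝓕.nu αE α I i : ℚ) * (αE : ℚ) := by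
    have := mul_le_mul_of_nonneg_right hν (by linarith : (0 : ℚ) ≤ (αE : ℚ))
    linarith
  refine ⟨hlow, abs_le.2 ⟨?_, ?_⟩⟩
  · have := mul_le_mul_of_nonneg_left q1 ha
    linarith
  · rcases h2.lt_or_eq with hlt | heq
    · have : (α (𝓕.piece i) : ℚ) + 1 ≤ (αE : ℚ) := by exact_mod_cast hlt
      have h3 := mul_le_mul_of_nonneg_left this ha
      have h4 : (0 : ℚ) ≤ (𝓕.nu αE α I i : ℚ) * (αE : ℚ) := mul_nonneg (Nat.cast_nonneg _) (by linarith)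
      linarith
    · have hall : 𝓕.nu αE α I i = a := by
        rw [DecSh.WFilt.nu, Finset.filter_true_of_mem fun j _ => ?_, Finset.card_fin]
        generalize I j = q
        induction q using Fin.lastCases with
        | last => rw [DecSh.WFilt.mulX_last, heq]
        | cast q => rw [DecSh.WFilt.mulX_castSucc, heq]; exact (h q).2
      rw [hall, heq, sub_self]
      exact mul_nonneg ha (by linarith)

lemma abs_mu_le (h : ∀ i, 1 ≤ α (𝓕.piece i) ∧ α (𝓕.piece i) ≤ αE) (N : DecSh.NV E a) :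
    |𝓕.mu αE α N| ≤ (∑ i, 𝓕.wt i) * (a : ℚ) * ((αE : ℚ) - 1) := by
  obtain ⟨I, -, hI⟩ := 𝓕.exists_gam_eq_mu αE α N
  rw [← hI, DecSh.WFilt.gam, Finset.sum_mul, Finset.sum_mul]
  refine (Finset.abs_sum_le_sum_abs _ _).trans (Finset.sum_le_sum fun i _ => ?_)
  rw [abs_mul, abs_of_pos (𝓕.wt_pos i), mul_assoc]
  exact mul_le_mul_of_nonneg_left (gam_term_bounds 𝓕 αE α h I i).2 (𝓕.wt_pos i).le

lemma le_mu (h : ∀ i, 1 ≤ α (𝓕.piece i) ∧ α (𝓕.piece i) ≤ αE) (N : DecSh.NV E a) :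
    ∑ i, 𝓕.wt i * ((a : ℚ) * (α (𝓕.piece i) : ℚ) - (a : ℚ) * (αE : ℚ)) ≤ 𝓕.mu αE α N := by
  obtain ⟨I, -, hI⟩ := 𝓕.exists_gam_eq_mu αE α N
  rw [← hI, DecSh.WFilt.gam]
  exact Finset.sum_le_sum fun i _ =>
    mul_le_mul_of_nonneg_left (gam_term_bounds 𝓕 αE α h I i).1 (𝓕.wt_pos i).le

lemma mu_le_sub_add (h : ∀ i, 1 ≤ α (𝓕.piece i) ∧ α (𝓕.piece i) ≤ αE) (N : DecSh.NV E a)
    (𝓖 : DecSh.WFilt E) (e : Fin 𝓖.t → Fin 𝓕.t) (hpiece : ∀ j, 𝓖.piece j = 𝓕.piece (e j))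
    (hwt : ∀ j, 𝓖.wt j = 𝓕.wt (e j)) :
    𝓕.mu αE α N ≤ 𝓖.mu αE α N + ((∑ i, 𝓕.wt i) - ∑ j, 𝓖.wt j) * (a : ℚ) * ((αE : ℚ) - 1) := by
  classical
  obtain ⟨I, hIa, hI⟩ := 𝓖.exists_gam_eq_mu αE α N
  let ext : Fin (𝓖.t + 1) → Fin (𝓕.t + 1) := Fin.lastCases (Fin.last _) fun j => (e j).castSucc
  have hX : ∀ q, 𝓕.pieceX (ext q) = 𝓖.pieceX q ∧ 𝓕.mulX αE α (ext q) = 𝓖.mulX αE α q := by
    intro q
    induction q using Fin.lastCases with
    | last => simp [ext]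
    | cast q => simp [ext, hpiece]
  have hJ : 𝓕.Adm N (fun j => ext (I j)) := by
    show N.nz _
    rw [funext fun j => (hX (I j)).1]
    exact hIa
  refine (𝓕.mu_le_gam αE α N hJ).trans ?_
  have hinj : Function.Injective e := fun x y hxy =>
    𝓖.piece_strictMono.injective (by rw [hpiece, hpiece, hxy])
  have hterm : ∀ j, 𝓕.nu αE α (fun l => ext (I l)) (e j) = 𝓖.nu αE α I j := fun j => by
    simp only [DecSh.WFilt.nu, hpiece]
    congr 1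
    exact Finset.filter_congr fun l _ => by rw [(hX (I l)).2]
  let T : Finset (Fin 𝓕.t) := Finset.univ.image e
  let f : Fin 𝓕.t → ℚ := fun i => 𝓕.wt i * ((a : ℚ) * (α (𝓕.piece i) : ℚ) -
    (𝓕.nu αE α (fun l => ext (I l)) i : ℚ) * (αE : ℚ))
  have h1 : ∑ i ∈ T, f i = 𝓖.mu αE α N := by
    rw [← hI, DecSh.WFilt.gam, Finset.sum_image fun x _ y _ hxy => hinj hxy]
    exact Finset.sum_congr rfl fun j _ => by simp only [f, hterm, hpiece, hwt]
  have h2 : ∑ i ∈ T, 𝓕.wt i = ∑ j, 𝓖.wt j := by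
    rw [Finset.sum_image fun x _ y _ hxy => hinj hxy]
    exact Finset.sum_congr rfl fun j _ => (hwt j).symm
  have h3 : ∑ i ∈ Finset.univ \ T, f i ≤ (∑ i ∈ Finset.univ \ T, 𝓕.wt i) * (a : ℚ) * ((αE : ℚ) - 1) := by
    rw [Finset.sum_mul, Finset.sum_mul]
    refine Finset.sum_le_sum fun i _ => ?_
    rw [mul_assoc]
    exact mul_le_mul_of_nonneg_left ((le_abs_self _).trans (gam_term_bounds 𝓕 αE α h _ i).2) (𝓕.wt_pos i).le
  have e1 := Finset.sum_sdiff (f := f) (Finset.subset_univ T)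
  have e2 := Finset.sum_sdiff (f := 𝓕.wt) (Finset.subset_univ T)
  show ∑ i, f i ≤ _
  rw [← e1, ← e2, h1, h2]
  linarith

end Generic

variable {X : Scheme.{u}} {k : Type u} [Field k] [X.Over (Spec (CommRingCat.of k))]
  [IsProper (X ↘ Spec (CommRingCat.of k))] {L E : X.Modules}

/-- The multiplicities of the pieces of a weighted filtration of a pure one-dimensional module. -/
theorem piece_bounds (hdim : topologicalKrullDim X = 1) (hL : CohB1.IsAmple L) (hE : Coh.IsCoh E)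
    (hp : ShStab.IsPure X E 1) (𝓕 : DecSh.WFilt E) (hcoh : ∀ i, Coh.IsCoh ((𝓕.piece i : Subobject E) : X.Modules))
    (i : Fin 𝓕.t) : 1 ≤ DecSh.mult k X L ((𝓕.piece i : Subobject E) : X.Modules) ∧
      DecSh.mult k X L ((𝓕.piece i : Subobject E) : X.Modules) ≤ DecSh.mult k X L E :=
  decMult_mono hdim hL hE hp (𝓕.piece i).arrow (hcoh i) (𝓕.piece_nonzero i)

/-- The one-step filtration of a submodule. -/
theorem exists_single {F : X.Modules} (ι : F ⟶ E) [Mono ι] (hF : Coh.IsCoh F) (hF0 : ¬ IsZero F) (hι : ¬ IsIso ι) :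
    ∃ 𝓕 : DecSh.WFilt E, (∀ i, Coh.IsCoh ((𝓕.piece i : Subobject E) : X.Modules)) ∧
      ∃ (i₀ : Fin 𝓕.t) (e : ((𝓕.piece i₀ : Subobject E) : X.Modules) ≅ F),
        e.hom ≫ ι = (𝓕.piece i₀).arrow ∧ (∀ g : Fin 𝓕.t → ℚ, ∑ i, g i = g i₀) ∧ 𝓕.wt i₀ = 1 := by
  have htop : Subobject.mk ι ≠ ⊤ := fun h => hι ((Subobject.isIso_iff_mk_eq_top ι).2 h)
  have h0 : ¬ IsZero (Subobject.mk ι : X.Modules) := fun hz => hF0 (hz.of_iso (Subobject.underlyingIso ι).symm)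
  refine ⟨DecSh.WFilt.single _ htop h0, fun i => HilbPoly.isCoh_of_iso (Subobject.underlyingIso ι).symm hF,
    ⟨0, Nat.one_pos⟩, Subobject.underlyingIso ι, Subobject.underlyingIso_hom_comp_eq_mk ι, fun g => ?_, rfl⟩
  haveI : Subsingleton (Fin (DecSh.WFilt.single _ htop h0).t) := inferInstanceAs (Subsingleton (Fin 1))
  exact Fintype.sum_subsingleton g _

lemma euler_iso {F G : X.Modules} (e : F ≅ G) : Curv2.euler k X F = Curv2.euler k X G :=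
  (HilbPoly.additive_euler k).iso _ _ ⟨e⟩

theorem slope_bound (hdim : topologicalKrullDim X = 1) (hL : CohB1.IsAmple L) (hE : Coh.IsCoh E)
    (hp : ShStab.IsPure X E 1) {D : X.Modules} {a b : ℕ} (T : DecSh.TF E a b D) {δ : ℚ} (hδ : 0 < δ)
    (hT : T.IsSemistable k L δ) {F : X.Modules} (ι : F ⟶ E) [Mono ι] (hF : Coh.IsCoh F) (hF0 : ¬ IsZero F)
    (hι : ¬ IsIso ι) :
    (DecSh.mult k X L E : ℚ) * (Curv2.euler k X F : ℚ) - (DecSh.mult k X L F : ℚ) * (Curv2.euler k X E : ℚ)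
      ≤ δ * (a : ℚ) * ((DecSh.mult k X L E : ℚ) - (DecSh.mult k X L F : ℚ)) := by
  obtain ⟨𝓕, hcoh, i₀, e, -, hsum, hw⟩ := exists_single ι hF hF0 hι
  have h := hT 𝓕 hcoh
  have hlow := le_mu 𝓕 _ (fun P => DecSh.mult k X L (P : X.Modules)) (piece_bounds hdim hL hE hp 𝓕 hcoh) T.nv
  simp only [DecSh.WFilt.msum] at h
  rw [hsum] at h hlow
  rw [hw, one_mul] at h hlow
  rw [decMult_iso (k := k) (L := L) e, euler_iso (k := k) e] at h
  rw [decMult_iso (k := k) (L := L) e] at hlow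
  have := mul_le_mul_of_nonneg_left hlow hδ.le
  linarith

theorem par_slope_bound (hdim : topologicalKrullDim X = 1) (hL : CohB1.IsAmple L) (hE : Coh.IsCoh E)
    (hp : ShStab.IsPure X E 1) {ν : ℕ} (I : Fin ν → X.IdealSheafData) (K : ∀ i, Submodule k (ParSh.fibD X (I i) E))
    {r : ℕ} (hr : 0 < r) (hK : ∀ i, Module.finrank k (ParSh.fibD X (I i) E ⧸ K i) = r) (κ : Fin ν → ℚ)
    (hκ : ∀ i, 0 < κ i ∧ κ i < 1) {D : X.Modules} {a b : ℕ} (T : DecSh.TF E a b D) {δ : ℚ} (hδ : 0 < δ)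
    (hT : T.IsParSemistable k I K κ L δ) {F : X.Modules} (ι : F ⟶ E) [Mono ι] (hF : Coh.IsCoh F)
    (hF0 : ¬ IsZero F) (hι : ¬ IsIso ι) :
    (Curv2.euler k X F : ℚ) / (DecSh.mult k X L F : ℚ) ≤
      (Curv2.euler k X E : ℚ) / (DecSh.mult k X L E : ℚ) + ((a : ℚ) * δ + (r : ℚ) * (ν : ℚ)) := by
  obtain ⟨𝓕, hcoh, i₀, e, -, hsum, hw⟩ := exists_single ι hF hF0 hι
  have hb := piece_bounds (k := k) hdim hL hE hp 𝓕 hcoh
  have h := hT 𝓕 hcoh
  have hlow := le_mu 𝓕 _ (fun P => DecSh.mult k X L (P : X.Modules)) hb T.nv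
  simp only [DecSh.WFilt.msum] at h
  rw [hsum] at h hlow
  rw [hw, one_mul] at h hlow
  have hPE : DecSh.parChi k I K κ (𝟙 E) ≤ (Curv2.euler k X E : ℚ) := by
    rw [DecSh.parChi, sub_le_self_iff]
    exact Finset.sum_nonneg fun i _ => mul_nonneg (hκ i).1.le (Nat.cast_nonneg _)
  have hPF : (Curv2.euler k X ((𝓕.piece i₀ : Subobject E) : X.Modules) : ℚ) - (r : ℚ) * (ν : ℚ) ≤
      DecSh.parChi k I K κ (𝓕.piece i₀).arrow := by
    rw [DecSh.parChi]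
    refine sub_le_sub_left ?_ _
    have hsum' : ((r : ℚ) * (ν : ℚ)) = ∑ _i : Fin ν, (r : ℚ) := by
      simp [Finset.sum_const, mul_comm]
    rw [hsum']
    refine Finset.sum_le_sum fun i _ => ?_
    haveI : FiniteDimensional k (ParSh.fibD X (I i) E ⧸ K i) := Module.finite_of_finrank_pos (by rw [hK i]; exact hr)
    calc κ i * _ ≤ 1 * _ := mul_le_mul_of_nonneg_right (hκ i).2.le (Nat.cast_nonneg _)
      _ ≤ (r : ℚ) := by
        rw [one_mul]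
        exact_mod_cast (Submodule.finrank_le _).trans_eq (hK i)
  rw [euler_iso (k := k) e] at hPF
  obtain ⟨h1, h2⟩ := hb i₀
  rw [decMult_iso (k := k) (L := L) e] at h1 h2 hlow
  rw [decMult_iso (k := k) (L := L) e] at h
  have q1 : (1 : ℚ) ≤ (DecSh.mult k X L F : ℚ) := by exact_mod_cast h1
  have q2 : (DecSh.mult k X L F : ℚ) ≤ (DecSh.mult k X L E : ℚ) := by exact_mod_cast h2
  have p1 := mul_le_mul_of_nonneg_left hPF (by linarith : (0 : ℚ) ≤ (DecSh.mult k X L E : ℚ))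
  have p2 := mul_le_mul_of_nonneg_left hPE (by linarith : (0 : ℚ) ≤ (DecSh.mult k X L F : ℚ))
  have p3 := mul_le_mul_of_nonneg_left hlow hδ.le
  have hc : (0 : ℚ) ≤ (DecSh.mult k X L E : ℚ) * ((a : ℚ) * δ + (r : ℚ) * (ν : ℚ)) :=
    mul_nonneg (by linarith) (add_nonneg (mul_nonneg (Nat.cast_nonneg _) hδ.le) (by positivity))
  have p4 := mul_le_mul_of_nonneg_right q1 hc
  have p5 : (0 : ℚ) ≤ δ * ((a : ℚ) * (DecSh.mult k X L F : ℚ)) :=
    mul_nonneg hδ.le (mul_nonneg (Nat.cast_nonneg _) (by linarith))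
  rw [div_add' _ _ _ (by linarith : (DecSh.mult k X L E : ℚ) ≠ 0), div_le_div_iff₀ (by linarith) (by linarith)]
  linarith

end Groth.Agent.ShStabX
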