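import Groth.Agent.HilbPoly.Sat
import Groth.Agent.FlatMisc.DimConstr

/-!
# Consequences of the stability inequalities
-/

set_option linter.style.haveILetI false
set_option linter.unusedSectionVars false
set_option backward.isDefEq.respectTransparency false
set_option backward.isDefEq.respectTransparency.types false

universe u

open CategoryTheory CategoryTheory.Limits AlgebraicGeometry Polynomial StabCat TopologicalSpace

noncomputable section

namespace Groth.Agent.ShStabX

open Groth.Agent

variable {X : Scheme.{u}} {k : Type u} [Field k] [X.Over (Spec (CommRingCat.of k))]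
  [IsProper (X ↘ Spec (CommRingCat.of k))] {L : X.Modules} {d : ℕ}

/-- Purity follows from the semistability inequality. -/
theorem isPure_of_isSS (hL : CohB1.IsAmple L) {E : X.Modules} (hE : Coh.IsCoh E)
    (hdim : topologicalKrullDim ↥(CohB1.support E) = (d : WithBot ℕ∞))
    (h : IsSS Coh.IsCoh (ShStab.IsHilbPoly k X L) d E) : ShStab.IsPure X E d := by
  haveI : IsNoetherian X := CurveCohLib.isNoetherian_of_proper (k := k)
  intro F ι hι hF hF0
  haveI := hι
  have hdF := HilbPoly.dim_mono hF hE ι hdim.le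
  refine le_antisymm hdF (le_of_not_gt fun hlt => ?_)
  by_cases hi : IsIso ι
  · haveI := hi
    exact absurd (hdim.ge.trans (H23.TopDim.dim_le_dim_of_subset (QCoh.mem_support_of_mono hE.1 hF.1 (inv ι)))) hlt.not_ge
  obtain ⟨pF, hpF, -, hαF⟩ := HilbPoly.exists_hilb (k := k) hL.1 hF hdF
  obtain ⟨pE, hpE, -, -⟩ := HilbPoly.exists_hilb (k := k) hL.1 hE hdim.le
  have hα0 : alpha d pF = 0 := by
    rw [hαF]
    exact_mod_cast HilbPoly.iterD_eq_zero d (HilbPoly.additive_euler k) _ List.length_replicate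
      (fun N hN => (List.eq_of_mem_replicate hN) ▸ hL.1) F hF hlt
  obtain ⟨N, hN⟩ := h F ι hι hF hF0 hi pF pE hpF hpE
  obtain ⟨N', hN'⟩ := HilbPoly.hilb_eventually_pos hL hF hF0 hdF hpF
  have a := hN (max N N') (le_max_left _ _)
  have b := hN' (max N N') (le_max_right _ _)
  simp only [hα0, zero_smul, eval_zero, eval_smul, smul_eq_mul] at a
  nlinarith [HilbPoly.alpha_pos hL hE hdim hpE]

/-- A semistable module of dimension `d ≥ 1` is slope semistable. -/
theorem isMuSS_of_isSS {E : X.Modules} (hd : 1 ≤ d) (hL : CohB1.IsAmple L) (hE : ShStab.IsSemistable k X L E d) :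
    ShStab.IsMuSemistable k X L E d := by
  obtain ⟨hc, h0, hp, hell⟩ := HilbPoly.isEllSemistable hL 1 hE
  refine ⟨hc, h0, HilbPoly.dim_of_isPure hp hc h0, fun F ι hι hFc he => ?_, fun F ι hι hFc pF pE hpF hpE hpos hlt => ?_⟩
  · by_cases hF0 : IsZero F
    · rw [QCoh.support_eq_empty_of_isZero hF0 hFc.1] at he
      haveI hE : IsEmpty (IrreducibleCloseds ↥(∅ : Set X)) :=
        ⟨fun s => s.2.1.ne_empty (Set.eq_empty_of_isEmpty s.1)⟩
      rw [topologicalKrullDim, Order.krullDim_eq_bot_iff.2 hE, WithBot.bot_add] at he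
      exact WithBot.bot_ne_coe he
    · rw [hp F ι hι hFc hF0] at he
      have h2 : (((d + 1 : ℕ) : ℕ∞) : WithBot ℕ∞) = ((d : ℕ∞) : WithBot ℕ∞) := he
      have h3 : d + 1 = d := by exact_mod_cast h2
      omega
  · obtain ⟨N, hN⟩ := hell F ι hι hFc pF pE hpF hpE hpos hlt
    have h := hN (N + 1) (Nat.le_succ N)
    have hI : Finset.Icc (d - 1) d = {d - 1, d} := by
      ext x; simp only [Finset.mem_Icc, Finset.mem_insert, Finset.mem_singleton]; omega
    simp only [topPart, hI, Finset.sum_pair (show d - 1 ≠ d by omega), alpha, eval_smul, eval_add,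
      eval_monomial, smul_eq_mul, coeff_add, coeff_monomial, if_true, show ¬ d - 1 = d from by omega,
      if_false, zero_add] at h
    simp only [hatSlope]
    rw [div_le_div_iff₀ hpos (hpos.trans hlt)]
    simp only [alpha]
    have hp' : (0 : ℚ) < ((N + 1 : ℕ) : ℚ) ^ (d - 1) := by positivity
    have hkey : pF.coeff (d - 1) * ((d.factorial : ℚ) * pE.coeff d) ≤ pE.coeff (d - 1) * ((d.factorial : ℚ) * pF.coeff d) :=
      le_of_mul_le_mul_right (by linarith) hp'
    have := mul_le_mul_of_nonneg_left hkey (show (0 : ℚ) ≤ ((d - 1).factorial : ℚ) by positivity)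
    linarith

/-- The dimension of a proper scheme over a field is finite. -/
theorem exists_dim_le_nat (k : Type u) [Field k] {X : Scheme.{u}} [X.Over (Spec (CommRingCat.of k))]
    [IsProper (X ↘ Spec (CommRingCat.of k))] : ∃ n : ℕ, topologicalKrullDim ↥X ≤ (n : WithBot ℕ∞) := by
  let f := X ↘ Spec (CommRingCat.of k)
  let y : ↥(Spec (CommRingCat.of k)) := IsLocalRing.closedPoint k
  haveI : LocallyOfFinitePresentation f := inferInstance
  obtain ⟨n, hn⟩ := FlatMisc.DimConstr.exists_dim_le f y
  refine ⟨n, le_trans (Eq.le ?_) hn⟩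
  have e : Set.range (f.fiberι y) = Set.univ := by
    rw [Scheme.Hom.range_fiberι]
    exact Set.eq_univ_of_forall fun x => Subsingleton.elim _ _
  exact (IsHomeomorph.topologicalKrullDim_eq _
    ((f.fiberι y).isEmbedding.toHomeomorph.trans ((Homeomorph.setCongr e).trans (Homeomorph.Set.univ _))).isHomeomorph).symm

/-- Hilbert polynomials along a monomorphism. -/
theorem polyLE_of_mono (hL : CohB1.IsAmple L) {E E' : X.Modules} (hE : Coh.IsCoh E) (hE' : Coh.IsCoh E')
    (ι : E ⟶ E') [Mono ι] {n : ℕ} (hn : topologicalKrullDim ↥(CohB1.support E') ≤ (n : WithBot ℕ∞))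
    {pE pE' : ℚ[X]} (hpE : ShStab.IsHilbPoly k X L E pE) (hpE' : ShStab.IsHilbPoly k X L E' pE') :
    PolyLE pE pE' ∧ (topologicalKrullDim ↥(CohB1.support (cokernel ι)) < (d : WithBot ℕ∞) →
      alpha d pE = alpha d pE') := by
  haveI : IsNoetherian X := CurveCohLib.isNoetherian_of_proper (k := k)
  obtain ⟨hQ, hdQ, hpQ⟩ := HilbPoly.cokernel_data hL hE hE' hn ι hpE hpE'
  refine ⟨?_, fun hlt => ?_⟩
  · obtain ⟨N, hN⟩ := HilbPoly.hilb_nonneg hL hQ hdQ hpQ
    exact ⟨N, fun m hm => by have := hN m hm; simp only [eval_zero, eval_sub] at this; linarith⟩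
  · have h := (HilbPoly.hilb_props (k := k) hL.1 hQ hlt.le hpQ).2
    rw [show HilbPoly.mult k L d (cokernel ι) = 0 from HilbPoly.iterD_eq_zero d (HilbPoly.additive_euler k) _
      List.length_replicate (fun N hN => (List.eq_of_mem_replicate hN) ▸ hL.1) _ hQ hlt, Int.cast_zero,
      alpha, coeff_sub] at h
    simp only [alpha]
    linarith

end Groth.Agent.ShStabX
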