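import Groth.Agent.ShStabX.TP
import Groth.Agent.CurveBC.Geometry
import Groth.Agent.H23.PicMul
import Groth.Agent.KFlatLib.Scheme.FlatDescent
import Groth.Agent.ZClosLib.CohDescent
import Groth.Agent.AmpleVan.Vanish
import Groth.Agent.Lib.CurveDeg

/-!
# Hilbert polynomials and semistability under extension of the base field
-/

set_option linter.style.haveILetI false
set_option linter.unusedSectionVars false
set_option backward.isDefEq.respectTransparency false
set_option backward.isDefEq.respectTransparency.types false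

universe u

open CategoryTheory CategoryTheory.Limits AlgebraicGeometry Polynomial StabCat TopologicalSpace

noncomputable section

namespace Groth.Agent.ShStabX

open Groth.Agent

/-- Pullback commutes with tensor powers. -/
theorem nonempty_pull_tensorPow {X Y : Scheme.{u}} (f : Y ⟶ X) (L : X.Modules) (n : ℕ) :
    Nonempty ((Scheme.Modules.pullback f).obj (CohB1.tensorPow L n) ≅
      CohB1.tensorPow ((Scheme.Modules.pullback f).obj L) n) := by
  induction n with
  | zero => exact ⟨CurveBC.unitIso f⟩
  | succ n ih =>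
    obtain ⟨e⟩ := ih
    obtain ⟨p⟩ := H23.PicMul.pull f (CohB1.tensorPow L n) L
    exact ⟨p ≪≫ PicGrp.tensorModIso e (Iso.refl _)⟩

/-- Pullback commutes with twists. -/
theorem nonempty_pull_twist {X Y : Scheme.{u}} (f : Y ⟶ X) (L E : X.Modules) (n : ℕ) :
    Nonempty ((Scheme.Modules.pullback f).obj (ShStab.twist X L E n) ≅
      ShStab.twist Y ((Scheme.Modules.pullback f).obj L) ((Scheme.Modules.pullback f).obj E) n) := by
  obtain ⟨p⟩ := H23.PicMul.pull f E (CohB1.tensorPow L n)
  obtain ⟨e⟩ := nonempty_pull_tensorPow f L n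
  exact ⟨p ≪≫ PicGrp.tensorModIso (Iso.refl _) e⟩

variable (k : Type u) [Field k] {X : Scheme.{u}} [X.Over (Spec (CommRingCat.of k))]
  [IsProper (X ↘ Spec (CommRingCat.of k))]
  (K : Type u) [Field K] [Algebra k K] {X' : Scheme.{u}} [X'.Over (Spec (CommRingCat.of K))]
  (g : X' ⟶ X)
  (hpb : IsPullback g (X' ↘ Spec (CommRingCat.of K)) (X ↘ Spec (CommRingCat.of k))
      (Spec.map (CommRingCat.ofHom (algebraMap k K))))

include hpb

/-- Hilbert polynomials do not change under extension of the base field. -/
theorem isHilbPoly_bc_iff {L E : X.Modules} (hL : PicF.IsInvertible L) (hE : Coh.IsCoh E) (P : ℚ[X]) :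
    ShStab.IsHilbPoly K X' ((Scheme.Modules.pullback g).obj L) ((Scheme.Modules.pullback g).obj E) P ↔
      ShStab.IsHilbPoly k X L E P := by
  haveI := QuasiCompact.compactSpace_of_compactSpace (X ↘ Spec (CommRingCat.of k))
  haveI := quasiSeparatedSpace_of_quasiSeparated (X ↘ Spec (CommRingCat.of k))
  haveI : IsNoetherian X := CurveCohLib.isNoetherian_of_proper (k := k)
  refine forall_congr' fun m => ?_
  obtain ⟨e⟩ := nonempty_pull_twist g L E m
  have hc : Coh.IsQCoh (ShStab.twist X L E m) :=
    (AmpleVan.isCoh_tensor hE (CurveDeg.isCoh_of_isInvertible (InvX.isInvertible_tensorPow hL m))).1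
  rw [← CurveCohLib.euler_congr (k := K) e, CurveBC.euler_eq k K g hpb _ hc]

/-- Coherence of the pullback. -/
theorem isCoh_bc {E : X.Modules} (hE : Coh.IsCoh E) :
    Coh.IsCoh ((Scheme.Modules.pullback g).obj E) := ZClosLib.isCoh_pullback g hE

/-- The pullback of a monomorphism is a monomorphism. -/
theorem mono_bc {F E : X.Modules} (ι : F ⟶ E) [Mono ι] : Mono ((Scheme.Modules.pullback g).map ι) := by
  haveI := (CurveBC.flat_surjective k K g hpb).1
  haveI := KFlatLib.preservesHomology_pullback g
  exact (Scheme.Modules.pullback g).map_mono ι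

/-- The pullback detects zero. -/
theorem isZero_bc_iff {E : X.Modules} : IsZero ((Scheme.Modules.pullback g).obj E) ↔ IsZero E := by
  obtain ⟨h1, h2⟩ := CurveBC.flat_surjective k K g hpb
  haveI := h1; haveI := h2
  exact ⟨KFlatLib.isZero_of_isZero_pullback g E, fun h => (Scheme.Modules.pullback g).map_isZero h⟩

/-- The pullback reflects isomorphisms. -/
theorem isIso_of_isIso_bc {F E : X.Modules} (ι : F ⟶ E) [IsIso ((Scheme.Modules.pullback g).map ι)] :
    IsIso ι := by
  haveI := (CurveBC.flat_surjective k K g hpb).1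
  haveI := KFlatLib.preservesHomology_pullback g
  haveI := Functor.PreservesHomology.preservesKernel (Scheme.Modules.pullback g) ι
  haveI := Functor.PreservesHomology.preservesCokernel (Scheme.Modules.pullback g) ι
  have hker : IsZero (kernel ι) := (isZero_bc_iff k K g hpb).1
    ((isZero_kernel_of_mono ((Scheme.Modules.pullback g).map ι)).of_iso
      (PreservesKernel.iso (Scheme.Modules.pullback g) ι))
  have hcok : IsZero (cokernel ι) := (isZero_bc_iff k K g hpb).1
    ((isZero_cokernel_of_epi ((Scheme.Modules.pullback g).map ι)).of_iso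
      (PreservesCokernel.iso (Scheme.Modules.pullback g) ι))
  haveI : Mono ι := Preadditive.mono_of_isZero_kernel _ hker
  haveI : Epi ι := Preadditive.epi_of_isZero_cokernel _ hcok
  exact isIso_of_mono_of_epi ι

/-- Semistability descends along extensions of the base field. -/
theorem isSemistable_of_bc {L E : X.Modules} {d : ℕ} (hL : PicF.IsInvertible L) (hE : Coh.IsCoh E)
    (hp : ShStab.IsPure X E d)
    (h : ShStab.IsSemistable K X' ((Scheme.Modules.pullback g).obj L) ((Scheme.Modules.pullback g).obj E) d) :
    ShStab.IsSemistable k X L E d := by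
  refine ⟨hE, fun h0 => h.2.1 ((isZero_bc_iff k K g hpb).2 h0), hp, fun F ι hι hF h0 hi pF pE hpF hpE => ?_⟩
  haveI := hι
  exact h.2.2.2 _ ((Scheme.Modules.pullback g).map ι) (mono_bc k K g hpb ι) (isCoh_bc k K g hpb hF)
    (fun hz => h0 ((isZero_bc_iff k K g hpb).1 hz)) (fun hiso => hi (isIso_of_isIso_bc k K g hpb ι))
    pF pE ((isHilbPoly_bc_iff k K g hpb hL hF pF).2 hpF) ((isHilbPoly_bc_iff k K g hpb hL hE pE).2 hpE)

end Groth.Agent.ShStabX
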