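import Groth.Agent.ShStabX.CurveTwo

/-!
# Sections, Euler characteristics and twists in dimension one
-/

set_option linter.style.haveILetI false
set_option linter.unusedSectionVars false
set_option backward.isDefEq.respectTransparency false
set_option backward.isDefEq.respectTransparency.types false

universe u

open CategoryTheory CategoryTheory.Limits AlgebraicGeometry Polynomial TopologicalSpace

attribute [local instance] HasDerivedCategory.standard

noncomputable section

namespace Groth.Agent.ShStabX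

open Groth.Agent
open scoped Groth.Agent.H23.PicMul

variable {X : Scheme.{u}} (k : Type u) [Field k] [X.Over (Spec (CommRingCat.of k))]

/-- The dimension of the space of global sections. -/
def h0 (M : X.Modules) : ℕ := Module.finrank k (Coh.structureModule X ⟶ M)

lemma h0_eq (M : X.Modules) : h0 k M = Module.finrank k (Coh.HH X M 0) :=
  (LinearEquiv.ofBijective _ (RegEpi.evalOneLin_bijective k M)).finrank_eq

lemma h0_iso {M N : X.Modules} (e : M ≅ N) : h0 k M = h0 k N :=
  ((LinearEquiv.ofBijective (Linear.rightComp k _ e.hom)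
    ⟨fun a b h => (cancel_mono e.hom).1 h, fun c => ⟨c ≫ e.inv, by simp⟩⟩)).finrank_eq

variable [IsProper (X ↘ Spec (CommRingCat.of k))]

lemma finite_sections {M : X.Modules} (hM : Coh.IsCoh M) : Module.Finite k (Coh.structureModule X ⟶ M) := by
  haveI : IsNoetherian X := CurveCohLib.isNoetherian_of_proper (k := k)
  exact ASBunK.finite_hom k QCoh.isCoh_structureModule' hM

lemma h0_mono {A B : X.Modules} (f : A ⟶ B) [Mono f] (hB : Coh.IsCoh B) : h0 k A ≤ h0 k B := by
  haveI := finite_sections k hB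
  exact LinearMap.finrank_le_finrank_of_injective (f := Linear.rightComp k (Coh.structureModule X) f)
    (fun a b h => (cancel_mono f).1 h)

/-- Global sections are left exact. -/
lemma h0_shortExact {S : ShortComplex X.Modules} (hS : S.ShortExact) (h₂ : Coh.IsCoh S.X₂)
    (h₃ : Coh.IsCoh S.X₃) :
    h0 k S.X₂ ≤ h0 k S.X₁ + h0 k S.X₃ ∧
      (h0 k S.X₂ = h0 k S.X₁ + h0 k S.X₃ ↔ ∀ φ : Coh.structureModule X ⟶ S.X₃, ∃ ψ, ψ ≫ S.g = φ) := by
  haveI := finite_sections k h₂
  haveI := finite_sections k h₃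
  haveI := hS.mono_f
  let g := Linear.rightComp k (Coh.structureModule X) S.g
  let f := Linear.rightComp k (Coh.structureModule X) S.f
  have hker : LinearMap.ker g = LinearMap.range f := by
    ext x
    refine ⟨fun hx => ⟨hS.exact.lift x hx, hS.exact.lift_f x hx⟩, ?_⟩
    rintro ⟨y, rfl⟩
    show (y ≫ S.f) ≫ S.g = 0
    rw [Category.assoc, S.zero, Limits.comp_zero]
  have h1 := LinearMap.finrank_range_add_finrank_ker g
  have h2 : Module.finrank k (LinearMap.ker g) = h0 k S.X₁ := by
    rw [hker, LinearMap.finrank_range_of_inj (f := f) (fun a b h => (cancel_mono S.f).1 h)]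
    rfl
  have h3 := Submodule.finrank_le (LinearMap.range g)
  simp only [h0] at *
  refine ⟨by omega, ?_⟩
  have h4 : (∀ φ : Coh.structureModule X ⟶ S.X₃, ∃ ψ, ψ ≫ S.g = φ) ↔ LinearMap.range g = ⊤ := by
    rw [LinearMap.range_eq_top]; rfl
  rw [h4]
  constructor
  · intro h
    exact Submodule.eq_top_of_finrank_eq (by omega)
  · intro h
    rw [h, finrank_top] at h1
    omega

include k in
/-- Cohomology above degree one vanishes. -/
lemma subsingleton_HH_ge_two (hdim : topologicalKrullDim X ≤ ((1 : ℕ) : WithBot ℕ∞)) (M : X.Modules) :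
    ∀ i, 2 ≤ i → Subsingleton (Coh.HH X M i) := fun i hi => by
  haveI : IsNoetherian X := CurveCohLib.isNoetherian_of_proper (k := k)
  exact GrothVanish.subsingleton_H_of_dim_lt hdim _ hi

lemma euler_eq (hdim : topologicalKrullDim X ≤ ((1 : ℕ) : WithBot ℕ∞)) (M : X.Modules) :
    Curv2.euler k X M = (h0 k M : ℤ) - Module.finrank k (Coh.HH X M 1) := by
  rw [CurveCohLib.euler_eq_sum (k := k) (N := 2) (subsingleton_HH_ge_two k hdim M), h0_eq,
    Finset.sum_range_succ, Finset.sum_range_one]
  ring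

lemma euler_le_h0 (hdim : topologicalKrullDim X ≤ ((1 : ℕ) : WithBot ℕ∞)) (M : X.Modules) :
    Curv2.euler k X M ≤ h0 k M := by
  rw [euler_eq k hdim M]; omega

omit [X.Over (Spec (CommRingCat.of k))] [IsProper (X ↘ Spec (CommRingCat.of k))]

/-- Cancelling a twist. -/
lemma nonempty_cancel {P D : X.Modules} (e : CohB1.tensorMod P D ≅ Coh.structureModule X) (M : X.Modules) :
    Nonempty ((AmpleVan.tw P).obj ((AmpleVan.tw D).obj M) ≅ M) ∧
      Nonempty ((AmpleVan.tw D).obj ((AmpleVan.tw P).obj M) ≅ M) := by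
  have h : PicF.cl P * PicF.cl D = 1 := by
    rw [← H23.PicMul.cl_tensor, H23.PicMul.one_def]; exact H23.PicMul.cl_eq_iff.2 ⟨e⟩
  constructor <;> refine H23.PicMul.cl_eq_iff.1 ?_
  · show PicF.cl (CohB1.tensorMod (CohB1.tensorMod M D) P) = _
    rw [H23.PicMul.cl_tensor, H23.PicMul.cl_tensor, mul_assoc, mul_comm (PicF.cl D), h, mul_one]
  · show PicF.cl (CohB1.tensorMod (CohB1.tensorMod M P) D) = _
    rw [H23.PicMul.cl_tensor, H23.PicMul.cl_tensor, mul_assoc, h, mul_one]

/-- Purity does not change under twists by invertible modules. -/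
lemma isPure_tw [IsNoetherian X] {P : X.Modules} (hP : PicF.IsInvertible P) {F : X.Modules} {d : ℕ}
    (h : ShStab.IsPure X F d) : ShStab.IsPure X ((AmpleVan.tw P).obj F) d := by
  obtain ⟨D, hD, ⟨e⟩⟩ := H23.PicInv.exists_inverse hP
  intro G ι hι hG hG0
  haveI := hι
  haveI := AmpleVan.isEquivalence_tw hD
  haveI : Mono ((AmpleVan.tw D).map ι) := Functor.map_mono _ _
  obtain ⟨c⟩ := (nonempty_cancel e F).2
  have hG' : Coh.IsCoh ((AmpleVan.tw D).obj G) := AmpleVan.isCoh_tensor hG (AmpleVan.isCoh_invertible hD)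
  have hs : CohB1.support ((AmpleVan.tw D).obj G) = CohB1.support G := by
    refine (HilbPoly.support_tensor_subset G D).antisymm ?_
    obtain ⟨c'⟩ := (nonempty_cancel e G).1
    exact (QCoh.support_iso c'.symm hG.1).le.trans (HilbPoly.support_tensor_subset _ P)
  rw [← hs]
  exact h _ ((AmpleVan.tw D).map ι ≫ c.hom) inferInstance hG'
    fun hz => hG0 ((IsZero.iff_id_eq_zero G).2 ((AmpleVan.tw D).map_injective (hz.eq_of_src _ _)))

/-- Twisting adds exponents. -/
lemma nonempty_twist_twist (L F : X.Modules) (m n : ℕ) :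
    Nonempty (ShStab.twist X L (ShStab.twist X L F m) n ≅ ShStab.twist X L F (m + n)) := by
  refine H23.PicMul.cl_eq_iff.1 ?_
  show PicF.cl (CohB1.tensorMod (CohB1.tensorMod F _) _) = PicF.cl (CohB1.tensorMod F _)
  simp only [H23.PicMul.cl_tensor, H23.PicMul.cl_tensorPow]
  rw [mul_assoc, pow_add]

/-- Untwisting followed by twisting. -/
lemma nonempty_untwist_twist {L : X.Modules} {A : ℕ → X.Modules} (hA : IsTestFam L A) (F : X.Modules) (n m : ℕ) :
    Nonempty (ShStab.twist X L ((AmpleVan.tw (A n)).obj F) (n + m) ≅ ShStab.twist X L F m) := by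
  obtain ⟨e⟩ := (hA n).2
  have h : PicF.cl L ^ n * PicF.cl (A n) = 1 := by
    rw [← H23.PicMul.cl_tensorPow, ← H23.PicMul.cl_tensor, H23.PicMul.one_def]
    exact H23.PicMul.cl_eq_iff.2 ⟨e⟩
  refine H23.PicMul.cl_eq_iff.1 ?_
  show PicF.cl (CohB1.tensorMod (CohB1.tensorMod F (A n)) _) = PicF.cl (CohB1.tensorMod F _)
  simp only [H23.PicMul.cl_tensor, H23.PicMul.cl_tensorPow]
  rw [pow_add, mul_assoc, ← mul_assoc (PicF.cl (A n)), mul_comm (PicF.cl (A n)), h, one_mul]

variable [X.Over (Spec (CommRingCat.of k))] [IsProper (X ↘ Spec (CommRingCat.of k))] {L : X.Modules}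

/-- Euler characteristics of twists. -/
lemma euler_twist (hdim : topologicalKrullDim X ≤ ((1 : ℕ) : WithBot ℕ∞)) (hL : PicF.IsInvertible L)
    {F : X.Modules} (hF : Coh.IsCoh F) (m : ℕ) :
    Curv2.euler k X (ShStab.twist X L F m) = Curv2.euler k X F + (m : ℤ) * DecSh.mult k X L F := by
  haveI : IsNoetherian X := CurveCohLib.isNoetherian_of_proper (k := k)
  have hd : topologicalKrullDim ↥(CohB1.support F) ≤ ((1 : ℕ) : WithBot ℕ∞) :=
    (topologicalKrullDim_subspace_le X _).trans hdim
  obtain ⟨P, hP, hdeg, hα⟩ := HilbPoly.exists_hilb (k := k) hL hF hd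
  have he : ∀ x : ℚ, P.eval x = P.coeff 0 + P.coeff 1 * x := fun x => by
    rw [Polynomial.eval_eq_sum_range' (n := 2) (by omega)]
    simp [Finset.sum_range_succ]
  have h0 : (Curv2.euler k X (ShStab.twist X L F 0) : ℚ) = P.coeff 0 := by rw [hP 0, he]; simp
  have h1 : Curv2.euler k X (ShStab.twist X L F 0) = Curv2.euler k X F :=
    CurveCohLib.euler_congr (AmpleVan.twUnit.app F)
  have hm : P.coeff 1 = (DecSh.mult k X L F : ℚ) := by
    rw [decMult_eq, ← hα]; simp [StabCat.alpha]
  have := hP m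
  rw [he, ← h0, hm, h1] at this
  have h2 : (Curv2.euler k X (ShStab.twist X L F m) : ℚ) =
      ((Curv2.euler k X F + (m : ℤ) * DecSh.mult k X L F : ℤ) : ℚ) := by push_cast; linarith
  exact_mod_cast h2

lemma decMult_twist (hdim : topologicalKrullDim X ≤ ((1 : ℕ) : WithBot ℕ∞)) (hL : PicF.IsInvertible L)
    {F : X.Modules} (hF : Coh.IsCoh F) (m : ℕ) :
    DecSh.mult k X L (ShStab.twist X L F m) = DecSh.mult k X L F := by
  haveI : IsNoetherian X := CurveCohLib.isNoetherian_of_proper (k := k)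
  have hc : Coh.IsCoh (ShStab.twist X L F m) :=
    AmpleVan.isCoh_tensor hF (AmpleVan.isCoh_invertible (InvX.isInvertible_tensorPow hL m))
  have h1 := euler_twist k hdim hL hc 1
  obtain ⟨e⟩ := nonempty_twist_twist L F m 1
  rw [CurveCohLib.euler_congr e, euler_twist k hdim hL hF] at h1
  have h2 := euler_twist k hdim hL hF m
  rw [h2] at h1
  push_cast at h1
  linarith [h1]

/-- Untwisting. -/
lemma untwist_invariants (hdim : topologicalKrullDim X ≤ ((1 : ℕ) : WithBot ℕ∞)) {A : ℕ → X.Modules}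
    (hA : IsTestFam L A) (hL : PicF.IsInvertible L) {F : X.Modules} (hF : Coh.IsCoh F) (n : ℕ) :
    Coh.IsCoh ((AmpleVan.tw (A n)).obj F) ∧
      DecSh.mult k X L ((AmpleVan.tw (A n)).obj F) = DecSh.mult k X L F ∧
      Curv2.euler k X ((AmpleVan.tw (A n)).obj F) = Curv2.euler k X F - (n : ℤ) * DecSh.mult k X L F := by
  haveI : IsNoetherian X := CurveCohLib.isNoetherian_of_proper (k := k)
  have hc : Coh.IsCoh ((AmpleVan.tw (A n)).obj F) := AmpleVan.isCoh_tensor hF (AmpleVan.isCoh_invertible (hA n).1)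
  have key : ∀ m : ℕ, Curv2.euler k X ((AmpleVan.tw (A n)).obj F) +
      ((n + m : ℕ) : ℤ) * DecSh.mult k X L ((AmpleVan.tw (A n)).obj F) =
        Curv2.euler k X F + (m : ℤ) * DecSh.mult k X L F := fun m => by
    obtain ⟨e⟩ := nonempty_untwist_twist hA F n m
    rw [← euler_twist k hdim hL hc, CurveCohLib.euler_congr e, euler_twist k hdim hL hF]
  have h0 := key 0
  have h1 := key 1
  push_cast at h0 h1
  have hm : DecSh.mult k X L ((AmpleVan.tw (A n)).obj F) = DecSh.mult k X L F := by linarith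
  exact ⟨hc, hm, by rw [hm] at h0; linarith⟩

end Groth.Agent.ShStabX
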