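import Groth.Agent.ShStabX.MuRefl
import Groth.Agent.ShStabX.CurveTwist
import Groth.Agent.Div57.Ref.Class
import Groth.Agent.Div57.Ref.InvUfd
import Groth.Agent.Div57.Ref.Inv
import Groth.Agent.Refl70.Sheaf
import Groth.Agent.KFlatLib.Scheme.MayerVietoris

/-!
# Rank one torsion-free sheaves on smooth surfaces: reflexive hulls and the top two coefficients
-/

set_option linter.style.haveILetI false
set_option linter.unusedSectionVars false
set_option backward.isDefEq.respectTransparency false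
set_option backward.isDefEq.respectTransparency.types false

universe u

open CategoryTheory CategoryTheory.Limits AlgebraicGeometry Polynomial StabCat TopologicalSpace

noncomputable section

namespace Groth.Agent.ShStabX

open Groth.Agent
open scoped Groth.Agent.H23.PicMul

variable {X : Scheme.{u}}

lemma injective_stalkMap_of_mono {A B : X.Modules} (φ : A ⟶ B) [Mono φ] (x : X) :
    Function.Injective (RefHull.stalkMapₗ φ x) :=
  (ModuleCat.mono_iff_injective ((DerSch.stalkFunctor X x).map φ)).1 inferInstance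

/-- A monomorphism is bijective on the stalks outside the support of its cokernel. -/
lemma isIso_stalk_of_notMem {A B : X.Modules} (j : A ⟶ B) [Mono j] {x : X}
    (hx : x ∉ CohB1.support (cokernel j)) : IsIso ((DerSch.stalkFunctor X x).map j) := by
  have hS : (ShortComplex.mk j (cokernel.π j) (cokernel.condition j)).ShortExact :=
    .mk' (ShortComplex.exact_of_g_is_cokernel _ (cokernelIsCokernel j)) inferInstance inferInstance
  haveI : Subsingleton ((DerSch.stalkFunctor X x).obj (cokernel j)) := not_not.1 hx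
  exact (hS.map_of_exact (DerSch.stalkFunctor X x)).isIso_f_iff.2
    (ModuleCat.isZero_of_subsingleton ((DerSch.stalkFunctor X x).obj (cokernel j)))

lemma notMem_support_of_surjective {A B : X.Modules} (j : A ⟶ B) [Mono j] {x : X}
    (h : Function.Surjective (RefHull.stalkMapₗ j x)) : x ∉ CohB1.support (cokernel j) := by
  have hS : (ShortComplex.mk j (cokernel.π j) (cokernel.condition j)).ShortExact :=
    .mk' (ShortComplex.exact_of_g_is_cokernel _ (cokernelIsCokernel j)) inferInstance inferInstance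
  have h' : IsIso ((DerSch.stalkFunctor X x).map j) :=
    (ConcreteCategory.isIso_iff_bijective _).2 ⟨injective_stalkMap_of_mono j x, h⟩
  exact fun hm => hm (ModuleCat.subsingleton_of_isZero ((hS.map_of_exact (DerSch.stalkFunctor X x)).isIso_f_iff.1 h'))

lemma bijective_stalkMap_of_notMem {A B : X.Modules} (j : A ⟶ B) [Mono j] {x : X}
    (hx : x ∉ CohB1.support (cokernel j)) : Function.Bijective (RefHull.stalkMapₗ j x) :=
  (ConcreteCategory.isIso_iff_bijective ((DerSch.stalkFunctor X x).map j)).1 (isIso_stalk_of_notMem j hx)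

/-- Morphisms into a module whose sections extend across the support of a cokernel extend. -/
theorem exists_extend {A B C : X.Modules} (j : A ⟶ B) [Mono j] {U : X.Opens}
    (hU : ∀ x ∈ U, x ∉ CohB1.support (cokernel j)) (hC : RefX.ExtendsAcross U C) (φ : A ⟶ C) :
    ∃ ψ : B ⟶ C, j ≫ ψ = φ := by
  haveI := RefX.isIso_unit_of_extendsAcross hC
  haveI := KFlatLib.isIso_restrict_of_stalk U j fun x hx => isIso_stalk_of_notMem j (hU x hx)
  let adj := Scheme.Modules.restrictAdjunction U.ι
  let R := Scheme.Modules.restrictFunctor U.ι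
  refine ⟨adj.homEquiv _ _ (inv (R.map j) ≫ R.map φ) ≫ inv (adj.unit.app C), ?_⟩
  rw [← cancel_mono (adj.unit.app C)]
  simp only [Category.assoc, IsIso.inv_hom_id, Category.comp_id]
  rw [← Adjunction.homEquiv_naturality_left, IsIso.hom_inv_id_assoc, Adjunction.homEquiv_unit]
  exact (adj.unit.naturality φ).symm

variable [IsIntegral X]

/-- A morphism out of a torsion-free module which is injective at the generic point is a monomorphism. -/
theorem mono_of_generic {A B : X.Modules} (φ : A ⟶ B) (hA : Div57.Ref.Inj A)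
    (h : Function.Injective (RefHull.stalkMapₗ φ (genericPoint X))) : Mono φ := by
  refine ⟨fun g₁ g₂ hg => Div57.Ref.hom_ext_gen hA (LinearMap.ext fun v => h ?_)⟩
  have h1 := congrArg (fun ψ => RefHull.stalkMapₗ ψ (genericPoint X) v) hg
  simpa only [Div57.Ref.stalkMap_comp, LinearMap.comp_apply] using h1

variable [IsLocallyNoetherian X]

lemma isRef1_data {M : X.Modules} (hM : PicF.IsInvertible M) :
    Coh.IsCoh M ∧ RefHull.IsReflexive M ∧ TorSh.IsTorsionFree M := by
  obtain ⟨h1, h2, -⟩ := Div57.Ref.isRef1_of_isInvertible hM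
  exact ⟨h1, h2, isTorsionFree_of_reflexive h1 h2⟩

/-- A nonzero torsion-free module has nonzero generic stalk. -/
lemma exists_gen_ne_zero {F : X.Modules} (hFi : Div57.Ref.Inj F) (h0 : ¬ IsZero F) :
    ∃ v : F.presheaf.stalk (genericPoint X), v ≠ 0 := by
  by_contra hne
  simp only [not_exists, not_not] at hne
  refine h0 ((IsZero.iff_id_eq_zero F).2 (Div57.Ref.hom_ext_gen hFi (LinearMap.ext fun v => ?_)))
  rw [hne (RefHull.stalkMapₗ _ _ v), hne (RefHull.stalkMapₗ _ _ v)]

/-- The generic stalk of a nonzero submodule of an invertible module. -/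
theorem gen_data {F M : X.Modules} (hF : Coh.IsCoh F) (hM : PicF.IsInvertible M) (ι : F ⟶ M) [Mono ι] (h0 : ¬ IsZero F) :
    Div57.Ref.Inj F ∧ Function.Surjective (RefHull.stalkMapₗ ι (genericPoint X)) ∧
      ∃ e : F.presheaf.stalk (genericPoint X), e ≠ 0 ∧
        ∀ v, ∃ c : X.presheaf.stalk (genericPoint X), c • e = v := by
  have hFi := Div57.Ref.inj_of_torsionFree hF.1 (torsionFree_sub ι (isRef1_data hM).2.2)
  have hinj := injective_stalkMap_of_mono ι (genericPoint X)
  obtain ⟨w, hw0, hspan⟩ := Div57.Ref.exists_gen_basis (Div57.Ref.isRef1_of_isInvertible hM).2.2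
  obtain ⟨v, hv⟩ := exists_gen_ne_zero hFi h0
  obtain ⟨c, hc⟩ := hspan (RefHull.stalkMapₗ ι _ v)
  have hc0 : c ≠ 0 := fun h => hv (hinj (by rw [← hc, h, zero_smul, map_zero]))
  obtain ⟨d, hd⟩ := (Div57.Ref.isField_gen (X := X)).mul_inv_cancel hc0
  have hsurj : Function.Surjective (RefHull.stalkMapₗ ι (genericPoint X)) := fun z => by
    obtain ⟨a, ha⟩ := hspan z
    refine ⟨(a * d) • v, ?_⟩
    rw [map_smul, ← hc, smul_smul, mul_assoc, mul_comm d c, hd, mul_one, ha]
  refine ⟨hFi, hsurj, v, hv, fun z => ?_⟩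
  obtain ⟨a, ha⟩ := hspan (RefHull.stalkMapₗ ι _ z)
  refine ⟨a * d, hinj ?_⟩
  rw [map_smul, ← hc, smul_smul, mul_assoc, mul_comm d c, hd, mul_one, ha]

/-- A closed set all of whose points have zero-dimensional closure has dimension at most zero. -/
lemma dim_le_zero_of_points {Z : Set X} (hZ : IsClosed Z)
    (h : ∀ x ∈ Z, topologicalKrullDim ↥(closure ({x} : Set X)) ≤ ((0 : ℕ) : WithBot ℕ∞)) :
    topologicalKrullDim ↥Z ≤ ((0 : ℕ) : WithBot ℕ∞) := by
  have hcl : ∀ x ∈ Z, ∀ y ∈ closure ({x} : Set X), y = x := by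
    intro x hx y hy
    by_contra hne
    have hxy : x ∉ closure ({y} : Set X) := fun hx' =>
      hne ((specializes_iff_mem_closure.2 hy).antisymm (specializes_iff_mem_closure.2 hx')).eq.symm
    have hlt := HilbPoly.dim_lt_closure (n := 0) (h x hx) (C := closure {y}) isClosed_closure
      (closure_minimal (Set.singleton_subset_iff.2 hy) isClosed_closure) hxy
    haveI : Nonempty (IrreducibleCloseds ↥(closure ({y} : Set X))) :=
      ⟨⟨closure {⟨y, subset_closure rfl⟩}, isIrreducible_singleton.closure, isClosed_closure⟩⟩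
    exact absurd (Order.krullDim_nonneg (α := IrreducibleCloseds ↥(closure ({y} : Set X)))) (not_le_of_gt hlt)
  haveI : QuasiSober ↥Z := (IsClosed.isClosedEmbedding_subtypeVal hZ).quasiSober
  show Order.krullDim (IrreducibleCloseds ↥Z) ≤ _
  rw [Nat.cast_zero, Order.krullDim_nonpos_iff_forall_isMax]
  intro s t hst
  intro z hz
  obtain ⟨g, hg⟩ := QuasiSober.sober t.2 t.3
  obtain ⟨g', hg'⟩ := QuasiSober.sober s.2 s.3
  have hgs : g' ∈ (t : Set ↥Z) := hst (hg'.mem)
  have e1 : ∀ w ∈ (t : Set ↥Z), w = g := fun w hw => Subtype.ext (hcl g.1 g.2 w.1 (by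
    have h1 : w ∈ closure ({g} : Set ↥Z) := by rw [hg.def]; exact hw
    rwa [closure_subtype, Set.image_singleton] at h1))
  show z ∈ (s : Set ↥Z)
  rw [e1 z hz, ← e1 g' hgs]
  exact hg'.mem

lemma eq_generic_of_coheight_zero {x : X} (h : Order.coheight x = 0) : x = genericPoint X := by
  have hmax := Order.coheight_eq_zero.1 h
  have hle : genericPoint X ≤ x := hmax (DimFormula.le_def'.2 (genericPoint_specializes x))
  exact DimFormula.eq_of_specializes_of_specializes (DimFormula.le_def'.1 hle) (genericPoint_specializes x)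

variable {k : Type u} [Field k] [X.Over (Spec (CommRingCat.of k))]

/-- The reflexive hull of a rank one torsion-free sheaf on a smooth surface. -/
theorem exists_hull [Smooth (X ↘ Spec (CommRingCat.of k))] (hdim : topologicalKrullDim ↥X = ((2 : ℕ) : WithBot ℕ∞))
    {F L : X.Modules} (hF : Coh.IsCoh F) (hL : PicF.IsInvertible L) (ι : F ⟶ L) [Mono ι] (h0 : ¬ IsZero F) :
    ∃ (M : X.Modules) (_ : PicF.IsInvertible M) (c : F ⟶ M) (_ : Mono c) (κ : M ⟶ L) (_ : Mono κ),
      c ≫ κ = ι ∧ topologicalKrullDim ↥(CohB1.support (cokernel c)) ≤ ((0 : ℕ) : WithBot ℕ∞) := by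
  classical
  have hreg : ∀ x : X, IsRegularLocalRing (X.presheaf.stalk x) := fun x =>
    GrpSchLib.isRegularLocalRing_stalk_of_smooth (X ↘ Spec (CommRingCat.of k)) x
  have hX := (Div57.Ref.normal_and_ufd_of_regular hreg).1
  obtain ⟨hFi, -, e, he, hspan⟩ := gen_data hF hL ι h0
  let M := RefHull.ddual F
  let c : F ⟶ M := RefHull.bidualMap F
  have hMc : Coh.IsCoh M := Div57.Ref.isCoh_ddual hF
  have hMr : RefHull.IsReflexive M := Div57.Ref.isReflexive_ddual hF
  have hMi : Div57.Ref.Inj M := Div57.Ref.inj_ddual hF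
  have hgb : Function.Bijective (RefHull.stalkMapₗ c (genericPoint X)) := (Div57.Ref.bidualGen hF).bijective
  have hMg : RefHull.GenInvertible M := by
    refine Div57.Ref.genInvertible_of_gen_basis hMc hMi (RefHull.stalkMapₗ c _ e)
      (fun h => he (hgb.1 (h.trans (map_zero _).symm))) fun v => ?_
    obtain ⟨z, rfl⟩ := hgb.2 v
    obtain ⟨a, rfl⟩ := hspan z
    exact ⟨a, (map_smul _ _ _).symm⟩
  have hMinv := Refl70.isInvertible_of_isReflexive hreg hMc hMr hMg
  haveI : Mono c := mono_of_generic c hFi hgb.1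
  let Z : Set X := CohB1.support (cokernel c)
  have hQ : Coh.IsCoh (cokernel c) := QCoh.isCoh_cokernel hF.1 hMc c
  have hZc : IsClosed Z := QCoh.isClosed_support_of_isFT hQ.1 hQ.2
  have hpts : ∀ x ∈ Z, topologicalKrullDim ↥(closure ({x} : Set X)) ≤ ((0 : ℕ) : WithBot ℕ∞) := by
    intro x hx
    have h2 : 2 ≤ DimFormula.codim x := by
      by_contra hlt
      have hco := DimFormula.coe_codim x
      refine notMem_support_of_surjective c ?_ hx
      rcases (show DimFormula.codim x = 0 ∨ DimFormula.codim x = 1 by omega) with h | h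
      · rw [h] at hco
        obtain rfl := eq_generic_of_coheight_zero hco.symm
        exact hgb.2
      · rw [h] at hco
        exact ((RefX.stalkMap_bidual_bijective_iff hF x).2
          (Div57.Ref.reflexiveAt_coheight_one hX hF hFi hco.symm)).2
    obtain ⟨h1, hd⟩ := rd_add_codim (X ↘ Spec (CommRingCat.of k)) x
    have hN := (rd_genericPoint (X ↘ Spec (CommRingCat.of k))).symm.trans hdim
    have hN' : FibDim.rd (X ↘ Spec (CommRingCat.of k)) (genericPoint X) = 2 :=
      ENat.coe_inj.1 (WithBot.coe_inj.1 hN)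
    rw [hd, show FibDim.rd (X ↘ Spec (CommRingCat.of k)) x = 0 by omega]
    exact le_of_eq rfl
  have hdZ : topologicalKrullDim ↥Z ≤ ((0 : ℕ) : WithBot ℕ∞) := dim_le_zero_of_points hZc hpts
  let U : X.Opens := ⟨Zᶜ, hZc.isOpen_compl⟩
  have hdepth : ∀ x : X, x ∉ U → (2 : ℕ∞) ≤ LocCoh.depth (X.presheaf.stalk x) (X.presheaf.stalk x) :=
    fun x hx => two_le_depth_of_dim_add_two_le (X ↘ Spec (CommRingCat.of k)) hdim hZc (fun n hn => by
      have : (n : WithBot ℕ∞) ≤ ((0 : ℕ) : WithBot ℕ∞) := hn.trans hdZ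
      norm_cast at this
      omega) (not_not.1 hx)
  obtain ⟨hLc, hLr, -⟩ := isRef1_data hL
  obtain ⟨κ, hκ⟩ := exists_extend c (U := U) (fun x hx => hx) (RefX.extendsAcross_reflexive hLc hLr hdepth) ι
  refine ⟨M, hMinv, c, inferInstance, κ, mono_of_generic κ hMi fun a b hab => ?_, hκ, hdZ⟩
  obtain ⟨a, rfl⟩ := hgb.2 a
  obtain ⟨b, rfl⟩ := hgb.2 b
  refine congrArg _ (injective_stalkMap_of_mono ι _ ?_)
  rw [← hκ, Div57.Ref.stalkMap_comp]
  exact hab

/-- The top two normalised coefficients under a shift. -/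
lemma coeff_of_shift {P Q : ℚ[X]} (hP : P.natDegree ≤ 2) (hQ : Q.natDegree ≤ 2) (a b : ℕ)
    (h : ∀ m : ℕ, P.eval (((a + m : ℕ) : ℚ)) = Q.eval (((b + m : ℕ) : ℚ))) :
    alpha 2 P = alpha 2 Q ∧ alpha 1 P + a * alpha 2 P = alpha 1 Q + b * alpha 2 Q := by
  have he : ∀ (R : ℚ[X]), R.natDegree ≤ 2 → ∀ x : ℚ,
      R.eval x = R.coeff 0 + R.coeff 1 * x + R.coeff 2 * x ^ 2 := fun R hR x => by
    rw [Polynomial.eval_eq_sum_range' (n := 3) (by omega)]
    simp [Finset.sum_range_succ]
  have h0 := h 0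
  have h1 := h 1
  have h2 := h 2
  rw [he P hP, he Q hQ] at h0 h1 h2
  push_cast at h0 h1 h2
  simp only [alpha, Nat.factorial_two, Nat.factorial_one, Nat.cast_ofNat, Nat.cast_one]
  have e2 : P.coeff 2 = Q.coeff 2 := by linarith
  refine ⟨by rw [e2], ?_⟩
  linarith

variable [IsProper (X ↘ Spec (CommRingCat.of k))] {L : X.Modules}

/-- Hilbert polynomials of modules with isomorphic twists. -/
theorem alpha_of_twist_iso (hdim : topologicalKrullDim ↥X = ((2 : ℕ) : WithBot ℕ∞)) (hL : CohB1.IsAmple L)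
    {F G : X.Modules} (hF : Coh.IsCoh F) (hG : Coh.IsCoh G) {pF pG : ℚ[X]}
    (hpF : ShStab.IsHilbPoly k X L F pF) (hpG : ShStab.IsHilbPoly k X L G pG) (a b : ℕ)
    (e : ShStab.twist X L F a ≅ ShStab.twist X L G b) :
    alpha 2 pF = alpha 2 pG ∧ alpha 1 pF + a * alpha 2 pF = alpha 1 pG + b * alpha 2 pG := by
  haveI : IsNoetherian X := CurveCohLib.isNoetherian_of_proper (k := k)
  have hd : ∀ (E : X.Modules), topologicalKrullDim ↥(CohB1.support E) ≤ ((2 : ℕ) : WithBot ℕ∞) := fun E =>
    (topologicalKrullDim_subspace_le X _).trans hdim.le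
  refine coeff_of_shift (HilbPoly.hilb_props hL.1 hF (hd F) hpF).1 (HilbPoly.hilb_props hL.1 hG (hd G) hpG).1 a b
    fun m => ?_
  obtain ⟨eF⟩ := nonempty_twist_twist L F a m
  obtain ⟨eG⟩ := nonempty_twist_twist L G b m
  rw [← hpF, ← hpG]
  exact_mod_cast (CurveCohLib.euler_congr eF).symm.trans ((CurveCohLib.euler_congr
    ((AmpleVan.tw (CohB1.tensorPow L m)).mapIso e)).trans (CurveCohLib.euler_congr eG))

/-- Coherent modules with finite support do not affect the top two coefficients. -/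
lemma alpha_finite (hL : CohB1.IsAmple L) {Q : X.Modules} (hQ : Coh.IsCoh Q)
    (hd : topologicalKrullDim ↥(CohB1.support Q) ≤ ((0 : ℕ) : WithBot ℕ∞)) {pQ : ℚ[X]}
    (hpQ : ShStab.IsHilbPoly k X L Q pQ) : alpha 2 pQ = 0 ∧ alpha 1 pQ = 0 := by
  have hdeg := (HilbPoly.hilb_props hL.1 hQ hd hpQ).1
  constructor <;> simp only [alpha] <;> rw [Polynomial.coeff_eq_zero_of_natDegree_lt (by omega), mul_zero]

/-- Invariants of a nonzero submodule of an invertible module on a surface. -/
theorem alpha_sub_invertible (hdim : topologicalKrullDim ↥X = ((2 : ℕ) : WithBot ℕ∞)) (hL : CohB1.IsAmple L)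
    {F M : X.Modules} (hF : Coh.IsCoh F) (hM : PicF.IsInvertible M) (ι : F ⟶ M) [Mono ι] (h0 : ¬ IsZero F)
    {pF pM : ℚ[X]} (hpF : ShStab.IsHilbPoly k X L F pF) (hpM : ShStab.IsHilbPoly k X L M pM) :
    alpha 2 pF = alpha 2 pM ∧ alpha 1 pF ≤ alpha 1 pM ∧
      (alpha 1 pF = alpha 1 pM →
        topologicalKrullDim ↥(CohB1.support (cokernel ι)) ≤ ((0 : ℕ) : WithBot ℕ∞)) := by
  haveI : IsNoetherian X := CurveCohLib.isNoetherian_of_proper (k := k)
  have hMc := (isRef1_data hM).1
  obtain ⟨hQ, -, hpQ⟩ := HilbPoly.cokernel_data hL hF hMc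
    ((topologicalKrullDim_subspace_le X _).trans hdim.le) ι hpF hpM
  have hη : genericPoint X ∉ CohB1.support (cokernel ι) :=
    notMem_support_of_surjective ι (gen_data hF hM ι h0).2.1
  have hu : closure ({genericPoint X} : Set X) = Set.univ := (genericPoint_spec X).def
  have hlt : topologicalKrullDim ↥(CohB1.support (cokernel ι)) < ((2 : ℕ) : WithBot ℕ∞) := by
    refine HilbPoly.dim_lt_closure (x := genericPoint X) ?_ (QCoh.isClosed_support_of_isFT hQ.1 hQ.2) ?_ hη
    · exact (topologicalKrullDim_subspace_le X _).trans hdim.le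
    · rw [hu]; exact Set.subset_univ _
  have h1 := HilbPoly.le_of_lt_succ (m := 1) hlt
  have hdeg := (HilbPoly.hilb_props hL.1 hQ h1 hpQ).1
  have hc2 := Polynomial.coeff_eq_zero_of_natDegree_lt (p := pM - pF) (n := 2) (by omega)
  have hnn := HilbPoly.alpha_nonneg hL hQ h1 hpQ
  rw [coeff_sub] at hc2
  simp only [alpha, coeff_sub, Nat.factorial_two, Nat.factorial_one, Nat.cast_ofNat, Nat.cast_one, one_mul] at hnn ⊢
  refine ⟨by linarith, by linarith, fun he => HilbPoly.le_of_lt_succ (lt_of_le_of_ne h1 fun hd => ?_)⟩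
  have := HilbPoly.alpha_pos hL hQ hd hpQ
  norm_num [alpha] at this
  linarith

/-- On a surface whose Picard group is generated by `L`, invertible modules have twists that are twists of the unit. -/
theorem exists_twist_iso [PicGrp.Law X] (hLi : PicF.IsInvertible L)
    (hgen : ∀ c : PicLoc.PicSet X, ∃ n : ℤ, c = PicGrp.cls L hLi ^ n) {M : X.Modules} (hM : PicF.IsInvertible M) :
    ∃ a b : ℕ, PicGrp.cls M hM = PicGrp.cls L hLi ^ ((b : ℤ) - (a : ℤ)) ∧
      Nonempty (ShStab.twist X L M a ≅ ShStab.twist X L (Coh.structureModule X) b) := by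
  obtain ⟨n, hn⟩ := hgen (PicGrp.cls M hM)
  refine ⟨(-n).toNat, n.toNat, by rw [hn]; congr 1; omega, ?_⟩
  have h : PicGrp.cls M hM * PicGrp.cls L hLi ^ (-n).toNat = PicGrp.cls L hLi ^ n.toNat := by
    rw [hn, ← zpow_natCast, ← zpow_natCast, ← zpow_add]
    congr 1
    omega
  have hv := congrArg Subtype.val h
  rw [PicGrp.mul_val, PicGrp.cls_pow_val, PicGrp.cls_pow_val, PicGrp.cls_val, PicGrp.mulCl_cl] at hv
  refine H23.PicMul.cl_eq_iff.1 (hv.trans ?_)
  show _ = PicF.cl (CohB1.tensorMod (Coh.structureModule X) _)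
  rw [H23.PicMul.cl_tensor, ← H23.PicMul.one_def, one_mul]

end Groth.Agent.ShStabX
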