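import Groth.Agent.ShStabX.RankOne
import Groth.Agent.Lib.CurveDeg

/-!
# Degrees of submodules of free modules on a surface with Picard group generated by an ample module
-/

set_option linter.style.haveILetI false
set_option linter.unusedSectionVars false
set_option backward.isDefEq.respectTransparency false
set_option backward.isDefEq.respectTransparency.types false

universe u

open CategoryTheory CategoryTheory.Limits AlgebraicGeometry Polynomial StabCat TopologicalSpace

noncomputable section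

namespace Groth.Agent.ShStabX

open Groth.Agent
open scoped Groth.Agent.H23.PicMul

variable {X : Scheme.{u}}

/-- The projections of a finite free module. -/
def freeProj (n : ℕ) (i : Fin n) : FlatMod.freeMod X n ⟶ Coh.structureModule X :=
  Sigma.desc fun j => if j = i then 𝟙 _ else 0

lemma ι_freeProj (n : ℕ) (i j : Fin n) :
    Sigma.ι (fun _ : Fin n => Coh.structureModule X) j ≫ freeProj n i = if j = i then 𝟙 _ else 0 :=
  Sigma.ι_desc _ _

lemma freeProj_total (n : ℕ) :
    ∑ i : Fin n, freeProj n i ≫ Sigma.ι (fun _ : Fin n => Coh.structureModule X) i = 𝟙 _ := by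
  refine Sigma.hom_ext _ _ fun j => ?_
  simp only [Preadditive.comp_sum, Category.comp_id, reassoc_of% ι_freeProj]
  rw [Finset.sum_eq_single j (fun b _ hb => ?_) (fun h => absurd (Finset.mem_univ j) h)]
  · rw [if_pos rfl, Category.id_comp]
  · rw [if_neg (Ne.symm hb), Limits.zero_comp]

lemma freeProj_jointlyMono (n : ℕ) {T : X.Modules} (g : T ⟶ FlatMod.freeMod X n)
    (h : ∀ i, g ≫ freeProj n i = 0) : g = 0 := by
  rw [← Category.comp_id g, ← freeProj_total, Preadditive.comp_sum]
  exact Finset.sum_eq_zero fun i _ => by rw [← Category.assoc, h i, Limits.zero_comp]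

/-- The split sequence of a free module. -/
def freeSplitSeq (n : ℕ) : ShortComplex X.Modules :=
  ShortComplex.mk (Sigma.desc fun j : Fin n => Sigma.ι (fun _ : Fin (n + 1) => Coh.structureModule X) j.succ)
    (freeProj (n + 1) 0) (Sigma.hom_ext _ _ fun j => by
      rw [← Category.assoc, Sigma.ι_desc, ι_freeProj, if_neg (Fin.succ_ne_zero j), Limits.comp_zero])

lemma freeSplitSeq_shortExact (n : ℕ) : (freeSplitSeq (X := X) n).ShortExact :=
  ShortComplex.Splitting.shortExact
    { r := Sigma.desc (Fin.cases 0 fun j => Sigma.ι (fun _ : Fin n => Coh.structureModule X) j)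
      s := Sigma.ι (fun _ : Fin (n + 1) => Coh.structureModule X) 0
      f_r := Sigma.hom_ext _ _ fun j => by
        simp only [freeSplitSeq]
        rw [← Category.assoc, Sigma.ι_desc, Sigma.ι_desc, Fin.cases_succ, Category.comp_id]
      s_g := by
        simp only [freeSplitSeq]
        rw [ι_freeProj, if_pos rfl]
      id := Sigma.hom_ext _ _ fun j => by
        simp only [freeSplitSeq, Preadditive.comp_add, Category.comp_id]
        rw [← Category.assoc, ← Category.assoc, Sigma.ι_desc, ι_freeProj]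
        cases j using Fin.cases with
        | zero => rw [Fin.cases_zero, if_pos rfl, Limits.zero_comp, zero_add, Category.id_comp]
        | succ i => rw [Fin.cases_succ, if_neg (Fin.succ_ne_zero i), Limits.zero_comp, add_zero, Sigma.ι_desc] }

variable [IsIntegral X] {k : Type u} [Field k] [X.Over (Spec (CommRingCat.of k))]
  [IsProper (X ↘ Spec (CommRingCat.of k))] [IsLocallyNoetherian X] {L : X.Modules}

theorem hilb_freeMod (hL : PicF.IsInvertible L) {pO : ℚ[X]}
    (hpO : ShStab.IsHilbPoly k X L (Coh.structureModule X) pO) :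
    ∀ n : ℕ, ShStab.IsHilbPoly k X L (FlatMod.freeMod X n) ((n : ℚ) • pO)
  | 0 => by
    rw [Nat.cast_zero, zero_smul]
    exact HilbPoly.hilb_isZero ((IsZero.iff_id_eq_zero _).2 (Sigma.hom_ext _ _ fun j => j.elim0))
  | n + 1 => by
    have h := HilbPoly.hilb_add hL (freeSplitSeq_shortExact (X := X) n) (CurveDeg.isCoh_of_isFinLocFree (KFlatLib.isFinLocFree_freeMod n))
      ((CurveDeg.isCoh_of_isFinLocFree (KFlatLib.isFinLocFree_freeMod (n + 1)))) (RefX.isCoh_unit) (hilb_freeMod hL hpO n) hpO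
    rw [Nat.cast_succ, add_smul, one_smul]
    exact h

variable [Smooth (X ↘ Spec (CommRingCat.of k))] [PicGrp.Law X]

/-- A nonzero ideal has degree a nonpositive multiple of the degree of the generator, zero only if of finite
colength. -/
theorem deg_sub_unit (hdim : topologicalKrullDim ↥X = ((2 : ℕ) : WithBot ℕ∞)) (hLa : CohB1.IsAmple L)
    (hLi : PicF.IsInvertible L) (hgen : ∀ c : PicLoc.PicSet X, ∃ n : ℤ, c = PicGrp.cls L hLi ^ n)
    {G : X.Modules} (hG : Coh.IsCoh G) (h : G ⟶ Coh.structureModule X) [Mono h] (h0 : ¬ IsZero G)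
    {pG pO : ℚ[X]} (hpG : ShStab.IsHilbPoly k X L G pG)
    (hpO : ShStab.IsHilbPoly k X L (Coh.structureModule X) pO) (hA : 0 < alpha 2 pO) :
    ∃ j : ℤ, alpha 2 pG = alpha 2 pO ∧ alpha 1 pG = alpha 1 pO + j * alpha 2 pO ∧ j ≤ 0 ∧
      (j = 0 → topologicalKrullDim ↥(CohB1.support (cokernel h)) ≤ ((0 : ℕ) : WithBot ℕ∞)) := by
  have hOi : PicF.IsInvertible (Coh.structureModule X) := PicLoc.isInvertible_structureModule X
  obtain ⟨h2, h1, hfin⟩ := alpha_sub_invertible hdim hLa hG hOi h h0 hpG hpO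
  obtain ⟨M, hMi, c, hc, -, -, -, hdc⟩ := exists_hull (k := k) hdim hG hOi h h0
  haveI := hc
  have hMc := (isRef1_data hMi).1
  obtain ⟨pM, hpM, -⟩ := HilbPoly.exists_hilb (k := k) hLa.1 hMc
    (d := 2) ((topologicalKrullDim_subspace_le X _).trans hdim.le)
  obtain ⟨a, b, -, ⟨eM⟩⟩ := exists_twist_iso hLi hgen hMi
  obtain ⟨hM2, hM1⟩ := alpha_of_twist_iso hdim hLa hMc (RefX.isCoh_unit) hpM hpO a b eM
  obtain ⟨hC, -, hpC⟩ := HilbPoly.cokernel_data hLa hG hMc
    (d := 2) ((topologicalKrullDim_subspace_le X _).trans hdim.le) c hpG hpM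
  have hC1 := (alpha_finite hLa hC hdc hpC).2
  simp only [alpha, coeff_sub] at hC1
  have hGM : alpha 1 pG = alpha 1 pM := by simp only [alpha]; linarith
  rw [hM2] at hM1
  have e : alpha 1 pG = alpha 1 pO + (((b : ℤ) - a : ℤ) : ℚ) * alpha 2 pO := by
    push_cast
    linarith
  refine ⟨(b : ℤ) - a, h2, e, ?_, fun hj => hfin ?_⟩
  · have : (((b : ℤ) - a : ℤ) : ℚ) * alpha 2 pO ≤ (0 : ℚ) * alpha 2 pO := by rw [zero_mul]; linarith
    exact_mod_cast le_of_mul_le_mul_right this hA
  · rw [e, hj]; simp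

/-- Degrees of coherent modules with jointly monomorphic maps to the structure module. -/
theorem deg_sub_free (hdim : topologicalKrullDim ↥X = ((2 : ℕ) : WithBot ℕ∞)) (hLa : CohB1.IsAmple L)
    (hLi : PicF.IsInvertible L) (hgen : ∀ c : PicLoc.PicSet X, ∃ n : ℤ, c = PicGrp.cls L hLi ^ n)
    {pO : ℚ[X]} (hpO : ShStab.IsHilbPoly k X L (Coh.structureModule X) pO) (hA : 0 < alpha 2 pO) :
    ∀ (n : ℕ) (E : X.Modules), Coh.IsCoh E → ¬ IsZero E → ∀ f : Fin n → (E ⟶ Coh.structureModule X),
      (∀ (T : X.Modules) (g : T ⟶ E), (∀ i, g ≫ f i = 0) → g = 0) →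
      ∀ pE : ℚ[X], ShStab.IsHilbPoly k X L E pE →
      ∃ (r : ℕ) (j : ℤ), alpha 2 pE = r * alpha 2 pO ∧ alpha 1 pE = r * alpha 1 pO + j * alpha 2 pO ∧ j ≤ 0 ∧
        (j = 0 → ∃ (G : X.Modules) (g : G ⟶ E) (h : G ⟶ Coh.structureModule X), Coh.IsCoh G ∧ ¬ IsZero G ∧
          Mono g ∧ Mono h ∧
          topologicalKrullDim ↥(CohB1.support (cokernel h)) ≤ ((0 : ℕ) : WithBot ℕ∞)) := by
  intro n
  induction n with
  | zero => exact fun E _ h0 f hf => absurd ((IsZero.iff_id_eq_zero E).2 (hf E (𝟙 E) fun i => i.elim0)) h0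
  | succ n ih =>
    intro E hE h0 f hf pE hpE
    obtain ⟨K, I, a, p, b, w, hfac, ha, hb, hp, hS, hKc, hIc⟩ :=
      HilbPoly.exists_factor (k := k) hE RefX.isCoh_unit (f 0)
    haveI := ha; haveI := hb; haveI := hp
    have hfK : ∀ (T : X.Modules) (g : T ⟶ K), (∀ i : Fin n, g ≫ (a ≫ f i.succ) = 0) → g = 0 := by
      intro T g hg
      refine (cancel_mono a).1 ((hf T (g ≫ a) fun i => ?_).trans Limits.zero_comp.symm)
      cases i using Fin.cases with
      | zero => rw [← hfac, Category.assoc, reassoc_of% w, Limits.zero_comp, Limits.comp_zero]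
      | succ i => rw [Category.assoc]; exact hg i
    by_cases hI0 : IsZero I
    · refine ih E hE h0 (fun i => f i.succ) (fun T g hg => hf T g fun i => ?_) pE hpE
      cases i using Fin.cases with
      | zero => rw [← hfac, hI0.eq_of_tgt p 0, Limits.zero_comp, Limits.comp_zero]
      | succ i => exact hg i
    obtain ⟨pI, hpI, -⟩ := HilbPoly.exists_hilb (k := k) hLa.1 hIc
      (d := 2) ((topologicalKrullDim_subspace_le X _).trans hdim.le)
    obtain ⟨jI, hI2, hI1, hjI, hIfin⟩ := deg_sub_unit hdim hLa hLi hgen hIc b hI0 hpI hpO hA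
    by_cases hK0 : IsZero K
    · haveI : Mono p := (ShortComplex.exact_iff_mono _ (hK0.eq_of_src a 0)).1 hS.exact
      haveI : IsIso p := isIso_of_mono_of_epi p
      obtain rfl := HilbPoly.isHilbPoly_unique hpE (HilbPoly.hilb_iso (asIso p).symm hpI)
      exact ⟨1, jI, by rw [hI2, Nat.cast_one, one_mul], by rw [hI1, Nat.cast_one, one_mul], hjI,
        fun hj => ⟨I, inv p, b, hIc, hI0, inferInstance, inferInstance, hIfin hj⟩⟩
    obtain ⟨pK, hpK, -⟩ := HilbPoly.exists_hilb (k := k) hLa.1 hKc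
      (d := 2) ((topologicalKrullDim_subspace_le X _).trans hdim.le)
    obtain rfl := HilbPoly.isHilbPoly_unique hpE (HilbPoly.hilb_add hLa.1 hS hKc hE hIc hpK hpI)
    obtain ⟨r, j, hK2, hK1, hj, hjG⟩ := ih K hKc hK0 (fun i => a ≫ f i.succ) hfK pK hpK
    refine ⟨r + 1, j + jI, ?_, ?_, by omega, fun hjj => ?_⟩
    · rw [HilbPoly.alpha_add, hK2, hI2]; push_cast; ring
    · rw [HilbPoly.alpha_add, hK1, hI1]; push_cast; ring
    · obtain ⟨G, g, h, hGc, hG0, hg, hh, hfin⟩ := hjG (by omega)
      haveI := hg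
      exact ⟨G, g ≫ a, h, hGc, hG0, inferInstance, hh, hfin⟩

end Groth.Agent.ShStabX
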