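import Groth.Agent.ShStabX.Codim
import Groth.Agent.ShStabX.Simple
import Groth.Agent.RefX.Ext
import Groth.Agent.TorLib.Basic
import Groth.Agent.HilbPoly.Simple
import Groth.Prelude.Def_RefHull
import Groth.Prelude.Def_TorSh

/-!
# Morphisms of slope stable reflexive modules on smooth varieties
-/

set_option linter.style.haveILetI false
set_option linter.unusedSectionVars false
set_option backward.isDefEq.respectTransparency false
set_option backward.isDefEq.respectTransparency.types false

universe u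

open CategoryTheory CategoryTheory.Limits AlgebraicGeometry Polynomial StabCat TopologicalSpace

noncomputable section

namespace Groth.Agent.ShStabX

open Groth.Agent

variable {X : Scheme.{u}}

theorem torsionFree_sub [IsIntegral X] {F E : X.Modules} (ι : F ⟶ E) [Mono ι] (h : TorSh.IsTorsionFree E) :
    TorSh.IsTorsionFree F := fun x => by
  let g : F.presheaf.stalk x →ₗ[X.presheaf.stalk x] E.presheaf.stalk x := ((DerSch.stalkFunctor X x).map ι).hom
  have hinj : Function.Injective g :=
    (ModuleCat.mono_iff_injective ((DerSch.stalkFunctor X x).map ι)).1 inferInstance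
  haveI : Module.IsTorsionFree (X.presheaf.stalk x) (E.presheaf.stalk x) := h x
  exact Function.Injective.moduleIsTorsionFree g hinj (map_smul g)

/-- Torsion-free modules on an integral scheme are pure of full dimension. -/
theorem isPure_of_torsionFree_integral [IsIntegral X] {E : X.Modules} (htf : TorSh.IsTorsionFree E) {n : ℕ}
    (hn : topologicalKrullDim ↥X = (n : WithBot ℕ∞)) : ShStab.IsPure X E n := by
  intro F ι hι hF h0
  haveI := hι
  have hF' : TorSh.IsTorsionFree F := torsionFree_sub ι htf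
  have hsup : CohB1.support F = Set.univ := by
    by_contra hne
    have h := ((TorLib.torsion_tfae hF.1).out 2 1).1 hne
    apply h0
    rw [IsZero.iff_id_eq_zero]
    refine Scheme.Modules.hom_ext _ _ fun U => ?_
    ext s
    show s = 0
    by_cases hU : Nonempty U
    · exact TorLib.eq_zero_of_germ_genericPoint hF.1 hF' (TorLib.genericPoint_mem hU.some.2) s
        (h.elim _ _)
    · refine TopCat.Presheaf.section_ext ⟨F.presheaf, F.isSheaf⟩ U _ _ fun z hz => ?_
      exact absurd ⟨⟨z, hz⟩⟩ hU
  rw [hsup]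
  exact (IsHomeomorph.topologicalKrullDim_eq _ (Homeomorph.Set.univ X).isHomeomorph).trans hn

/-- Reflexive coherent modules on integral schemes have torsion-free stalks. -/
theorem isTorsionFree_of_reflexive [IsIntegral X] [IsLocallyNoetherian X] {F : X.Modules} (hF : Coh.IsCoh F)
    (hr : RefHull.IsReflexive F) : TorSh.IsTorsionFree F := fun x => by
  haveI : Module.IsReflexive (X.presheaf.stalk x) (F.presheaf.stalk x) := (RefX.isReflexive_iff hF).1 hr x
  exact Function.Injective.moduleIsTorsionFree _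
    (Module.bijective_dual_eval (X.presheaf.stalk x) (F.presheaf.stalk x)).injective (map_smul _)

variable {k : Type u} [Field k] [X.Over (Spec (CommRingCat.of k))] [IsProper (X ↘ Spec (CommRingCat.of k))]
  {L : X.Modules}

/-- The strict slope inequality for subobjects of smaller multiplicity. -/
theorem muSt_cross {n : ℕ} {E F : X.Modules} (hμ : IsMuSt Coh.IsCoh (ShStab.IsHilbPoly k X L) n E) (ι : F ⟶ E)
    [Mono ι] (hFc : Coh.IsCoh F) {pF pE : ℚ[X]} (hpF : ShStab.IsHilbPoly k X L F pF)
    (hpE : ShStab.IsHilbPoly k X L E pE) (h0 : 0 < alpha n pF) (hlt : alpha n pF < alpha n pE) :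
    alpha (n - 1) pF * alpha n pE < alpha (n - 1) pE * alpha n pF := by
  have h := hμ F ι inferInstance hFc pF pE hpF hpE h0 hlt
  rwa [hatSlope, hatSlope, div_lt_div_iff₀ h0 (h0.trans hlt)] at h

theorem isIso_of_muStable_reflexive [IsIntegral X] [Smooth (X ↘ Spec (CommRingCat.of k))] {n : ℕ} (hn : 1 ≤ n)
    (hX : topologicalKrullDim X = (n : WithBot ℕ∞)) (hL : CohB1.IsAmple L) {F G : X.Modules}
    (hFr : RefHull.IsReflexive F) (hGr : RefHull.IsReflexive G)
    (hF : ShStab.IsMuStable k X L F n) (hG : ShStab.IsMuStable k X L G n) {pF pG : ℚ[X]}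
    (hpF : ShStab.IsHilbPoly k X L F pF) (hpG : ShStab.IsHilbPoly k X L G pG)
    (hle : hatSlope n pG ≤ hatSlope n pF) {φ : F ⟶ G} (hφ : φ ≠ 0) : IsIso φ := by
  haveI : IsNoetherian X := CurveCohLib.isNoetherian_of_proper (k := k)
  obtain ⟨hFc, hF0, hdF, -, hFst⟩ := hF
  obtain ⟨hGc, hG0, hdG, -, hGst⟩ := hG
  have hFp := isPure_of_torsionFree_integral (isTorsionFree_of_reflexive hFc hFr) hX
  have hGp := isPure_of_torsionFree_integral (isTorsionFree_of_reflexive hGc hGr) hX
  have hαF := HilbPoly.alpha_pos hL hFc hdF hpF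
  have hαG := HilbPoly.alpha_pos hL hGc hdG hpG
  rw [hatSlope, hatSlope, div_le_div_iff₀ hαG hαF] at hle
  obtain ⟨K, I, a, p, b, w, hfac, ha, hb, hp, hS, hKc, hIc⟩ := HilbPoly.exists_factor (k := k) hFc hGc φ
  haveI := ha; haveI := hb; haveI := hp
  have hI0 : ¬ IsZero I := fun h => hφ (by rw [← hfac, h.eq_of_tgt p 0, Limits.zero_comp])
  have hdI := hGp I b hb hIc hI0
  have hdK := HilbPoly.dim_mono hKc hFc a hdF.le
  obtain ⟨pK, hpK, -, -⟩ := HilbPoly.exists_hilb (k := k) hL.1 hKc hdK
  obtain ⟨pI, hpI, -, -⟩ := HilbPoly.exists_hilb (k := k) hL.1 hIc hdI.le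
  have hsum : pF = pK + pI := HilbPoly.isHilbPoly_unique hpF (HilbPoly.hilb_add hL.1 hS hKc hFc hIc hpK hpI)
  have hαI := HilbPoly.alpha_pos hL hIc hdI hpI
  have h2 := HilbPoly.mu_sub hn hL hGc hdG (fun A j hj hA p q hp hq h0 hlt => (hGst A j hj hA p q hp hq h0 hlt).le)
    b hIc hdI hpI hpG
  -- `φ` is a monomorphism
  have hK0 : IsZero K := by
    by_contra hK0
    have hαK := HilbPoly.alpha_pos hL hKc (hFp K a ha hKc hK0) hpK
    have h1 := muSt_cross hFst a hKc hpK hpF hαK (by rw [hsum, HilbPoly.alpha_add]; linarith)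
    rw [hsum, HilbPoly.alpha_add, HilbPoly.alpha_add] at h1 hle
    rw [hsum, HilbPoly.alpha_add] at hαF
    have e1 : alpha (n - 1) pK * alpha n pI < alpha (n - 1) pI * alpha n pK := by linarith
    have e2 : (alpha (n - 1) pK + alpha (n - 1) pI) * alpha n pI < alpha (n - 1) pI * (alpha n pK + alpha n pI) := by
      linarith
    have c1 := mul_le_mul_of_nonneg_right hle hαI.le
    have c2 := mul_lt_mul_of_pos_left e2 hαG
    have c3 := mul_le_mul_of_nonneg_right h2 hαF.le
    linarith
  haveI : Mono φ := by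
    haveI : Mono p := (ShortComplex.exact_iff_mono _ (hK0.eq_of_src a 0)).1 hS.exact
    rw [← hfac]
    exact mono_comp p b
  -- the cokernel is supported in codimension two
  obtain ⟨hQc, hdQ, hpQ⟩ := HilbPoly.cokernel_data hL hFc hGc hdG.le φ hpF hpG
  have hαQ := HilbPoly.alpha_nonneg hL hQc hdQ hpQ
  have heq : alpha n pF = alpha n pG := by
    rw [alpha, coeff_sub] at hαQ
    rcases (show alpha n pF ≤ alpha n pG by simp only [alpha]; linarith).lt_or_eq with h | h
    · exfalso
      have := muSt_cross hGst φ hFc hpF hpG hαF h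
      linarith
    · exact h
  have hQn : topologicalKrullDim ↥(CohB1.support (cokernel φ)) < (n : WithBot ℕ∞) := by
    refine lt_of_le_of_ne hdQ fun he => ?_
    have := HilbPoly.alpha_pos hL hQc he hpQ
    simp only [alpha, coeff_sub] at this heq
    linarith
  have hQle := HilbPoly.pred_cast hn hQn
  have hQ1 : topologicalKrullDim ↥(CohB1.support (cokernel φ)) ≠ ((n - 1 : ℕ) : WithBot ℕ∞) := fun he => by
    have h1 := HilbPoly.alpha_pos hL hQc he hpQ
    simp only [alpha, coeff_sub] at h1
    rw [heq] at hle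
    have h3 := le_of_mul_le_mul_right hle hαG
    simp only [alpha] at h3
    linarith
  let Z : Set X := CohB1.support (cokernel φ)
  have hZc : IsClosed Z := QCoh.isClosed_support_of_isFT hQc.1 hQc.2
  let U : X.Opens := ⟨Zᶜ, hZc.isOpen_compl⟩
  have hdepth : ∀ x : X, x ∉ U → (2 : ℕ∞) ≤ LocCoh.depth (X.presheaf.stalk x) (X.presheaf.stalk x) := by
    intro x hx
    refine two_le_depth_of_dim_add_two_le (X ↘ Spec (CommRingCat.of k)) hX hZc (fun e he => ?_) (not_not.1 hx)
    by_contra hcon
    rcases (show n - 1 ≤ e by omega).lt_or_eq with h | h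
    · have h4 : (e : WithBot ℕ∞) ≤ ((n - 1 : ℕ) : WithBot ℕ∞) := he.trans hQle
      have : e ≤ n - 1 := by exact_mod_cast h4
      omega
    · subst h
      exact hQ1 (le_antisymm hQle he)
  have hFe := RefX.extendsAcross_reflexive hFc hFr hdepth
  have hGe := RefX.extendsAcross_reflexive hGc hGr hdepth
  refine Scheme.Modules.Hom.isIso_iff_isIso_app.2 fun V => ?_
  rw [ConcreteCategory.isIso_iff_bijective]
  have hinj : Function.Injective (φ.app V) := QCoh.app_injective φ V
  refine ⟨hinj, fun t => ?_⟩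
  -- surjectivity over `V ⊓ U`
  have hmid : ∀ s : Γ(G, V ⊓ U), ∃ r : Γ(F, V ⊓ U), φ.app (V ⊓ U) r = s := by
    intro s
    have h0 : (cokernel.π φ).app (V ⊓ U) s = 0 := by
      refine TopCat.Presheaf.section_ext ⟨(cokernel φ).presheaf, (cokernel φ).isSheaf⟩ _ _ _ fun z hz => ?_
      haveI : Subsingleton ((cokernel φ).presheaf.stalk z) := not_not.1 hz.2
      exact Subsingleton.elim _ _
    exact QCoh.exists_app_f_eq (S := ShortComplex.mk φ (cokernel.π φ) (cokernel.condition φ))
      (.mk' (ShortComplex.exact_of_g_is_cokernel _ (cokernelIsCokernel φ)) inferInstance inferInstance) _ s h0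
  obtain ⟨r, hr⟩ := hmid (AModX.res G inf_le_left t)
  obtain ⟨r', hr'⟩ := (hFe V).2 r
  refine ⟨r', (hGe V).1 ?_⟩
  rw [← AModX.app_res φ inf_le_left r', hr']
  exact hr

end Groth.Agent.ShStabX
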