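import Groth.Agent.ShStabX.HNApp

/-!
# The minimal destabilising quotient
-/

set_option linter.style.haveILetI false
set_option linter.unusedSectionVars false
set_option backward.isDefEq.respectTransparency false
set_option backward.isDefEq.respectTransparency.types false

universe u

open CategoryTheory CategoryTheory.Limits AlgebraicGeometry Polynomial StabCat TopologicalSpace

noncomputable section

namespace Groth.Agent.ShStabX

open Groth.Agent

lemma redLE_add_of_le {d : ℕ} {P A B : ℚ[X]} (h₁ : RedLE d P A) (h₂ : RedLE d P B) : RedLE d P (A + B) := by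
  obtain ⟨N₁, h₁⟩ := h₁
  obtain ⟨N₂, h₂⟩ := h₂
  refine ⟨max N₁ N₂, fun m hm => ?_⟩
  have a := h₁ m (le_trans (le_max_left _ _) hm)
  have b := h₂ m (le_trans (le_max_right _ _) hm)
  simp only [alpha_add', eval_smul, eval_add, smul_eq_mul] at a b ⊢
  linarith

lemma redLT_add_of_lt {d : ℕ} {P A B : ℚ[X]} (h₁ : RedLT d P A) (h₂ : RedLE d P B) : RedLT d P (A + B) := by
  obtain ⟨N₁, h₁⟩ := h₁
  obtain ⟨N₂, h₂⟩ := h₂
  refine ⟨max N₁ N₂, fun m hm => ?_⟩
  have a := h₁ m (le_trans (le_max_left _ _) hm)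
  have b := h₂ m (le_trans (le_max_right _ _) hm)
  simp only [alpha_add', eval_smul, eval_add, smul_eq_mul] at a b ⊢
  linarith

variable {X : Scheme.{u}} {k : Type u} [Field k] [X.Over (Spec (CommRingCat.of k))]
  [IsProper (X ↘ Spec (CommRingCat.of k))] {L : X.Modules} {d ℓ : ℕ} {E : X.Modules}
  (hL : CohB1.IsAmple L) (hE : Coh.IsCoh E) (hp : ShStab.IsPure X E d)

include k hL hE hp

/-- The last factor is the quotient by the term before it. -/
theorem exists_iso_last {u : LTSeries (Subobject E)} (hu : IsHN k L d ℓ u) (i : Fin u.length)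
    (hi : i.val + 1 = u.length) :
    Nonempty (factor u i ≅ cokernel (u i.castSucc).arrow) := by
  have hle : u i.castSucc ≤ u i.succ := le_of_lt (u.step i)
  have htop : u i.succ = ⊤ := by
    rw [show i.succ = Fin.last u.length from Fin.ext (by simpa using hi)]
    exact hu.2.1
  haveI : Mono (quotIncl hle) := inferInstance
  haveI : Epi (quotIncl hle) :=
    (ShortComplex.exact_iff_epi _ ((isZero_cokernel_arrow_iff.2 htop).eq_of_tgt _ _)).1 (quot_shortExact hle).exact
  haveI := isIso_of_mono_of_epi (quotIncl hle)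
  exact ⟨asIso (quotIncl hle)⟩

/-- The last factor is at most every quotient `E/Eₐ`, strictly if there is more than one factor left. -/
theorem last_le_quot {u : LTSeries (Subobject E)} (hu : IsHN k L d ℓ u) (i : Fin u.length)
    (hi : i.val + 1 = u.length) (a : Fin (u.length + 1)) (ha : a.val ≤ i.val) :
    RedLE d (tp k L d ℓ (factor u i)) (tp k L d ℓ (cokernel (u a).arrow)) ∧
      (a.val < i.val → RedLT d (tp k L d ℓ (factor u i)) (tp k L d ℓ (cokernel (u a).arrow))) := by
  have hd := HilbPoly.dim_le_of_isPure hp hE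
  have hcoh := isCoh_terms (k := k) hL hE hp hu.2.1 fun j => (hu.2.2.1 j).1
  induction a using Fin.reverseInduction with
  | last => simp only [Fin.val_last] at ha; omega
  | cast a ih =>
    obtain ⟨hQ, hdQ⟩ := isCoh_cok (k := k) hL hE hd (hcoh a.castSucc)
    have hle : u a.castSucc ≤ u a.succ := le_of_lt (u.step a)
    obtain ⟨hQ', -⟩ := isCoh_cok (k := k) hL hE hd (hcoh a.succ)
    have hsum : tp k L d ℓ (cokernel (u a.castSucc).arrow) =
        tp k L d ℓ (factor u a) + tp k L d ℓ (cokernel (u a.succ).arrow) :=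
      tp_add (S := ShortComplex.mk (quotIncl hle) (quotProj hle) (quotIncl_quotProj hle)) hL (quot_shortExact hle)
        (isCoh_piece (k := k) hL hE hd (hcoh _) (hcoh _) hle).1 hQ hQ' hdQ
    rcases (show a.val ≤ i.val from ha).lt_or_eq with hlt | heq
    · have hIH := (ih (by simp only [Fin.val_succ]; omega)).1
      have h1 : RedLT d (tp k L d ℓ (factor u i)) (tp k L d ℓ (factor u a)) := hu.redLT_of_lt hL hE hp hlt
      rw [hsum]
      exact ⟨HilbPoly.redLE_of_redLT (redLT_add_of_lt h1 hIH), fun _ => redLT_add_of_lt h1 hIH⟩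
    · obtain rfl : a = i := Fin.ext heq
      obtain ⟨e⟩ := exists_iso_last hL hE hp hu a hi
      refine ⟨?_, fun h => absurd h (lt_irrefl _)⟩
      rw [tp_iso hL e (hu.2.2.1 a).1 hQ (hu.2.2.1 a).dimLE hdQ]
      exact redLE_refl _ _

/-- A pure quotient with the invariants of the last factor is the last factor. -/
theorem iso_last {s : LTSeries (Subobject E)} (hs : IsHN k L d ℓ s) (i : Fin s.length) (hi : i.val + 1 = s.length)
    {G : X.Modules} (q : E ⟶ G) [Epi q] (hG : Coh.IsCoh G) (hG0 : ¬ IsZero G) (hGp : ShStab.IsPure X G d)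
    (hα : alpha d (tp k L d ℓ (cokernel (s i.castSucc).arrow)) = alpha d (tp k L d ℓ G))
    (hred : RedEq d (tp k L d ℓ (cokernel (s i.castSucc).arrow)) (tp k L d ℓ G)) :
    ∃ φ : cokernel (s i.castSucc).arrow ≅ G, cokernel.π (s i.castSucc).arrow ≫ φ.hom = q := by
  haveI : IsNoetherian X := CurveCohLib.isNoetherian_of_proper (k := k)
  have hd := HilbPoly.dim_le_of_isPure hp hE
  have hcoh := isCoh_terms (k := k) hL hE hp hs.2.1 fun j => (hs.2.2.1 j).1
  obtain ⟨hC, hdC⟩ := isCoh_cok (k := k) hL hE hd (hcoh i.castSucc)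
  obtain ⟨eF⟩ := exists_iso_last hL hE hp hs i hi
  have hCs : SSl k L d ℓ (cokernel (s i.castSucc).arrow) := (hs.2.2.1 i).of_iso hL eF
  have hlastC : tp k L d ℓ (factor s i) = tp k L d ℓ (cokernel (s i.castSucc).arrow) :=
    tp_iso hL eF (hs.2.2.1 i).1 hC (hs.2.2.1 i).dimLE hdC
  obtain ⟨u, hu, -⟩ := existsUnique_hn (k := k) (ℓ := ℓ) hL hG hGp
  have hup : 0 < u.length := by
    by_contra h0
    have h0' : u.length = 0 := by omega
    have : u.head = u.last := congrArg u.toFun (Fin.ext (by simp [h0']))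
    rw [hu.1, hu.2.1] at this
    exact hG0 ((IsZero.iff_id_eq_zero G).2 (by
      rw [← cancel_epi (⊤ : Subobject G).arrow, ← this]
      simp))
  let m : Fin u.length := ⟨u.length - 1, by omega⟩
  have hm : m.val + 1 = u.length := by show u.length - 1 + 1 = u.length; omega
  obtain ⟨eQ⟩ := exists_iso_last (k := k) hL hG hGp hu m hm
  have hQs : SSl k L d ℓ (cokernel (u m.castSucc).arrow) := (hu.2.2.1 m).of_iso hL eQ
  have hQ0 : q ≫ cokernel.π (u m.castSucc).arrow ≠ 0 := fun h =>
    hQs.2.1 ((IsZero.iff_id_eq_zero _).2 (by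
      haveI : Epi (q ≫ cokernel.π (u m.castSucc).arrow) := epi_comp _ _
      rw [← cancel_epi (q ≫ cokernel.π (u m.castSucc).arrow), h]
      simp))
  -- some factor maps to the last factor of `G`
  obtain ⟨j, hj⟩ : ∃ j : Fin s.length, ∃ ψ : factor s j ⟶ cokernel (u m.castSucc).arrow, ψ ≠ 0 := by
    by_contra! hne
    apply hQ0
    have h := arrow_comp_eq_zero hs.1 (q ≫ cokernel.π (u m.castSucc).arrow) (Fin.last s.length) fun a _ ψ => hne a ψ
    rw [show s (Fin.last s.length) = ⊤ from hs.2.1] at h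
    rwa [← cancel_epi (⊤ : Subobject E).arrow, Limits.comp_zero]
  obtain ⟨ψ, hψ⟩ := hj
  have hle1 : RedLE d (tp k L d ℓ (cokernel (s i.castSucc).arrow)) (tp k L d ℓ (cokernel (u m.castSucc).arrow)) := by
    have h2 := ssl_redLE_of_ne_zero hL (hs.2.2.1 j) hQs hψ
    rcases lt_or_eq_of_le (show j ≤ i from by show j.val ≤ i.val; omega) with h | h
    · rw [← hlastC]
      exact HilbPoly.redLE_trans ((hs.2.2.1 i).alpha_pos hL).le ((hs.2.2.1 j).alpha_pos hL) (hQs.alpha_pos hL).le
        (HilbPoly.redLE_of_redLT (hs.redLT_of_lt hL hE hp h)) h2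
    · rw [← hlastC, ← h]; exact h2
  -- hence `G` is semistable
  have hGs : SSl k L d ℓ G := by
    haveI : IsIso (cokernel.π (u 0).arrow) := isIso_π_of_arrow_eq_zero (by
      rw [show u 0 = ⊥ from hu.1]
      exact Subobject.bot_arrow)
    have eG : cokernel (u 0).arrow ≅ G := (asIso (cokernel.π (u 0).arrow)).symm
    rcases Nat.eq_zero_or_pos m.val with hm0 | hm0
    · have h0 : m.castSucc = (0 : Fin (u.length + 1)) := Fin.ext (by simpa using hm0)
      rw [h0] at hQs
      exact hQs.of_iso hL eG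
    · exfalso
      have hQc := hQs.1
      have h1 := (last_le_quot (k := k) hL hG hGp hu m hm 0 (Nat.zero_le _)).2 (by simpa using hm0)
      rw [tp_iso hL eQ (hu.2.2.1 m).1 hQc (hu.2.2.1 m).dimLE hQs.dimLE,
        tp_iso hL eG (HilbPoly.isCoh_of_iso eG.symm hG) hG
          (isCoh_cok (k := k) hL hG (HilbPoly.dim_le_of_isPure hGp hG) (HilbPoly.isCoh_of_iso
            ((eqToIso (by rw [show u 0 = ⊥ from hu.1])) : ((⊥ : Subobject G) : X.Modules) ≅ (u 0 : X.Modules))
            (isCoh_bot_sub (k := k) hL hG hGp).1)).2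
          (HilbPoly.dim_le_of_isPure hGp hG)] at h1
      exact HilbPoly.not_redLE_of_redLT h1 (HilbPoly.redLE_trans
        (alpha_tp_nonneg hL hG (HilbPoly.dim_le_of_isPure hGp hG)) (hCs.alpha_pos hL) (hQs.alpha_pos hL).le
        (redLE_of_redEq (redEq_symm hred)) hle1)
  -- the quotient kills the penultimate term
  have hkill : (s i.castSucc).arrow ≫ q = 0 := by
    refine arrow_comp_eq_zero hs.1 q i.castSucc fun a ha ψ => ?_
    by_contra hne
    have h1 := hs.redLT_of_lt hL hE hp (show a < i from by simpa using ha)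
    rw [hlastC] at h1
    exact HilbPoly.not_redLE_of_redLT h1 (HilbPoly.redLE_trans ((hs.2.2.1 a).alpha_pos hL).le (hGs.alpha_pos hL)
      (hCs.alpha_pos hL).le (ssl_redLE_of_ne_zero hL (hs.2.2.1 a) hGs hne) (redLE_of_redEq (redEq_symm hred)))
  let g : cokernel (s i.castSucc).arrow ⟶ G := cokernel.desc _ q hkill
  have hg : cokernel.π (s i.castSucc).arrow ≫ g = q := cokernel.π_desc _ _ _
  haveI : Epi g := by
    haveI : Epi (cokernel.π (s i.castSucc).arrow ≫ g) := by rw [hg]; infer_instance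
    exact epi_of_epi (cokernel.π _) g
  have hKc : Coh.IsCoh (kernel g) := QCoh.isCoh_kernel hC hG g
  have hK : IsZero (kernel g) := by
    by_contra hK0
    have hpos := alpha_tp_pos (k := k) (ℓ := ℓ) hL hKc (hCs.2.2.1 _ (kernel.ι g) inferInstance hKc hK0)
    have hsum := tp_add (k := k) (ℓ := ℓ) (S := ShortComplex.mk (kernel.ι g) g (kernel.condition g)) hL
      (.mk' (ShortComplex.exact_kernel g) inferInstance inferInstance) hKc hC hG hdC
    dsimp only at hsum
    rw [hsum, alpha_add'] at hα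
    linarith
  haveI : Mono g := Preadditive.mono_of_kernel_zero (hK.eq_of_src _ _)
  haveI := isIso_of_mono_of_epi g
  exact ⟨asIso g, hg⟩

end Groth.Agent.ShStabX
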