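import Groth.Agent.ShStabX.CurveDec

/-!
# Sectional semistability: the general statements
-/

set_option linter.style.haveILetI false
set_option linter.unusedSectionVars false
set_option backward.isDefEq.respectTransparency false
set_option backward.isDefEq.respectTransparency.types false

universe u

open CategoryTheory CategoryTheory.Limits AlgebraicGeometry TopologicalSpace

attribute [local instance] HasDerivedCategory.standard

noncomputable section

namespace Groth.Agent.ShStabX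

open Groth.Agent
open scoped Groth.Agent.H23.PicMul

variable {X : Scheme.{u}} (k : Type u) [Field k] [X.Over (Spec (CommRingCat.of k))]
  [IsProper (X ↘ Spec (CommRingCat.of k))] {L : X.Modules}
  (hdim : topologicalKrullDim X ≤ ((1 : ℕ) : WithBot ℕ∞)) (hL : CohB1.IsAmple L)

include hdim hL

lemma slopeLE_mono {μ μ' : ℚ} (h : μ ≤ μ') {F : X.Modules} (hp : ShStab.IsPure X F 1) (hs : SlopeLE k L μ F) :
    SlopeLE k L μ' F := fun G ι hι hG hG0 => by
  haveI := hι
  have h1 : (1 : ℚ) ≤ DecSh.mult k X L G := by exact_mod_cast mult_pos_sub k hdim hL hp ι hG hG0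
  exact (hs G ι hι hG hG0).trans (mul_le_mul_of_nonneg_right h (by linarith))

/-- Multiplicities of subobjects of a pure module. -/
lemma mult_sub_bounds {E F : X.Modules} (hE : Coh.IsCoh E) (hp : ShStab.IsPure X E 1) (ι : F ⟶ E) [Mono ι]
    (hF : Coh.IsCoh F) (h0 : ¬ IsZero F) :
    1 ≤ DecSh.mult k X L F ∧ DecSh.mult k X L F ≤ DecSh.mult k X L E := by
  haveI : IsNoetherian X := CurveCohLib.isNoetherian_of_proper (k := k)
  refine ⟨mult_pos_sub k hdim hL hp ι hF h0, ?_⟩
  have hC := QCoh.isCoh_cokernel hF.1 hE ι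
  have h' := (invariants_add k hdim hL (S := ShortComplex.mk ι (cokernel.π ι) (cokernel.condition ι))
    (.mk' (ShortComplex.exact_of_g_is_cokernel _ (cokernelIsCokernel _)) inferInstance inferInstance) hF hE hC).2
  have := mult_nonneg k hdim hL (L := L) hC
  dsimp only at h'
  omega

/-- Semistability for an invariant `d ≤ χ` gives sectional semistability at large twists, and equality in it forces
all pieces to have as many sections as their Euler characteristic. -/
theorem exists_sectional (μ : ℚ) (α e : ℤ) (a : ℕ) (δ Cd : ℚ) (hδ : 0 ≤ δ) :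
    ∃ N : ℕ, ∀ m, N ≤ m → ∀ E : X.Modules, Fam k L α e μ E → ∀ (dE : ℚ) (d : Subobject E → ℚ), |dE| ≤ Cd →
      (∀ P : Subobject E, d P ≤ Curv2.euler k X (P : X.Modules)) → ∀ NV : DecSh.NV E a,
        DecSh.IsDeltaSS (fun P => Coh.IsCoh (P : X.Modules)) α (fun P => DecSh.mult k X L (P : X.Modules))
          dE d NV δ →
        ∀ 𝓕 : DecSh.WFilt E, (∀ i, Coh.IsCoh ((𝓕.piece i : Subobject E) : X.Modules)) →
          let f : Fin 𝓕.t → ℚ := fun i =>
            (α : ℚ) * ((h0 k (ShStab.twist X L ((𝓕.piece i : Subobject E) : X.Modules) m) : ℚ) -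
                ((Curv2.euler k X ((𝓕.piece i : Subobject E) : X.Modules) : ℚ) - d (𝓕.piece i))) -
              (DecSh.mult k X L ((𝓕.piece i : Subobject E) : X.Modules) : ℚ) * (((m : ℚ) * α) + dE)
          (∑ i, 𝓕.wt i * f i) + δ * 𝓕.mu α (fun P => DecSh.mult k X L (P : X.Modules)) NV ≤ 0 ∧
            ((∑ i, 𝓕.wt i * f i) + δ * 𝓕.mu α (fun P => DecSh.mult k X L (P : X.Modules)) NV = 0 →
              ∀ i, (h0 k (ShStab.twist X L ((𝓕.piece i : Subobject E) : X.Modules) m) : ℤ) =
                Curv2.euler k X (ShStab.twist X L ((𝓕.piece i : Subobject E) : X.Modules) m)) := by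
  obtain ⟨N, hN⟩ := exists_dichotomy k hdim hL μ α (|(α : ℚ)| * |Cd| + δ * a * |(α : ℚ)| + 1)
  refine ⟨N, fun m hm E hF dE d hdE hd NV hss 𝓕 hcoh => ?_⟩
  intro f
  obtain ⟨hE, hp, hα, -, hs⟩ := hF
  have hb : ∀ i, 1 ≤ DecSh.mult k X L ((𝓕.piece i : Subobject E) : X.Modules) ∧
      DecSh.mult k X L ((𝓕.piece i : Subobject E) : X.Modules) ≤ α := fun i =>
    hα ▸ mult_sub_bounds k hdim hL hE hp (𝓕.piece i).arrow (hcoh i) (𝓕.piece_nonzero i)
  have hdi := fun i => hN m hm _ (hcoh i)
    (fun G ι hι hG hG0 => by haveI := hι; exact hp G (ι ≫ (𝓕.piece i).arrow) inferInstance hG hG0)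
    (𝓕.piece_nonzero i)
    (fun G ι hι hG hG0 => by haveI := hι; exact hs G (ι ≫ (𝓕.piece i).arrow) inferInstance hG hG0) (hb i).2
  let P : Fin 𝓕.t → Prop := fun i => (h0 k (ShStab.twist X L ((𝓕.piece i : Subobject E) : X.Modules) m) : ℤ) =
      Curv2.euler k X ((𝓕.piece i : Subobject E) : X.Modules) +
        (m : ℤ) * DecSh.mult k X L ((𝓕.piece i : Subobject E) : X.Modules)
  have h := weighted_le _ α _ dE d NV δ hδ hss 𝓕 hcoh hb P f ?_ ?_
  · refine ⟨h.1, fun heq i => ?_⟩
    rw [euler_twist k hdim hL.1 (hcoh i) m]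
    by_contra hne
    exact (h.2 ⟨i, hne⟩).ne heq
  · intro i hi
    have hi' : (h0 k (ShStab.twist X L ((𝓕.piece i : Subobject E) : X.Modules) m) : ℚ) =
        (Curv2.euler k X ((𝓕.piece i : Subobject E) : X.Modules) : ℚ) +
          (m : ℚ) * DecSh.mult k X L ((𝓕.piece i : Subobject E) : X.Modules) := by exact_mod_cast hi
    simp only [f, hi']
    exact le_of_eq (by ring)
  · intro i hi
    obtain ⟨h1, h2⟩ := (hdi i).resolve_left hi
    have q1 : (1 : ℚ) ≤ DecSh.mult k X L ((𝓕.piece i : Subobject E) : X.Modules) := by exact_mod_cast (hb i).1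
    have q2 : (DecSh.mult k X L ((𝓕.piece i : Subobject E) : X.Modules) : ℚ) ≤ α := by exact_mod_cast (hb i).2
    have hα1 : (1 : ℚ) ≤ α := q1.trans q2
    rw [abs_of_pos (show (0 : ℚ) < α by linarith)] at h1
    have hCd : |dE| ≤ |Cd| := hdE.trans (le_abs_self _)
    have p1 : -((DecSh.mult k X L ((𝓕.piece i : Subobject E) : X.Modules) : ℚ) * dE) ≤ (α : ℚ) * |Cd| :=
      (neg_le_abs _).trans (by
        rw [abs_mul, abs_of_nonneg (by linarith : (0 : ℚ) ≤ DecSh.mult k X L ((𝓕.piece i : Subobject E) : X.Modules))]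
        exact mul_le_mul q2 hCd (abs_nonneg _) (by linarith))
    have p2 := mul_le_mul_of_nonneg_left (hd (𝓕.piece i)) (show (0 : ℚ) ≤ α by linarith)
    have p3 := mul_le_mul_of_nonneg_left h1 (show (0 : ℚ) ≤ α by linarith)
    have p5 : 0 ≤ ((α : ℚ) - 1) * ((α : ℚ) * |Cd| + δ * a * α + 1) :=
      mul_nonneg (by linarith) (by positivity)
    have p6 : 0 ≤ δ * a := by positivity
    simp only [f]
    linarith

/-- One slope bound for semistable and for sectionally semistable tensor fields. -/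
theorem exists_family_bound (hdim1 : topologicalKrullDim X = 1) {δ : ℚ} (hδ : 0 < δ) (α e : ℤ) (a : ℕ) :
    ∃ (μ : ℚ) (N : ℕ), ∀ (E D : X.Modules) (b : ℕ), Coh.IsCoh E → ShStab.IsPure X E 1 →
      DecSh.mult k X L E = α → Curv2.euler k X E = e → ∀ T : DecSh.TF E a b D,
        (T.IsSemistable k L δ ∨ ∃ m : ℕ, N ≤ m ∧
          ∀ 𝓕 : DecSh.WFilt E, (∀ i, Coh.IsCoh ((𝓕.piece i : Subobject E) : X.Modules)) →
            (∑ i, 𝓕.wt i * ((DecSh.mult k X L (cokernel (𝓕.piece i).arrow) : ℚ) *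
                (Curv2.euler k X (ShStab.twist X L E m) : ℚ) -
              (α : ℚ) * (Module.finrank k (Coh.HH X (ShStab.twist X L (cokernel (𝓕.piece i).arrow) m) 0) : ℚ))) +
              δ * T.mu k L 𝓕 ≤ 0) →
        Fam k L α e μ E := by
  obtain ⟨μ₁, N, h₁⟩ := exists_slope_of_quotSectional k hdim hL hδ α e a
  refine ⟨max μ₁ (|(e : ℚ)| + δ * a * |(α : ℚ)|), N, fun E D b hE hp hα he T hT => ⟨hE, hp, hα, he, ?_⟩⟩
  rcases hT with hT | ⟨m, hm, hsec⟩
  · refine slopeLE_mono k hdim hL (le_max_right _ _) hp fun G ι hι hG hG0 => ?_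
    haveI := hι
    obtain ⟨h1, h2⟩ := mult_sub_bounds k hdim hL hE hp ι hG hG0
    set mG := (DecSh.mult k X L G : ℚ)
    have h1' : (1 : ℚ) ≤ mG := by simp only [mG]; exact_mod_cast h1
    have h2' : mG ≤ (α : ℚ) := by simp only [mG]; exact_mod_cast hα ▸ h2
    have hα1 : (1 : ℚ) ≤ α := h1'.trans h2'
    have hδa : (0 : ℚ) ≤ δ * a := by positivity
    rw [abs_of_pos (show (0 : ℚ) < α by linarith)]
    have q1 : (e : ℚ) ≤ |(e : ℚ)| * mG := (le_abs_self _).trans (le_mul_of_one_le_right (abs_nonneg _) h1')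
    have q2 : 0 ≤ δ * a * (α : ℚ) * mG := mul_nonneg (mul_nonneg hδa (by linarith)) (by linarith)
    by_cases hi : IsIso ι
    · rw [euler_iso (k := k) (asIso ι), he]
      linarith
    · have h := slope_bound hdim1 hL hE hp T hδ hT ι hG hG0 hi
      rw [hα, he] at h
      have h5 : mG * (e : ℚ) ≤ (α : ℚ) * (|(e : ℚ)| * mG) :=
        (mul_le_mul_of_nonneg_left (le_abs_self _) (by linarith)).trans (by
          rw [mul_comm mG]
          exact le_mul_of_one_le_left (mul_nonneg (abs_nonneg _) (by linarith)) hα1)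
      have h6 : δ * a * ((α : ℚ) - mG) ≤ (α : ℚ) * ((δ * a * α) * mG) := by
        have h7 : (α : ℚ) ≤ α * (α * mG) := le_mul_of_one_le_right (by linarith) (one_le_mul_of_one_le_of_one_le hα1 h1')
        have := mul_le_mul_of_nonneg_left ((show (α : ℚ) - mG ≤ α by linarith).trans h7) hδa
        linarith
      refine le_of_mul_le_mul_left (a := (α : ℚ)) ?_ (by linarith)
      linarith
  · exact slopeLE_mono k hdim hL (le_max_left _ _) hp (h₁ E D b hE hp hα he T m hm hsec)

end Groth.Agent.ShStabX
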