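import Groth.Agent.DimFormula.Criteria
import Groth.Agent.GrpSchLib.SmoothRegular
import Groth.Agent.ParaFX.Ufd
import Groth.Agent.FibDim.Top
import Groth.Agent.RegLoc6.Normal

/-!
# Depth along closed subsets of codimension at least two of a smooth variety
-/

set_option linter.style.haveILetI false
set_option linter.unusedSectionVars false
set_option backward.isDefEq.respectTransparency false
set_option backward.isDefEq.respectTransparency.types false

universe u

open CategoryTheory AlgebraicGeometry TopologicalSpace

noncomputable section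

namespace Groth.Agent.ShStabX

open Groth.Agent

variable {X : Scheme.{u}} {k : Type u} [Field k]

/-- The dimension formula on an integral scheme of finite type over a field. -/
theorem rd_add_codim [IsIntegral X] (f : X ⟶ Spec (CommRingCat.of k)) [LocallyOfFiniteType f] (x : X) :
    FibDim.rd f x + DimFormula.codim x = FibDim.rd f (genericPoint X) ∧
      topologicalKrullDim ↥(closure ({x} : Set X)) = ((FibDim.rd f x : ℕ∞) : WithBot ℕ∞) := by
  haveI : IsLocallyNoetherian X := LocallyOfFiniteType.isLocallyNoetherian f
  have hsub : ∀ a b : Spec (CommRingCat.of k), a = b := fun a b =>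
    @Subsingleton.elim (Spec (CommRingCat.of k)) (inferInstanceAs (Subsingleton (PrimeSpectrum k))) a b
  have hfld : IsField ((Spec (CommRingCat.of k)).presheaf.stalk (f x)) := by
    have h0 : Order.coheight (f x) = 0 := Order.coheight_eq_zero.2 fun b _ => le_of_eq (hsub b _)
    have hd : ringKrullDim ((Spec (CommRingCat.of k)).presheaf.stalk (f x)) = 0 := by
      rw [ringKrullDim_stalk_eq_coheight, h0]
      rfl
    haveI : Ring.KrullDimLE 0 ((Spec (CommRingCat.of k)).presheaf.stalk (f x)) :=
      Ring.krullDimLE_iff.2 hd.le
    exact Ring.KrullDimLE.isField_of_isReduced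
  have hcat : CAlg.IsUniversallyCatenary ((Spec (CommRingCat.of k)).presheaf.stalk (f x)) := by
    letI := hfld.toField
    exact DimFormula.isUniversallyCatenary_field _
  have h1 := (DimFormula.cd_formula f ((genericPoint_spec X).specializes (Set.mem_univ x))).2 hcat
  rw [DimFormula.cd_eq_codim_of_irreducible, hsub (f (genericPoint X)) (f x), DimFormula.cd_self] at h1
  refine ⟨by omega, ?_⟩
  have h2 := FibDim.dim_closure_inter f x
  rwa [show closure ({x} : Set X) ∩ f ⁻¹' {f x} = closure {x} from
    Set.inter_eq_left.2 fun z _ => hsub _ _] at h2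

theorem rd_genericPoint [IsIntegral X] (f : X ⟶ Spec (CommRingCat.of k)) [LocallyOfFiniteType f] :
    topologicalKrullDim ↥X = ((FibDim.rd f (genericPoint X) : ℕ∞) : WithBot ℕ∞) := by
  rw [← (rd_add_codim f (genericPoint X)).2, (genericPoint_spec X).def]
  exact (IsHomeomorph.topologicalKrullDim_eq _ (Homeomorph.Set.univ X).symm.isHomeomorph)

/-- On a smooth variety of dimension `n` the points of a closed subset of dimension at most `n - 2` have
local rings of depth at least two. -/
theorem two_le_depth_of_dim_add_two_le [IsIntegral X] (f : X ⟶ Spec (CommRingCat.of k)) [Smooth f] {n : ℕ}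
    (hn : topologicalKrullDim ↥X = (n : WithBot ℕ∞)) {Z : Set X} (hZ : IsClosed Z)
    (hd : ∀ e : ℕ, (e : WithBot ℕ∞) ≤ topologicalKrullDim ↥Z → e + 2 ≤ n) {x : X} (hx : x ∈ Z) :
    (2 : ℕ∞) ≤ LocCoh.depth (X.presheaf.stalk x) (X.presheaf.stalk x) := by
  haveI : IsLocallyNoetherian X := LocallyOfFiniteType.isLocallyNoetherian f
  obtain ⟨h1, h2⟩ := rd_add_codim f x
  have hN := (rd_genericPoint f).symm.trans hn
  have hN' : FibDim.rd f (genericPoint X) = n := by exact_mod_cast hN
  have hcl : closure ({x} : Set X) ⊆ Z := closure_minimal (Set.singleton_subset_iff.2 hx) hZ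
  have hr := hd (FibDim.rd f x) (by
    refine le_trans ?_ (Topology.IsInducing.topologicalKrullDim_le
      (Topology.IsEmbedding.inclusion hcl).isInducing)
    rw [h2]
    exact le_of_eq rfl)
  haveI : IsRegularLocalRing (X.presheaf.stalk x) := GrpSchLib.isRegularLocalRing_stalk_of_smooth f x
  haveI := RegLoc6.isIntegrallyClosed_of_isRegularLocalRing (X.presheaf.stalk x)
  refine ParaFX.two_le_depth_of_normal _ ?_
  rw [DimFormula.ringKrullDim_stalk]
  exact_mod_cast (show 2 ≤ DimFormula.codim x by omega)

end Groth.Agent.ShStabX
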