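import Groth.Agent.ShStabX.CurveFam

/-!
# Finite unions of slope-bounded families in dimension one are bounded
-/

set_option linter.style.haveILetI false
set_option linter.unusedSectionVars false
set_option backward.isDefEq.respectTransparency false
set_option backward.isDefEq.respectTransparency.types false

universe u

open CategoryTheory CategoryTheory.Limits AlgebraicGeometry TopologicalSpace Filter

attribute [local instance] HasDerivedCategory.standard

noncomputable section

namespace Groth.Agent.ShStabX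

open Groth.Agent
open scoped Groth.Agent.H23.PicMul

variable {X : Scheme.{u}} (k : Type u) [Field k] [X.Over (Spec (CommRingCat.of k))]
  [IsProper (X ↘ Spec (CommRingCat.of k))] {L : X.Modules}

include k in
/-- A coherent module with at most `n` independent jointly epi sections is a quotient of `O^n`. -/
lemma exists_epi_free_le {G : X.Modules} (hG : Coh.IsCoh G) {n : ℕ} (hn : h0 k G ≤ n)
    (hg : ∀ (Z : X.Modules) (u v : G ⟶ Z), (∀ φ : Coh.structureModule X ⟶ G, φ ≫ u = φ ≫ v) → u = v) :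
    ∃ q : free X n ⟶ G, Epi q := by
  haveI := Abelian.hasFiniteBiproducts (C := X.Modules)
  obtain ⟨q, hq⟩ := exists_epi_free k hG rfl hg
  haveI := hq
  let π : free X n ⟶ free X (h0 k G) := biproduct.lift fun i => biproduct.π _ (Fin.castLE hn i)
  haveI : Epi π := ⟨fun {Z} u v huv => biproduct.hom_ext' _ _ fun i => by
    have h := congrArg (fun z => biproduct.ι (fun _ : Fin n => Coh.structureModule X) (Fin.castLE hn i) ≫ z) huv
    have hi : biproduct.ι (fun _ : Fin n => Coh.structureModule X) (Fin.castLE hn i) ≫ π =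
        biproduct.ι (fun _ : Fin (h0 k G) => Coh.structureModule X) i := biproduct.hom_ext _ _ fun j => by
      rw [Category.assoc, biproduct.lift_π]
      by_cases hij : i = j
      · subst hij; rw [biproduct.ι_π_self, biproduct.ι_π_self]
      · rw [biproduct.ι_π_ne _ hij, biproduct.ι_π_ne _ (fun h => hij ((Fin.castLE_injective hn) h))]
    exact (congrArg (· ≫ u) hi).symm.trans ((Category.assoc _ _ _).trans
      (h.trans ((Category.assoc _ _ _).symm.trans (congrArg (· ≫ v) hi))))⟩
  exact ⟨π ≫ q, epi_comp _ _⟩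

variable (hdim : topologicalKrullDim X ≤ ((1 : ℕ) : WithBot ℕ∞)) (hL : CohB1.IsAmple L)
  {A : ℕ → X.Modules} (hA : IsTestFam L A)

include hdim hL hA in
/-- Members of finitely many slope-bounded families are quotients of one fixed pure module. -/
lemma exists_quot_finset (hO : ShStab.IsPure X (Coh.structureModule X) 1) (S : Finset (ℤ × ℤ)) (μ : ℚ) :
    ∃ B : X.Modules, Coh.IsCoh B ∧ ShStab.IsPure X B 1 ∧
      ∀ F, (∃ p ∈ S, Fam k L p.1 p.2 μ F) → ∃ p : B ⟶ F, Epi p := by
  classical
  haveI : IsNoetherian X := CurveCohLib.isNoetherian_of_proper (k := k)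
  choose m₁ hv using fun p : ℤ × ℤ => exists_vanish k hdim hL hA p.1 p.2 μ
  choose m₂ hg using fun p : ℤ × ℤ => exists_gen k hdim hL hA p.1 p.2 μ
  set m := S.sup fun p => max (m₁ p) (m₂ p)
  set N := S.sup fun p => (p.2 + (m : ℤ) * p.1).toNat
  let B := (AmpleVan.tw (A m)).obj (free X N)
  refine ⟨B, isCoh_testFree k hA m _, isPure_tw (hA m).1 (isPure_free k hdim hO _), fun F ⟨p, hp, hF⟩ => ?_⟩
  have hm : max (m₁ p) (m₂ p) ≤ m := Finset.le_sup (f := fun p => max (m₁ p) (m₂ p)) hp
  have hvF := hv p m (le_of_max_le_left hm) F hF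
  have hgF := hg p m (le_of_max_le_right hm) F hF
  have hN : (p.2 + (m : ℤ) * p.1).toNat ≤ N :=
    Finset.le_sup (f := fun p : ℤ × ℤ => (p.2 + (m : ℤ) * p.1).toNat) hp
  obtain ⟨hFc, -, hα, he, -⟩ := hF
  have hG : Coh.IsCoh (ShStab.twist X L F m) :=
    AmpleVan.isCoh_tensor hFc (AmpleVan.isCoh_invertible (InvX.isInvertible_tensorPow hL.1 m))
  have hn : h0 k (ShStab.twist X L F m) ≤ N := by
    have h1 := euler_eq k hdim (ShStab.twist X L F m)
    haveI := hvF 1 le_rfl
    rw [euler_twist k hdim hL.1 hFc m, he, hα, Module.finrank_zero_of_subsingleton] at h1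
    omega
  obtain ⟨q, hq⟩ := exists_epi_free_le k hG hn (fun Z u v huv => hgF Z u v huv)
  haveI := hq
  obtain ⟨e₀⟩ := (hA m).2
  obtain ⟨c⟩ := (nonempty_cancel e₀ F).2
  haveI : (AmpleVan.tw (A m)).IsEquivalence := AmpleVan.isEquivalence_tw (hA m).1
  haveI : Epi ((AmpleVan.tw (A m)).map q) := Functor.map_epi _ _
  exact ⟨(AmpleVan.tw (A m)).map q ≫ c.hom, epi_comp _ _⟩

include hdim hL in
/-- Finitely many slope-bounded families together form a bounded family. -/
theorem isBounded_fam_finset (hO : ShStab.IsPure X (Coh.structureModule X) 1) (S : Finset (ℤ × ℤ)) (μ : ℚ) :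
    Pic13.IsBounded k X (fun F => ∃ p ∈ S, Fam k L p.1 p.2 μ F) := by
  classical
  haveI : IsNoetherian X := CurveCohLib.isNoetherian_of_proper (k := k)
  obtain ⟨A, hA⟩ := exists_testFam hL.1
  obtain ⟨B, hB, hpB, h⟩ := exists_quot_finset k hdim hL hA hO S μ
  obtain ⟨B₁, hB₁, -, h'⟩ := exists_quot_finset k hdim hL hA hO
    (S.image fun p => (DecSh.mult k X L B - p.1, Curv2.euler k X B - p.2)) (h0 k B)
  haveI : Module.Finite k (B₁ ⟶ B) := ASBunK.finite_hom k hB₁ hB
  refine Pic13Lib.isBounded_mono k X ?_ (Pic13Lib.isBounded_coker k X hB₁ hB)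
  rintro F ⟨p, hp, hF⟩
  obtain ⟨f, hf⟩ := h F ⟨p, hp, hF⟩
  haveI := hf
  obtain ⟨q, hq⟩ := h' _ ⟨_, Finset.mem_image_of_mem _ hp, fam_kernel k hdim hL hB hpB hF.1 hF.2.2.1 hF.2.2.2.1 f⟩
  haveI := hq
  have hS : (ShortComplex.mk (kernel.ι f) f (kernel.condition f)).ShortExact :=
    .mk' (ShortComplex.exact_of_f_is_kernel _ (kernelIsKernel f)) inferInstance inferInstance
  exact ⟨q ≫ kernel.ι f,
    ⟨cokernelEpiComp q (kernel.ι f) ≪≫ (cokernelIsCokernel _).coconePointUniqueUpToIso hS.gIsCokernel⟩⟩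

end Groth.Agent.ShStabX
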