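import Groth.Agent.ShStabX.CurveLP
import Groth.Agent.ShStabX.CurveUnion

/-!
# Sectional semistability of tensor fields on curves
-/

set_option linter.style.haveILetI false
set_option linter.unusedSectionVars false
set_option backward.isDefEq.respectTransparency false
set_option backward.isDefEq.respectTransparency.types false

universe v u

open CategoryTheory CategoryTheory.Limits AlgebraicGeometry TopologicalSpace

attribute [local instance] HasDerivedCategory.standard

noncomputable section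

namespace Groth.Agent.ShStabX

open Groth.Agent
open scoped Groth.Agent.H23.PicMul

section Generic

variable {C : Type u} [Category.{v} C] {E : C} (ok : Subobject E → Prop) (αE : ℤ) (α : Subobject E → ℤ)
  (dE : ℚ) (d : Subobject E → ℚ) {a : ℕ} (N : DecSh.NV E a) (δ : ℚ)

/-- Replacing some terms of the semistability inequality by sufficiently negative ones keeps it, and makes it
strict if some term is replaced. -/
lemma weighted_le (hδ : 0 ≤ δ) (hss : DecSh.IsDeltaSS ok αE α dE d N δ) (𝓕 : DecSh.WFilt E)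
    (hok : ∀ i, ok (𝓕.piece i)) (hb : ∀ i, 1 ≤ α (𝓕.piece i) ∧ α (𝓕.piece i) ≤ αE)
    (P : Fin 𝓕.t → Prop) (f : Fin 𝓕.t → ℚ)
    (hgood : ∀ i, P i → f i ≤ (αE : ℚ) * d (𝓕.piece i) - (α (𝓕.piece i) : ℚ) * dE)
    (hbad : ∀ i, ¬ P i → f i ≤ -(δ * a * ((αE : ℚ) - 1)) - 1) :
    (∑ i, 𝓕.wt i * f i) + δ * 𝓕.mu αE α N ≤ 0 ∧
      ((∃ i, ¬ P i) → (∑ i, 𝓕.wt i * f i) + δ * 𝓕.mu αE α N < 0) := by
  classical
  set S := (Finset.univ : Finset (Fin 𝓕.t)).filter P with hS
  set T := (Finset.univ : Finset (Fin 𝓕.t)).filter (fun i => ¬ P i) with hT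
  have hsplit : ∀ g : Fin 𝓕.t → ℚ, ∑ i, g i = ∑ i ∈ S, g i + ∑ i ∈ T, g i := fun g =>
    (Finset.sum_filter_add_sum_filter_not Finset.univ P g).symm
  have hbadsum : ∑ i ∈ T, 𝓕.wt i * f i ≤ ∑ i ∈ T, 𝓕.wt i * (-(δ * a * ((αE : ℚ) - 1)) - 1) :=
    Finset.sum_le_sum fun i hi => mul_le_mul_of_nonneg_left (hbad i (Finset.mem_filter.1 hi).2) (𝓕.wt_pos i).le
  have hTnn : 0 ≤ ∑ i ∈ T, 𝓕.wt i := Finset.sum_nonneg fun i _ => (𝓕.wt_pos i).le
  have hTpos : (∃ i, ¬ P i) → 0 < ∑ i ∈ T, 𝓕.wt i := fun ⟨i, hi⟩ =>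
    Finset.sum_pos' (fun j _ => (𝓕.wt_pos j).le) ⟨i, Finset.mem_filter.2 ⟨Finset.mem_univ _, hi⟩, 𝓕.wt_pos i⟩
  suffices h : (∑ i ∈ S, 𝓕.wt i * f i) + δ * 𝓕.mu αE α N ≤
      δ * ((∑ i ∈ T, 𝓕.wt i) * a * ((αE : ℚ) - 1)) by
    have e : ∑ i ∈ T, 𝓕.wt i * (-(δ * a * ((αE : ℚ) - 1)) - 1) =
        -(δ * ((∑ i ∈ T, 𝓕.wt i) * a * ((αE : ℚ) - 1))) - ∑ i ∈ T, 𝓕.wt i := by
      rw [← Finset.sum_mul]; ring
    rw [hsplit]
    exact ⟨by linarith, fun hex => by have := hTpos hex; linarith⟩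
  rcases S.eq_empty_or_nonempty with hS0 | hS0
  · rw [hS0, Finset.sum_empty, zero_add]
    refine mul_le_mul_of_nonneg_left ?_ hδ
    refine ((le_abs_self _).trans (abs_mu_le 𝓕 αE α hb N)).trans (le_of_eq ?_)
    rw [hsplit, hS0, Finset.sum_empty, zero_add]
  · let e := S.orderEmbOfFin rfl
    let 𝓖 : DecSh.WFilt E :=
      { t := S.card
        t_pos := Finset.card_pos.2 hS0
        piece := fun j => 𝓕.piece (e j)
        wt := fun j => 𝓕.wt (e j)
        piece_strictMono := 𝓕.piece_strictMono.comp e.strictMono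
        piece_ne_top := fun j => 𝓕.piece_ne_top _
        piece_nonzero := fun j => 𝓕.piece_nonzero _
        wt_pos := fun j => 𝓕.wt_pos _ }
    have hre : ∀ g : Fin 𝓕.t → ℚ, ∑ j : Fin S.card, g (e j) = ∑ i ∈ S, g i := fun g => by
      rw [← Finset.sum_image (f := g) (g := e) (fun x _ y _ h => e.injective h)]
      congr 1
      exact Finset.image_orderEmbOfFin_univ S rfl
    have h1 : 𝓖.msum αE α dE d + δ * 𝓖.mu αE α N ≤ 0 := hss 𝓖 fun j => hok _
    have h2 : 𝓕.mu αE α N ≤ 𝓖.mu αE α N + (∑ i ∈ T, 𝓕.wt i) * (a : ℚ) * ((αE : ℚ) - 1) := by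
      refine (mu_le_sub_add 𝓕 αE α hb N 𝓖 e (fun _ => rfl) (fun _ => rfl)).trans (le_of_eq ?_)
      have : (∑ j, 𝓖.wt j) = ∑ i ∈ S, 𝓕.wt i := hre 𝓕.wt
      rw [this, hsplit]
      ring
    have h3 : ∑ i ∈ S, 𝓕.wt i * f i ≤ 𝓖.msum αE α dE d := by
      rw [← hre fun i => 𝓕.wt i * f i]
      exact Finset.sum_le_sum fun j _ => mul_le_mul_of_nonneg_left
        (hgood _ (Finset.mem_filter.1 (Finset.orderEmbOfFin_mem S rfl j)).2) (𝓕.wt_pos _).le
    have h4 := mul_le_mul_of_nonneg_left h2 hδ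
    linarith

end Generic

variable {X : Scheme.{u}} (k : Type u) [Field k] [X.Over (Spec (CommRingCat.of k))]
  [IsProper (X ↘ Spec (CommRingCat.of k))] {L : X.Modules}
  (hdim : topologicalKrullDim X ≤ ((1 : ℕ) : WithBot ℕ∞)) (hL : CohB1.IsAmple L)

include hdim hL

/-- Without first cohomology, sections are counted by the Euler characteristic. -/
lemma h0_eq_euler {F : X.Modules} (h : Subsingleton (Coh.HH X F 1)) : (h0 k F : ℤ) = Curv2.euler k X F := by
  haveI := h
  rw [euler_eq k hdim F, Module.finrank_zero_of_subsingleton, Nat.cast_zero, sub_zero]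

/-- Pieces either have no higher cohomology in high degree, or very few sections. -/
theorem exists_dichotomy (μ : ℚ) (α : ℤ) (D : ℚ) : ∃ N : ℕ, ∀ m, N ≤ m → ∀ F : X.Modules, Coh.IsCoh F →
    ShStab.IsPure X F 1 → ¬ IsZero F → SlopeLE k L μ F → DecSh.mult k X L F ≤ α →
      (h0 k (ShStab.twist X L F m) : ℤ) = Curv2.euler k X F + (m : ℤ) * DecSh.mult k X L F ∨
      ((h0 k (ShStab.twist X L F m) : ℚ) ≤ (m : ℚ) * (DecSh.mult k X L F : ℚ) - D ∧
        (Curv2.euler k X F : ℚ) ≤ -D) := by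
  classical
  haveI : IsNoetherian X := CurveCohLib.isNoetherian_of_proper (k := k)
  obtain ⟨A, hA⟩ := exists_testFam hL.1
  obtain ⟨c, hc, hLP⟩ := exists_lePotier k hdim hL
  set K : ℚ := |D| + (|(α : ℚ)| + 2) * (|μ| + c) with hK
  set B : ℕ := ⌈(|(α : ℚ)| + 1) * K⌉₊ with hB
  choose m₀ hv using fun p : ℤ × ℤ => exists_vanish k hdim hL hA p.1 p.2 μ
  set S := Finset.Icc (1 : ℤ) α ×ˢ Finset.Icc (-(B : ℤ)) ((⌈|μ|⌉₊ : ℤ) * |α|) with hS
  refine ⟨S.sup m₀ + ⌈K + |μ|⌉₊, fun m hm F hF hp hF0 hs hFα => ?_⟩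
  have hαF := mult_pos_sub k hdim hL hp (𝟙 F) hF hF0
  have hα1 : (1 : ℚ) ≤ DecSh.mult k X L F := by exact_mod_cast hαF
  have hFα' : (DecSh.mult k X L F : ℚ) ≤ |(α : ℚ)| := le_trans (by exact_mod_cast hFα) (le_abs_self _)
  by_cases hχ : -(B : ℤ) ≤ Curv2.euler k X F
  · left
    have hup : Curv2.euler k X F ≤ (⌈|μ|⌉₊ : ℤ) * |α| := by
      have h1 := hs F (𝟙 F) inferInstance hF hF0
      have h2 : μ * (DecSh.mult k X L F : ℚ) ≤ (⌈|μ|⌉₊ : ℚ) * |(α : ℚ)| :=
        le_trans (mul_le_mul_of_nonneg_right ((le_abs_self μ).trans (Nat.le_ceil _)) (by linarith))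
          (mul_le_mul_of_nonneg_left hFα' (Nat.cast_nonneg _))
      exact_mod_cast h1.trans h2
    have hmem : (DecSh.mult k X L F, Curv2.euler k X F) ∈ S :=
      Finset.mem_product.2 ⟨Finset.mem_Icc.2 ⟨hαF, hFα⟩, Finset.mem_Icc.2 ⟨hχ, hup⟩⟩
    have hm' : m₀ (DecSh.mult k X L F, Curv2.euler k X F) ≤ m := (Finset.le_sup hmem).trans (by omega)
    rw [h0_eq_euler k hdim hL (hv _ m hm' F ⟨hF, hp, rfl, rfl, hs⟩ 1 le_rfl), euler_twist k hdim hL.1 hF m]
  · right
    have hK0 : 0 ≤ K := by positivity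
    have hχ' : (Curv2.euler k X F : ℚ) ≤ -((|(α : ℚ)| + 1) * K) := by
      have h1 : (Curv2.euler k X F : ℚ) ≤ -(B : ℚ) := by exact_mod_cast (not_le.1 hχ).le
      have h2 := Nat.le_ceil ((|(α : ℚ)| + 1) * K)
      rw [← hB] at h2
      linarith
    have hKD : D ≤ (|(α : ℚ)| + 1) * K := by
      have h1 : D ≤ K := by
        have : 0 ≤ (|(α : ℚ)| + 2) * (|μ| + c) := by positivity
        linarith [le_abs_self D]
      nlinarith [abs_nonneg (α : ℚ)]
    have hmK : K + |μ| ≤ (m : ℚ) := by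
      refine (Nat.le_ceil _).trans ?_
      exact_mod_cast (show ⌈K + |μ|⌉₊ ≤ m by omega)
    have hμ := neg_abs_le μ
    have hμ' := le_abs_self μ
    refine ⟨?_, by linarith⟩
    refine (hLP μ F hF hp hF0 hs m (by linarith)).trans ?_
    have h3 : (Curv2.euler k X F : ℚ) / DecSh.mult k X L F ≤ -K := by
      rw [div_le_iff₀ (by linarith)]
      nlinarith
    have h4 : K - |μ| ≤ min (μ + m + c) (μ - (Curv2.euler k X F : ℚ) / DecSh.mult k X L F) :=
      le_min (by linarith) (by linarith)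
    have h5 : (DecSh.mult k X L F : ℚ) * (μ + c) ≤ |(α : ℚ)| * (|μ| + c) :=
      (mul_le_mul_of_nonneg_left (by linarith) (by linarith)).trans (mul_le_mul_of_nonneg_right hFα' (by positivity))
    have h6 : (0 : ℚ) ≤ |μ| + c := by positivity
    rw [hK] at h4
    nlinarith [le_abs_self D]

variable {E D : X.Modules} {a b : ℕ} {δ : ℚ}

/-- A bound on all submodules from sectional semistability with quotients at one large twist. -/
theorem exists_slope_of_quotSectional (hδ : 0 < δ) (α e : ℤ) (a : ℕ) :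
    ∃ (μ : ℚ) (N : ℕ), ∀ (E D : X.Modules) (b : ℕ), Coh.IsCoh E → ShStab.IsPure X E 1 →
      DecSh.mult k X L E = α → Curv2.euler k X E = e → ∀ T : DecSh.TF E a b D, ∀ m, N ≤ m →
        (∀ 𝓕 : DecSh.WFilt E, (∀ i, Coh.IsCoh ((𝓕.piece i : Subobject E) : X.Modules)) →
          (∑ i, 𝓕.wt i * ((DecSh.mult k X L (cokernel (𝓕.piece i).arrow) : ℚ) *
              (Curv2.euler k X (ShStab.twist X L E m) : ℚ) -
            (α : ℚ) * (Module.finrank k (Coh.HH X (ShStab.twist X L (cokernel (𝓕.piece i).arrow) m) 0) : ℚ))) +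
            δ * T.mu k L 𝓕 ≤ 0) →
        SlopeLE k L μ E := by
  haveI : IsNoetherian X := CurveCohLib.isNoetherian_of_proper (k := k)
  obtain ⟨A, hA⟩ := exists_testFam hL.1
  obtain ⟨c, hc, hb⟩ := exists_h0_bound k hdim hL hA
  refine ⟨|(e : ℚ)| + (|(e : ℚ)| + δ * a + c) * |(α : ℚ)|, ⌈|(e : ℚ)| + δ * a⌉₊ + 1,
    fun E D b hE hp hα he T m hm hsec => ?_⟩
  by_cases hE0 : IsZero E
  · intro H i hi hH hH0
    haveI := hi
    exact absurd ((IsZero.iff_id_eq_zero H).2 ((cancel_mono i).1 (hE0.eq_of_tgt _ _))) hH0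
  have hαpos : (1 : ℚ) ≤ α := by exact_mod_cast hα ▸ mult_pos_sub k hdim hL hp (𝟙 E) hE hE0
  have hδa : 0 ≤ δ * a := by positivity
  obtain ⟨G, Q, ι, π, w, hS, hG, hQ, hQ1, hQp, hQs, hall⟩ := exists_minQuot k hdim hL hE hp hE0
  haveI : Mono ι := hS.mono_f
  set r : ℚ := (Curv2.euler k X Q : ℚ) / DecSh.mult k X L Q with hr
  have hQ1' : (1 : ℚ) ≤ DecSh.mult k X L Q := by exact_mod_cast hQ1
  obtain ⟨hadde, haddm⟩ := invariants_add k hdim hL hS hG hE hQ
  dsimp only at hadde haddm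
  have hlow : -(|(e : ℚ)| + δ * a + c) ≤ r := by
    by_cases hG0 : IsZero G
    · have hm0 : DecSh.mult k X L G = 0 := (HilbPoly.additive_lead (HilbPoly.additive_euler k) hL.1 1).zero_of_isZero hG0
      rw [(HilbPoly.additive_euler k).zero_of_isZero hG0, zero_add, he] at hadde
      rw [hm0, zero_add, hα] at haddm
      rw [hr, ← hadde, ← haddm]
      refine le_trans ?_ (neg_abs_le _)
      rw [abs_div, abs_of_pos (show (0 : ℚ) < α by linarith)]
      have := div_le_self (abs_nonneg (e : ℚ)) hαpos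
      linarith
    · have hι : ¬ IsIso ι := fun hi => by
        haveI := hi
        have hz : IsZero Q := by
          haveI := hS.epi_g
          have hπ : π = 0 := (cancel_epi ι).1 (w.trans Limits.comp_zero.symm)
          exact IsZero.of_epi_eq_zero π hπ
        have := (HilbPoly.additive_lead (HilbPoly.additive_euler k) hL.1 1).zero_of_isZero hz
        have h' : DecSh.mult k X L Q = 0 := this
        omega
      obtain ⟨𝓕, hcoh, i₀, eG, heG, hsum, hw⟩ := exists_single ι hG hG0 hι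
      have h := hsec 𝓕 hcoh
      rw [hsum, hw, one_mul] at h
      haveI := hS.epi_g
      let eQ : cokernel (𝓕.piece i₀).arrow ≅ Q :=
        cokernel.mapIso _ ι eG (Iso.refl _) (by rw [heG, Iso.refl_hom, Category.comp_id]) ≪≫
          (cokernelIsCokernel ι).coconePointUniqueUpToIso hS.gIsCokernel
      rw [← h0_eq, h0_iso k (show ShStab.twist X L (cokernel (𝓕.piece i₀).arrow) m ≅ ShStab.twist X L Q m from
        (AmpleVan.tw (CohB1.tensorPow L m)).mapIso eQ), decMult_iso (k := k) (L := L) eQ,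
        euler_twist k hdim hL.1 hE m, hα, he] at h
      push_cast at h
      have hmu : -((a : ℚ) * DecSh.mult k X L Q) ≤ T.mu k L 𝓕 := by
        have hbd : ∀ i, 1 ≤ DecSh.mult k X L ((𝓕.piece i : Subobject E) : X.Modules) ∧
            DecSh.mult k X L ((𝓕.piece i : Subobject E) : X.Modules) ≤ DecSh.mult k X L E := fun i => by
          refine ⟨mult_pos_sub k hdim hL hp (𝓕.piece i).arrow (hcoh i) (𝓕.piece_nonzero i), ?_⟩
          have hC := QCoh.isCoh_cokernel (hcoh i).1 hE (𝓕.piece i).arrow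
          have h' := (invariants_add k hdim hL (S := ShortComplex.mk _ _ (cokernel.condition (𝓕.piece i).arrow))
            (.mk' (ShortComplex.exact_of_g_is_cokernel _ (cokernelIsCokernel _)) inferInstance inferInstance)
            (hcoh i) hE hC).2
          have := mult_nonneg k hdim hL (L := L) hC
          dsimp only at h'
          omega
        have h' := le_mu 𝓕 _ (fun P => DecSh.mult k X L (P : X.Modules)) hbd T.nv
        rw [hsum, hw, one_mul, decMult_iso (k := k) (L := L) eG, haddm] at h'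
        push_cast at h'
        rw [DecSh.TF.mu, haddm]
        linarith
      have hPm := InvX.isInvertible_tensorPow hL.1 m
      have hbQ := hb _ (ShStab.twist X L Q m) (AmpleVan.isCoh_tensor hQ (AmpleVan.isCoh_invertible hPm))
        (isPure_tw hPm hQp) (slopeLE_twist k hdim hL hQs m)
      rw [decMult_twist k hdim hL.1 hQ] at hbQ
      have h' := mul_le_mul_of_nonneg_left hmu hδ.le
      have hbQ' := mul_le_mul_of_nonneg_left hbQ (show (0 : ℚ) ≤ α by linarith)
      have key : (e : ℚ) + (m : ℚ) * α - δ * a ≤ (α : ℚ) * max 0 (r + m + c) := by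
        refine le_of_mul_le_mul_left (a := (DecSh.mult k X L Q : ℚ)) ?_ (by linarith)
        linarith
      have hm' : |(e : ℚ)| + δ * a + 1 ≤ (m : ℚ) := by
        have h1 := Nat.le_ceil (|(e : ℚ)| + δ * a)
        have h2 : (⌈|(e : ℚ)| + δ * a⌉₊ : ℚ) + 1 ≤ m := by exact_mod_cast hm
        linarith
      have hm'' : (m : ℚ) ≤ (m : ℚ) * α := le_mul_of_one_le_right (Nat.cast_nonneg _) hαpos
      rcases max_choice (0 : ℚ) (r + m + c) with hmax | hmax
      · rw [hmax, mul_zero] at key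
        linarith [neg_abs_le (e : ℚ)]
      · rw [hmax] at key
        have h7 : (|(e : ℚ)| + δ * a) * 1 ≤ (|(e : ℚ)| + δ * a) * α :=
          mul_le_mul_of_nonneg_left hαpos (by positivity)
        by_contra hlt
        have h8 : (r + c + (|(e : ℚ)| + δ * a)) * α < 0 :=
          mul_neg_of_neg_of_pos (by linarith [not_le.1 hlt]) (by linarith)
        linarith [neg_abs_le (e : ℚ)]
  intro H i hi hH hH0
  have h := hall H i hi hH
  rw [hα, he] at h
  have hH1 : (1 : ℚ) ≤ DecSh.mult k X L H := by exact_mod_cast mult_pos_sub k hdim hL hp i hH hH0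
  set C₁ : ℚ := |(e : ℚ)| + δ * a + c with hC₁
  have hC0 : 0 ≤ C₁ := by positivity
  have hle : (DecSh.mult k X L H : ℚ) ≤ α := by
    haveI := hi
    have hC := QCoh.isCoh_cokernel hH.1 hE i
    have h' := (invariants_add k hdim hL (S := ShortComplex.mk i _ (cokernel.condition i))
      (.mk' (ShortComplex.exact_of_g_is_cokernel _ (cokernelIsCokernel _)) inferInstance inferInstance) hH hE hC).2
    have := mult_nonneg k hdim hL (L := L) hC
    dsimp only at h'
    rw [hα] at h'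
    exact_mod_cast (show DecSh.mult k X L H ≤ α by omega)
  rw [abs_of_pos (show (0 : ℚ) < α by linarith)]
  have h9 : -(C₁ * α) ≤ r * ((α : ℚ) - DecSh.mult k X L H) := by
    have hd : (0 : ℚ) ≤ (α : ℚ) - DecSh.mult k X L H := by linarith
    have := mul_le_mul_of_nonneg_right hlow hd
    nlinarith
  have h10 : |(e : ℚ)| + C₁ * α ≤ (|(e : ℚ)| + C₁ * α) * DecSh.mult k X L H :=
    le_mul_of_one_le_right (by positivity) hH1
  linarith [le_abs_self (e : ℚ)]

end Groth.Agent.ShStabX
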