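import Mathlib.FieldTheory.IntermediateField.Adjoin.Basic
import Mathlib.LinearAlgebra.TensorProduct.Tower
import Mathlib.LinearAlgebra.TensorProduct.Basis
import Mathlib.LinearAlgebra.FreeModule.PID
import Mathlib.LinearAlgebra.Basis.VectorSpace
import Mathlib.RingTheory.Localization.Module
import Mathlib.RingTheory.Flat.Basic
import Mathlib.RingTheory.TensorProduct.Free
import Mathlib.RingTheory.Algebraic.Integral

/-!
# Families of subspaces of a graded system, and extension of the base field

A system is a sequence of finite-dimensional `k`-spaces `V j` with a set of admissible linear maps.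
A property of the eventual dimension polynomial of every closed family of subspaces over `k`
passes to every extension field: along finite extensions by restriction of scalars, along
transcendental ones by specialisation, and to arbitrary ones for finitely generated families.
-/

set_option linter.style.haveILetI false
set_option linter.unusedSectionVars false

universe u

open TensorProduct Filter Polynomial

noncomputable section

namespace Groth.Agent.ShStabX.SecFam

variable (k : Type u) [Field k] (V : ℕ → Type u) [∀ j, AddCommGroup (V j)] [∀ j, Module k (V j)]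
  [∀ j, Module.Finite k (V j)] (Op : ∀ i j, Set (V i →ₗ[k] V j))

section defs

variable (K : Type u) [Field K] [Algebra k K]

/-- Stability of a family of subspaces under the admissible maps. -/
def Closed {ι : Type u} (W : ∀ j, Submodule K (ι → K ⊗[k] V j)) : Prop :=
  ∀ i j, ∀ f ∈ Op i j, ∀ w ∈ W i, (fun a => f.baseChange K (w a)) ∈ W j

/-- Eventual dimension polynomial. -/
def HasDimPoly {ι : Type u} (W : ∀ j, Submodule K (ι → K ⊗[k] V j)) (Q : ℚ[X]) : Prop :=
  ∀ᶠ j in atTop, (Module.finrank K (W j) : ℚ) = Q.eval (j : ℚ)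

/-- The dimension polynomial of every closed family satisfies `C`. -/
def Good (C : ℚ[X] → Prop) : Prop :=
  ∀ (ι : Type u) [Finite ι] (W : ∀ j, Submodule K (ι → K ⊗[k] V j)), Closed k V Op K W →
    ∀ Q : ℚ[X], HasDimPoly k V K W Q → Q ≠ 0 → C Q

end defs

variable {k V Op} {C : ℚ[X] → Prop} (hC : ∀ (n : ℕ) (Q : ℚ[X]), 0 < n → C ((n : ℚ) • Q) → C Q)

section finite

variable {K₀ K : Type u} [Field K₀] [Algebra k K₀] [Field K] [Algebra k K] [Algebra K₀ K]
  [IsScalarTower k K₀ K]

lemma map_baseChange {M N : Type u} [AddCommGroup M] [Module k M] [AddCommGroup N] [Module k N]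
    (l : K →ₗ[K₀] K₀) (f : M →ₗ[k] N) (z : K ⊗[k] M) :
    AlgebraTensorModule.map l LinearMap.id (f.baseChange K z) =
      f.baseChange K₀ (AlgebraTensorModule.map l LinearMap.id z) := by
  induction z using TensorProduct.induction_on with
  | zero => simp only [map_zero]
  | tmul c m => rfl
  | add a b ha hb => simp only [map_add, ha, hb]

section coords

variable {J : Type u} (b : Module.Basis J K₀ K) (ι : Type u)

/-- Coordinates along a basis of a finite extension. -/
def resMap (j : ℕ) : (ι → K ⊗[k] V j) →ₗ[K₀] (ι × J → K₀ ⊗[k] V j) :=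
  LinearMap.pi fun at' => (AlgebraTensorModule.map (b.coord at'.2) LinearMap.id).comp
    ((LinearMap.proj at'.1 : (ι → K ⊗[k] V j) →ₗ[K] _).restrictScalars K₀)

lemma resMap_apply (j : ℕ) (w : ι → K ⊗[k] V j) (a : ι) (t : J) :
    resMap b ι j w (a, t) = AlgebraTensorModule.map (b.coord t) LinearMap.id (w a) := rfl

lemma resMap_injective [Fintype J] (j : ℕ) : Function.Injective (resMap (k := k) (V := V) b ι j) := by
  intro w w' hw
  funext a
  have key : ∀ z : K ⊗[k] V j, z = ∑ t, AlgebraTensorModule.map (LinearMap.toSpanSingleton K₀ K (b t))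
      LinearMap.id (AlgebraTensorModule.map (b.coord t) LinearMap.id z) := by
    intro z
    induction z using TensorProduct.induction_on with
    | zero => simp
    | add x y hx hy => simp only [map_add, Finset.sum_add_distrib, ← hx, ← hy]
    | tmul c m =>
      simp only [AlgebraTensorModule.map_tmul, LinearMap.id_apply, LinearMap.toSpanSingleton_apply,
        Module.Basis.coord_apply, ← TensorProduct.sum_tmul, b.sum_repr]
  rw [key (w a), key (w' a)]
  refine Finset.sum_congr rfl fun t _ => congrArg _ ?_
  exact congrFun hw (a, t)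

/-- The restriction of a family of subspaces along a finite extension. -/
def resFam (W : ∀ j, Submodule K (ι → K ⊗[k] V j)) (j : ℕ) : Submodule K₀ (ι × J → K₀ ⊗[k] V j) :=
  ((W j).restrictScalars K₀).map (resMap b ι j)

lemma resFam_closed {W : ∀ j, Submodule K (ι → K ⊗[k] V j)} (hW : Closed k V Op K W) :
    Closed k V Op K₀ (resFam b ι W) := by
  rintro i j f hf _ ⟨w, hw, rfl⟩
  exact ⟨_, hW i j f hf w hw, funext fun at' => map_baseChange (b.coord at'.2) f (w at'.1)⟩

lemma finrank_resFam [Fintype J] (W : ∀ j, Submodule K (ι → K ⊗[k] V j)) (j : ℕ) :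
    Module.finrank K₀ (resFam b ι W j) = Module.finrank K₀ K * Module.finrank K (W j) := by
  haveI : Module.Free K (W j) := Module.Free.of_divisionRing K (W j)
  rw [Module.finrank_mul_finrank K₀ K (W j)]
  exact ((Submodule.equivMapOfInjective _ (resMap_injective b ι j) ((W j).restrictScalars K₀)).finrank_eq).symm

end coords

include hC in
/-- Restriction of scalars along a finite extension. -/
theorem Good.finite [FiniteDimensional K₀ K] (h : Good k V Op K₀ C) : Good k V Op K C := by
  classical
  intro ι _ W hW Q hQ hQ0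
  let b := Module.Free.chooseBasis K₀ K
  have hn : 0 < Module.finrank K₀ K := Module.finrank_pos
  refine hC (Module.finrank K₀ K) Q hn (h (ι × _) (resFam b ι W) (resFam_closed b ι hW) _ ?_ ?_)
  · filter_upwards [hQ] with j hj
    rw [finrank_resFam b ι W j, eval_smul, smul_eq_mul, ← hj, Nat.cast_mul]
  · exact smul_ne_zero (by exact_mod_cast hn.ne') hQ0

end finite

section special

variable {K₀ K : Type u} [Field K₀] [Algebra k K₀] [Field K] [Algebra k K] [Algebra K₀ K]
  [IsScalarTower k K₀ K]

/-- Evaluation at zero on `K₀[X] ⊗ M`. -/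
def ev0 (M : Type u) [AddCommGroup M] [Module k M] : K₀[X] ⊗[k] M →ₗ[K₀] K₀ ⊗[k] M :=
  AlgebraTensorModule.map (Polynomial.lcoeff K₀ 0) LinearMap.id

lemma exists_eq_X_smul (M : Type u) [AddCommGroup M] [Module k M] (x : K₀[X] ⊗[k] M)
    (hx : ev0 M x = 0) : ∃ y, x = (Polynomial.X : K₀[X]) • y := by
  have key : ∀ x : K₀[X] ⊗[k] M, ∃ y, x = (Polynomial.X : K₀[X]) • y +
      AlgebraTensorModule.map (Algebra.linearMap K₀ K₀[X]) LinearMap.id (ev0 M x) := by
    intro x
    induction x using TensorProduct.induction_on with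
    | zero => exact ⟨0, by simp⟩
    | tmul p m =>
      refine ⟨p.divX ⊗ₜ m, ?_⟩
      rw [ev0, AlgebraTensorModule.map_tmul, AlgebraTensorModule.map_tmul, LinearMap.id_apply,
        LinearMap.id_apply, TensorProduct.smul_tmul', ← TensorProduct.add_tmul]
      refine congrArg (· ⊗ₜ[k] m) ?_
      simp [Algebra.linearMap_apply, X_mul_divX_add]
    | add a b ha hb =>
      obtain ⟨y, hy⟩ := ha
      obtain ⟨y', hy'⟩ := hb
      refine ⟨y + y', ?_⟩
      conv_lhs => rw [hy, hy']
      rw [smul_add, map_add, map_add]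
      abel
  obtain ⟨y, hy⟩ := key x
  exact ⟨y, by rw [hy, hx, map_zero, add_zero]⟩

lemma ev0_smul (M : Type u) [AddCommGroup M] [Module k M] (r : K₀[X]) (x : K₀[X] ⊗[k] M) :
    ev0 M (r • x) = r.coeff 0 • ev0 M x := by
  induction x using TensorProduct.induction_on with
  | zero => simp
  | tmul p m =>
    rw [TensorProduct.smul_tmul', ev0, AlgebraTensorModule.map_tmul, AlgebraTensorModule.map_tmul,
      TensorProduct.smul_tmul', smul_eq_mul, Polynomial.lcoeff_apply, Polynomial.lcoeff_apply,
      mul_coeff_zero, smul_eq_mul]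
  | add a b ha hb => rw [smul_add, map_add, map_add, ha, hb, smul_add]

lemma map_baseChange_poly [Algebra K₀[X] K] [IsScalarTower k K₀[X] K] {M N : Type u} [AddCommGroup M]
    [Module k M] [AddCommGroup N] [Module k N] (f : M →ₗ[k] N) (z : K₀[X] ⊗[k] M) :
    AlgebraTensorModule.map (Algebra.linearMap K₀[X] K) LinearMap.id (f.baseChange K₀[X] z) =
      f.baseChange K (AlgebraTensorModule.map (Algebra.linearMap K₀[X] K) LinearMap.id z) := by
  induction z using TensorProduct.induction_on with
  | zero => simp only [map_zero]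
  | tmul c m => rfl
  | add a b ha hb => simp only [map_add, ha, hb]

lemma ev0_baseChange {M N : Type u} [AddCommGroup M]
    [Module k M] [AddCommGroup N] [Module k N] (f : M →ₗ[k] N) (z : K₀[X] ⊗[k] M) :
    ev0 N (f.baseChange K₀[X] z) = f.baseChange K₀ (ev0 M z) := by
  induction z using TensorProduct.induction_on with
  | zero => simp only [map_zero]
  | tmul c m => rfl
  | add a b ha hb => simp only [map_add, ha, hb]

/-- The rank of a specialised subspace. -/
lemma finrank_map_comap [Algebra K₀[X] K] [IsFractionRing K₀[X] K] {M N N₀ : Type u} [AddCommGroup M]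
    [Module K₀[X] M] [Module K₀ M] [IsScalarTower K₀ K₀[X] M] [Module.Free K₀[X] M] [Module.Finite K₀[X] M]
    [AddCommGroup N] [Module K N] [Module K₀[X] N] [IsScalarTower K₀[X] K N]
    [AddCommGroup N₀] [Module K₀ N₀] (α : M →ₗ[K₀[X]] N) (β : M →ₗ[K₀] N₀) (hα : Function.Injective α)
    (hden : ∀ w : N, ∃ r : K₀[X], r ≠ 0 ∧ ∃ x, α x = r • w)
    (hβ : ∀ (r : K₀[X]) x, β (r • x) = r.coeff 0 • β x)
    (hker : ∀ x, β x = 0 → ∃ y, x = (Polynomial.X : K₀[X]) • y) (W : Submodule K N) :
    Module.finrank K₀ ((((W.restrictScalars K₀[X]).comap α).restrictScalars K₀).map β : Submodule K₀ N₀) =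
      Module.finrank K W := by
  classical
  set W' := (W.restrictScalars K₀[X]).comap α with hW'def
  have hmem : ∀ x, x ∈ W' ↔ α x ∈ W := fun _ => Iff.rfl
  obtain ⟨n, B⟩ := Submodule.basisOfPid (Module.Free.chooseBasis K₀[X] M) W'
  have hinj : Function.Injective (algebraMap K₀[X] K) := IsFractionRing.injective K₀[X] K
  let v : Fin n → M := fun t => (B t : M)
  have hv : LinearIndependent K₀[X] (fun t => α (v t)) :=
    (B.linearIndependent.map' W'.subtype (Submodule.ker_subtype _)).map' α (LinearMap.ker_eq_bot.2 hα)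
  have hsum : ∀ (x : M) (hx : x ∈ W'), x = ∑ t, B.repr ⟨x, hx⟩ t • v t := fun x hx => by
    have h := congrArg W'.subtype (B.sum_repr ⟨x, hx⟩)
    rw [map_sum] at h
    exact h.symm
  have hspan : W = Submodule.span K (Set.range fun t => α (v t)) := by
    refine le_antisymm (fun w hw => ?_) (Submodule.span_le.2 ?_)
    · obtain ⟨r, hr, x, hx⟩ := hden w
      have hxW : x ∈ W' := by
        rw [hmem, hx, ← algebraMap_smul K r w]
        exact W.smul_mem _ hw
      have h2 : α x ∈ Submodule.span K (Set.range fun t => α (v t)) := by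
        rw [hsum x hxW, map_sum]
        refine Submodule.sum_mem _ fun t _ => ?_
        rw [map_smul, ← algebraMap_smul K (B.repr ⟨x, hxW⟩ t) (α (v t))]
        exact Submodule.smul_mem _ _ (Submodule.subset_span ⟨t, rfl⟩)
      rw [hx, ← algebraMap_smul K r w] at h2
      exact (Submodule.smul_mem_iff _ ((map_ne_zero_iff _ hinj).2 hr)).1 h2
    · rintro _ ⟨t, rfl⟩
      exact (B t).2
  have hr : Module.finrank K W = n := by
    rw [hspan, finrank_span_eq_card ((LinearIndependent.iff_fractionRing K₀[X] K).1 hv), Fintype.card_fin]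
  have hind : LinearIndependent K₀ (fun t => β (v t)) := by
    rw [Fintype.linearIndependent_iff]
    intro c hc
    let z : W' := ∑ t, (Polynomial.C (c t)) • B t
    have hzv : (z : M) = ∑ t, Polynomial.C (c t) • v t := map_sum W'.subtype _ _
    obtain ⟨y, hy⟩ := hker (z : M) (by
      rw [hzv, map_sum, ← hc]
      exact Finset.sum_congr rfl fun t _ => by rw [hβ, coeff_C_zero])
    have hyW : y ∈ W' := by
      have h1 : α (z : M) ∈ W := z.2
      rw [hy, map_smul, ← algebraMap_smul K (Polynomial.X : K₀[X]) (α y)] at h1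
      rw [hmem]
      exact (Submodule.smul_mem_iff _ ((map_ne_zero_iff _ hinj).2 X_ne_zero)).1 h1
    have hzX : z = (Polynomial.X : K₀[X]) • (⟨y, hyW⟩ : W') := Subtype.ext hy
    intro t
    have h1 : B.repr z t = Polynomial.C (c t) := by
      show B.repr (∑ t, Polynomial.C (c t) • B t) t = _
      rw [B.repr_sum_self]
    rw [hzX, map_smul, Finsupp.smul_apply, smul_eq_mul] at h1
    simpa using congrArg (fun p => Polynomial.coeff p 0) h1.symm
  have hspan₀ : (W'.restrictScalars K₀).map β = Submodule.span K₀ (Set.range fun t => β (v t)) := by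
    refine le_antisymm ?_ (Submodule.span_le.2 ?_)
    · rintro _ ⟨x, hx, rfl⟩
      rw [hsum x hx, map_sum]
      refine Submodule.sum_mem _ fun t _ => ?_
      rw [hβ]
      exact Submodule.smul_mem _ _ (Submodule.subset_span ⟨t, rfl⟩)
    · rintro _ ⟨t, rfl⟩
      exact ⟨v t, (B t).2, rfl⟩
  rw [hspan₀, finrank_span_eq_card hind, hr, Fintype.card_fin]

set_option maxHeartbeats 400000 in
/-- A family over a simple transcendental extension specialises to one with the same dimensions. -/
theorem exists_special_family {a : K} (htr : Transcendental K₀ a)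
    (hsurj : ∀ z : K, ∃ p q : K₀[X], z = aeval a p / aeval a q) {ι : Type u} [Finite ι]
    (W : ∀ j, Submodule K (ι → K ⊗[k] V j)) (hW : Closed k V Op K W) :
    ∃ W₀ : ∀ j, Submodule K₀ (ι → K₀ ⊗[k] V j), Closed k V Op K₀ W₀ ∧
      ∀ j, Module.finrank K₀ (W₀ j) = Module.finrank K (W j) := by
  classical
  haveI := Fintype.ofFinite ι
  letI : Algebra K₀[X] K := (Polynomial.aeval a).toAlgebra
  haveI : IsScalarTower K₀ K₀[X] K := IsScalarTower.of_algebraMap_eq fun x => (aeval_C a x).symm
  haveI : IsScalarTower k K₀[X] K := IsScalarTower.of_algebraMap_eq fun x => by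
    show algebraMap k K x = aeval a (algebraMap k K₀[X] x)
    rw [IsScalarTower.algebraMap_apply k K₀ K₀[X], ← Polynomial.C_eq_algebraMap, aeval_C,
      ← IsScalarTower.algebraMap_apply]
  have hinj : Function.Injective (algebraMap K₀[X] K) := transcendental_iff_injective.1 htr
  haveI : FaithfulSMul K₀[X] K := (faithfulSMul_iff_algebraMap_injective _ _).2 hinj
  haveI : IsFractionRing K₀[X] K := IsFractionRing.of_field _ _ hsurj
  let α : ∀ j, (ι → K₀[X] ⊗[k] V j) →ₗ[K₀[X]] (ι → K ⊗[k] V j) := fun j =>
    LinearMap.pi fun i => (AlgebraTensorModule.map (Algebra.linearMap K₀[X] K) LinearMap.id).comp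
      (LinearMap.proj i)
  let β : ∀ j, (ι → K₀[X] ⊗[k] V j) →ₗ[K₀] (ι → K₀ ⊗[k] V j) := fun j =>
    LinearMap.pi fun i => (ev0 (V j)).comp ((LinearMap.proj i : (ι → K₀[X] ⊗[k] V j) →ₗ[K₀[X]] _).restrictScalars K₀)
  have hα : ∀ j, Function.Injective (α j) := by
    intro j x x' hx
    funext i
    exact Module.Flat.rTensor_preserves_injective_linearMap (M := V j)
      ((Algebra.linearMap K₀[X] K).restrictScalars k) hinj (congrFun hx i)
  have hden : ∀ j (z : K ⊗[k] V j), ∃ r : K₀[X], r ≠ 0 ∧
      r • z ∈ LinearMap.range (AlgebraTensorModule.map (Algebra.linearMap K₀[X] K) (LinearMap.id : V j →ₗ[k] V j)) := by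
    intro j z
    induction z using TensorProduct.induction_on with
    | zero => exact ⟨1, one_ne_zero, by simp⟩
    | tmul c m =>
      obtain ⟨x, y, hy, rfl⟩ := IsFractionRing.div_surjective (A := K₀[X]) c
      have hy0 : y ≠ 0 := nonZeroDivisors.ne_zero hy
      refine ⟨y, hy0, x ⊗ₜ m, ?_⟩
      rw [AlgebraTensorModule.map_tmul, LinearMap.id_apply, TensorProduct.smul_tmul', Algebra.linearMap_apply,
        Algebra.smul_def, mul_div_cancel₀ _ ((map_ne_zero_iff _ hinj).2 hy0)]
    | add z z' hz hz' =>
      obtain ⟨r, hr, hz⟩ := hz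
      obtain ⟨r', hr', hz'⟩ := hz'
      refine ⟨r * r', mul_ne_zero hr hr', ?_⟩
      rw [smul_add, mul_comm r r', mul_smul, mul_comm r' r, mul_smul]
      exact Submodule.add_mem _ (Submodule.smul_mem _ _ hz) (Submodule.smul_mem _ _ hz')
  let W' : ∀ j, Submodule K₀[X] (ι → K₀[X] ⊗[k] V j) := fun j =>
    ((W j).restrictScalars K₀[X]).comap (α j)
  let W₀ : ∀ j, Submodule K₀ (ι → K₀ ⊗[k] V j) := fun j => ((W' j).restrictScalars K₀).map (β j)
  have hdim : ∀ j, Module.finrank K₀ (W₀ j) = Module.finrank K (W j) := fun j => by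
    refine finrank_map_comap (α j) (β j) (hα j) (fun w => ?_)
      (fun r x => funext fun i => ev0_smul _ _ _) (fun x hx => ?_) (W j)
    · choose r hr hrz using fun i => hden j (w i)
      choose y hy using hrz
      refine ⟨∏ i, r i, Finset.prod_ne_zero_iff.2 fun i _ => hr i,
        fun i => (∏ t ∈ Finset.univ.erase i, r t) • y i, funext fun i => ?_⟩
      show AlgebraTensorModule.map _ LinearMap.id ((∏ t ∈ Finset.univ.erase i, r t) • y i) = (∏ i, r i) • w i
      rw [map_smul, hy i, smul_smul, Finset.prod_erase_mul _ _ (Finset.mem_univ i)]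
    · choose y hy using fun i => exists_eq_X_smul (V j) (x i) (congrFun hx i)
      exact ⟨y, funext hy⟩
  refine ⟨W₀, ?_, hdim⟩
  rintro i j f hf _ ⟨x, hx, rfl⟩
  refine ⟨fun t => f.baseChange K₀[X] (x t), ?_, funext fun t => ev0_baseChange f (x t)⟩
  show α j _ ∈ W j
  rw [show α j (fun t => f.baseChange K₀[X] (x t)) = fun t => f.baseChange K (α i x t) from
    funext fun t => map_baseChange_poly f (x t)]
  exact hW i j f hf _ hx

/-- Specialisation along a simple transcendental extension. -/
theorem Good.special {a : K} (htr : Transcendental K₀ a)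
    (hsurj : ∀ z : K, ∃ p q : K₀[X], z = aeval a p / aeval a q) (h : Good k V Op K₀ C) :
    Good k V Op K C := by
  intro ι _ W hW Q hQ hQ0
  obtain ⟨W₀, hW₀, hdim⟩ := exists_special_family htr hsurj W hW
  refine h ι W₀ hW₀ Q ?_ hQ0
  filter_upwards [hQ] with j hj
  rw [hdim j, hj]

end special

section tower

include hC in
/-- The property passes to finitely generated extensions. -/
theorem Good.adjoin (h : Good k V Op k C) {K : Type u} [Field K] [Algebra k K] (S : Finset K) :
    Good k V Op (IntermediateField.adjoin k (S : Set K)) C := by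
  refine IntermediateField.induction_on_adjoin_finset S (fun F => Good k V Op F C) ?_ ?_
  · haveI : FiniteDimensional k (⊥ : IntermediateField k K) :=
      Module.Finite.equiv (IntermediateField.botEquiv k K).symm.toLinearEquiv
    exact Good.finite hC h
  · intro F x _ hF
    show Good k V Op (IntermediateField.adjoin F {x}) C
    by_cases hx : Transcendental F x
    · refine Good.special (a := IntermediateField.AdjoinSimple.gen F x) ?_ ?_ hF
      · rw [transcendental_iff_injective]
        intro p q hpq
        refine (transcendental_iff_injective.1 hx) ?_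
        have := congrArg (IntermediateField.adjoin F {x}).val hpq
        rwa [← aeval_algHom_apply, ← aeval_algHom_apply] at this
      · intro z
        obtain ⟨p, q, hpq⟩ := (IntermediateField.mem_adjoin_simple_iff F (z : K)).1 z.2
        refine ⟨p, q, Subtype.ext ?_⟩
        rw [IntermediateField.coe_div, hpq]
        congr 1 <;> exact (aeval_algHom_apply (IntermediateField.adjoin F {x}).val (IntermediateField.AdjoinSimple.gen F x) _)
    · haveI : FiniteDimensional F (IntermediateField.adjoin F {x}) :=
        IntermediateField.adjoin.finiteDimensional (Classical.not_not.1 hx).isIntegral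
      exact Good.finite hC hF

end tower

section descent

variable {K : Type u} [Field K] [Algebra k K]

lemma exists_finset_range {M : Type u} [AddCommGroup M] [Module k M] (z : K ⊗[k] M) :
    ∃ S : Set K, S.Finite ∧ ∀ F : IntermediateField k K, S ⊆ F →
      z ∈ LinearMap.range (AlgebraTensorModule.map (Algebra.linearMap F K) (LinearMap.id : M →ₗ[k] M)) := by
  classical
  induction z using TensorProduct.induction_on with
  | zero => exact ⟨∅, Set.finite_empty, fun _ _ => ⟨0, map_zero _⟩⟩
  | tmul c m =>
    exact ⟨{c}, Set.finite_singleton c, fun F hF => ⟨(⟨c, hF rfl⟩ : F) ⊗ₜ m, rfl⟩⟩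
  | add a b ha hb =>
    obtain ⟨S, hS, hSa⟩ := ha
    obtain ⟨T, hT, hTb⟩ := hb
    exact ⟨S ∪ T, hS.union hT, fun F hF => Submodule.add_mem _
      (hSa F (Set.subset_union_left.trans hF)) (hTb F (Set.subset_union_right.trans hF))⟩

/-- A finitely generated family is defined over a finitely generated subfield. -/
theorem exists_descended_family (W : ∀ j, Submodule K (K ⊗[k] V j))
    (hW : ∀ i j, ∀ f ∈ Op i j, ∀ w ∈ W i, f.baseChange K w ∈ W j)
    (j₀ : ℕ) (S : Finset (K ⊗[k] V j₀)) (hS : ∀ s ∈ S, s ∈ W j₀)
    (hgen : ∀ᶠ j in atTop,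
      W j ≤ Submodule.span K {x | ∃ f ∈ Op j₀ j, ∃ s ∈ S, x = f.baseChange K s}) :
    ∃ (S' : Finset K) (W₀ : ∀ j, Submodule (IntermediateField.adjoin k (S' : Set K))
        (PUnit.{u+1} → IntermediateField.adjoin k (S' : Set K) ⊗[k] V j)),
      Closed k V Op (IntermediateField.adjoin k (S' : Set K)) W₀ ∧
        ∀ᶠ j in atTop, Module.finrank (IntermediateField.adjoin k (S' : Set K)) (W₀ j) = Module.finrank K (W j) := by
  classical
  choose T hT hTs using fun s : K ⊗[k] V j₀ => exists_finset_range s
  let S' : Finset K := S.biUnion fun s => (hT s).toFinset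
  let F := IntermediateField.adjoin k (S' : Set K)
  have hmem : ∀ s ∈ S, ∃ y : F ⊗[k] V j₀,
      AlgebraTensorModule.map (Algebra.linearMap F K) LinearMap.id y = s := fun s hs =>
    hTs s F (Set.Subset.trans (fun x hx => Finset.mem_coe.2 (Finset.mem_biUnion.2 ⟨s, hs, (hT s).mem_toFinset.2 hx⟩))
      (IntermediateField.subset_adjoin k (S' : Set K)))
  let π : ∀ j, (PUnit.{u+1} → F ⊗[k] V j) →ₗ[F] K ⊗[k] V j := fun j =>
    (AlgebraTensorModule.map (Algebra.linearMap F K) LinearMap.id).comp (LinearMap.proj PUnit.unit)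
  let W₀ : ∀ j, Submodule F (PUnit.{u+1} → F ⊗[k] V j) := fun j => ((W j).restrictScalars F).comap (π j)
  have hπ : ∀ i j (f : V i →ₗ[k] V j) (w : PUnit.{u+1} → F ⊗[k] V i),
      π j (fun a => f.baseChange F (w a)) = f.baseChange K (π i w) := by
    intro i j f w
    show AlgebraTensorModule.map (Algebra.linearMap F K) LinearMap.id (f.baseChange F (w PUnit.unit)) =
      f.baseChange K (AlgebraTensorModule.map (Algebra.linearMap F K) LinearMap.id (w PUnit.unit))
    generalize w PUnit.unit = z
    induction z using TensorProduct.induction_on with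
    | zero => simp only [map_zero]
    | tmul c m => rfl
    | add a b ha hb => simp only [map_add, ha, hb]
  refine ⟨S', W₀, ?_, ?_⟩
  · intro i j f hf w hw
    show π j _ ∈ W j
    rw [hπ]
    exact hW i j f hf _ hw
  · filter_upwards [hgen] with j hjgen
    let e : K ⊗[F] (F ⊗[k] V j) ≃ₗ[K] K ⊗[k] V j :=
      AlgebraTensorModule.cancelBaseChange k F K K (V j)
    let e₁ : (PUnit.{u+1} → F ⊗[k] V j) ≃ₗ[F] F ⊗[k] V j := LinearEquiv.funUnique PUnit.{u+1} F _
    let Θ : K ⊗[F] (W₀ j) →ₗ[K] K ⊗[k] V j :=
      e.toLinearMap.comp ((e₁.toLinearMap.comp (W₀ j).subtype).baseChange K)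
    have hΘ : ∀ (c : K) (w : W₀ j), Θ (c ⊗ₜ w) = c • π j w.1 := by
      intro c w
      show e (c ⊗ₜ (e₁ w.1)) = c • π j w.1
      show _ = c • AlgebraTensorModule.map (Algebra.linearMap F K) LinearMap.id (w.1 PUnit.unit)
      rw [show e₁ w.1 = w.1 PUnit.unit from rfl]
      generalize w.1 PUnit.unit = z
      induction z using TensorProduct.induction_on with
      | zero => simp
      | tmul r m =>
        rw [AlgebraTensorModule.cancelBaseChange_tmul, AlgebraTensorModule.map_tmul, LinearMap.id_apply,
          TensorProduct.smul_tmul', Algebra.linearMap_apply, Algebra.smul_def, smul_eq_mul, mul_comm]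
      | add a b ha hb => simp only [TensorProduct.tmul_add, map_add, ha, hb, smul_add]
    have hinj : Function.Injective Θ :=
      e.injective.comp (Module.Flat.lTensor_preserves_injective_linearMap
        (e₁.toLinearMap.comp (W₀ j).subtype) (e₁.injective.comp Subtype.val_injective))
    have hrange : LinearMap.range Θ = W j := by
      refine le_antisymm ?_ (hjgen.trans (Submodule.span_le.2 ?_))
      · rintro _ ⟨z, rfl⟩
        induction z using TensorProduct.induction_on with
        | zero => rw [map_zero]; exact Submodule.zero_mem _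
        | tmul c w => rw [hΘ]; exact Submodule.smul_mem _ _ w.2
        | add a b ha hb => rw [map_add]; exact Submodule.add_mem _ ha hb
      · rintro _ ⟨f, hf, s, hs, rfl⟩
        obtain ⟨y, hy⟩ := hmem s hs
        let w : PUnit.{u+1} → F ⊗[k] V j₀ := fun _ => y
        have hw : π j₀ w = s := hy
        have hwW : (fun a => f.baseChange F (w a)) ∈ W₀ j := by
          show π j _ ∈ W j
          rw [hπ, hw]
          exact hW _ _ f hf s (hS s hs)
        refine ⟨(1 : K) ⊗ₜ (⟨_, hwW⟩ : W₀ j), ?_⟩
        rw [hΘ, one_smul, hπ, hw]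
    haveI : Module.Free F (W₀ j) := Module.Free.of_divisionRing F (W₀ j)
    rw [← hrange, ← (LinearEquiv.ofInjective Θ hinj).finrank_eq, Module.finrank_baseChange]

include hC in
/-- The property holds for finitely generated families over any extension field. -/
theorem Good.of_generated (h : Good k V Op k C) (W : ∀ j, Submodule K (K ⊗[k] V j))
    (hW : ∀ i j, ∀ f ∈ Op i j, ∀ w ∈ W i, f.baseChange K w ∈ W j)
    (j₀ : ℕ) (S : Finset (K ⊗[k] V j₀)) (hS : ∀ s ∈ S, s ∈ W j₀)
    (hgen : ∀ᶠ j in atTop,
      W j ≤ Submodule.span K {x | ∃ f ∈ Op j₀ j, ∃ s ∈ S, x = f.baseChange K s})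
    (Q : ℚ[X]) (hQ : ∀ᶠ j in atTop, (Module.finrank K (W j) : ℚ) = Q.eval (j : ℚ)) (hQ0 : Q ≠ 0) :
    C Q := by
  obtain ⟨S', W₀, hW₀, hdim⟩ := exists_descended_family W hW j₀ S hS hgen
  refine Good.adjoin hC h S' PUnit W₀ hW₀ Q ?_ hQ0
  filter_upwards [hdim, hQ] with j hj hj'
  rw [hj, hj']

end descent

end Groth.Agent.ShStabX.SecFam
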