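import Groth.Agent.ShStabX.TestFam
import Groth.Agent.ShStabX.SecFam
import Groth.Agent.ShStabX.Simple
import Groth.Agent.QCoh.DevissageP
import Groth.Agent.SheafHomX.Coherent

/-!
# Section families of a semistable module

A family of subspaces of `Hom(L^{-j}, E)^ι` closed under precomposition comes from a submodule of
`E^ι`, whose truncated reduced Hilbert polynomial is bounded by that of `E`.
-/

set_option linter.style.haveILetI false
set_option linter.unusedSectionVars false
set_option backward.isDefEq.respectTransparency false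
set_option backward.isDefEq.respectTransparency.types false

universe u

open CategoryTheory CategoryTheory.Limits AlgebraicGeometry Polynomial StabCat Filter

noncomputable section

namespace Groth.Agent.ShStabX

open Groth.Agent

variable {X : Scheme.{u}} {k : Type u} [Field k] [X.Over (Spec (CommRingCat.of k))]
  {L : X.Modules} {d ℓ : ℕ} {E : X.Modules}

lemma redLE_smul_iff {c : ℚ} (hc : 0 < c) {P Q : ℚ[X]} : RedLE d (c • P) Q ↔ RedLE d P Q := by
  refine exists_congr fun N => forall₂_congr fun m _ => ?_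
  simp only [alpha, coeff_smul, eval_smul, smul_eq_mul]
  constructor <;> intro h <;> nlinarith

lemma redLE_add_le {P P' Q : ℚ[X]} (h : RedLE d P Q) (h' : RedLE d P' Q) : RedLE d (P + P') Q := by
  obtain ⟨N, hN⟩ := h
  obtain ⟨N', hN'⟩ := h'
  refine ⟨max N N', fun m hm => ?_⟩
  have a := hN m (le_of_max_le_left hm)
  have b := hN' m (le_of_max_le_right hm)
  simp only [alpha, coeff_add, eval_add, eval_smul, smul_eq_mul] at a b ⊢
  nlinarith

/-- The property of dimension polynomials supplied by semistability. -/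
def Bound (d ℓ : ℕ) (T Q : ℚ[X]) : Prop :=
  0 < alpha d Q ∧ Q.natDegree ≤ d ∧ RedLE d (topPart ℓ d Q) T

lemma bound_of_smul {T : ℚ[X]} (n : ℕ) (Q : ℚ[X]) (hn : 0 < n) (h : Bound d ℓ T ((n : ℚ) • Q)) :
    Bound d ℓ T Q := by
  have hn' : (0 : ℚ) < n := by exact_mod_cast hn
  obtain ⟨h1, h2, h3⟩ := h
  refine ⟨?_, ?_, ?_⟩
  · simp only [alpha, coeff_smul, smul_eq_mul] at h1 ⊢
    by_contra hh
    nlinarith
  · rwa [natDegree_smul _ hn'.ne'] at h2
  · rwa [topPart_smul, redLE_smul_iff hn'] at h3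

variable [IsProper (X ↘ Spec (CommRingCat.of k))]

/-- Submodules of finite powers of a semistable module. -/
theorem sub_power (hL : CohB1.IsAmple L) (hE : SSl k L d ℓ E) :
    ∀ (n : ℕ) (G : X.Modules) (φ : Fin n → (G ⟶ E)), Coh.IsCoh G → ¬ IsZero G →
      (∀ (Z : X.Modules) (f : Z ⟶ G), (∀ i, f ≫ φ i = 0) → f = 0) →
      topologicalKrullDim ↥(CohB1.support G) = (d : WithBot ℕ∞) ∧
        RedLE d (tp k L d ℓ G) (tp k L d ℓ E) := by
  haveI : IsNoetherian X := CurveCohLib.isNoetherian_of_proper (k := k)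
  intro n
  induction n with
  | zero => exact fun G φ _ h0 hφ => absurd ((IsZero.iff_id_eq_zero G).2 (hφ G (𝟙 G) fun i => i.elim0)) h0
  | succ n ih =>
    intro G φ hG h0 hφ
    obtain ⟨K, I, a, p, b, w, hfac, ha, hb, hp, hS, hKc, hIc⟩ :=
      HilbPoly.exists_factor (k := k) hG hE.1 (φ (Fin.last n))
    haveI := ha; haveI := hb; haveI := hp
    have hK : ∀ (Z : X.Modules) (f : Z ⟶ K), (∀ i : Fin n, f ≫ a ≫ φ i.castSucc = 0) → f = 0 := by
      intro Z f hf
      refine (cancel_mono a).1 ?_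
      rw [Limits.zero_comp]
      refine hφ Z (f ≫ a) fun i => ?_
      refine Fin.lastCases ?_ (fun i => ?_) i
      · rw [← hfac, Category.assoc, ← Category.assoc a, w, Limits.zero_comp, Limits.comp_zero]
      · rw [Category.assoc, hf i]
    by_cases hI0 : IsZero I
    · haveI : Epi a := hS.exact.epi_f (hI0.eq_of_tgt _ _)
      haveI : IsIso a := isIso_of_mono_of_epi a
      have hK0 : ¬ IsZero K := fun hz => h0 (hz.of_iso (asIso a).symm)
      obtain ⟨h1, h2⟩ := ih K (fun i => a ≫ φ i.castSucc) hKc hK0 hK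
      have hGd : topologicalKrullDim ↥(CohB1.support G) = (d : WithBot ℕ∞) := by
        rw [← QCoh.support_iso (asIso a) hKc.1]; exact h1
      refine ⟨hGd, ?_⟩
      rwa [← tp_iso hL (asIso a) hKc hG h1.le hGd.le]
    have hId := hE.2.2.1 I b hb hIc hI0
    have hIle := hE.2.2.2 I b hb hIc hI0
    by_cases hK0 : IsZero K
    · haveI : Mono p := hS.exact.mono_g (hK0.eq_of_src _ _)
      haveI : IsIso p := isIso_of_mono_of_epi p
      have hGd : topologicalKrullDim ↥(CohB1.support G) = (d : WithBot ℕ∞) := by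
        rw [QCoh.support_iso (asIso p) hG.1]; exact hId
      refine ⟨hGd, ?_⟩
      rwa [tp_iso hL (asIso p) hG hIc hGd.le hId.le]
    obtain ⟨hKd, hKle⟩ := ih K (fun i => a ≫ φ i.castSucc) hKc hK0 hK
    have hle : DimLE G d := HilbPoly.dim_union_lt (QCoh.support_subset_union hS hKc.1 hG.1 hIc.1)
      (QCoh.isClosed_support_of_isFT hKc.1 hKc.2) (QCoh.isClosed_support_of_isFT hIc.1 hIc.2) hKd.le hId.le
    refine ⟨le_antisymm hle (hId.ge.trans
      (H23.TopDim.dim_le_dim_of_subset (QCoh.support_of_epi hG.1 hIc.1 p))), ?_⟩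
    have hsum : tp k L d ℓ G = tp k L d ℓ K + tp k L d ℓ I := tp_add hL hS hKc hG hIc hle
    rw [hsum]
    exact redLE_add_le hKle hIle

variable {A : ℕ → X.Modules}

omit [X.Over (Spec (CommRingCat.of k))] [IsProper (X ↘ Spec (CommRingCat.of k))] in
lemma isCoh_biproduct_fin [IsNoetherian X] (n : ℕ) {N : X.Modules} (hN : Coh.IsCoh N) :
    haveI := Abelian.hasFiniteBiproducts (C := X.Modules)
    Coh.IsCoh (⨁ fun _ : Fin n => N) := by
  haveI := Abelian.hasFiniteBiproducts (C := X.Modules)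
  exact HilbPoly.isCoh_of_iso (biproduct.whiskerEquiv (f := fun _ : ULift.{u} (Fin n) => N)
    (g := fun _ : Fin n => N) Equiv.ulift (fun _ => Iso.refl _)) (SheafHomX.isCoh_biproduct_self hN)

variable (k A E) in
/-- Precomposition maps. -/
def preOp (i j : ℕ) : Set ((A i ⟶ E) →ₗ[k] (A j ⟶ E)) :=
  Set.range fun σ : A j ⟶ A i => Linear.leftComp k E σ

/-- A family closed under precomposition comes from a submodule and eventually consists of its sections. -/
theorem exists_sub_of_closed_range (hA : IsTestFam L A) (hL : CohB1.IsAmple L) (hE : Coh.IsCoh E)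
    {ι : Type u} [Fintype ι] (W : ∀ j, Submodule k (ι → (A j ⟶ E)))
    (hW : ∀ i j (σ : A j ⟶ A i), ∀ w ∈ W i, (fun a => σ ≫ w a) ∈ W j) (Q : ℚ[X])
    (hQ : ∀ᶠ j in atTop, (Module.finrank k (W j) : ℚ) = Q.eval (j : ℚ)) :
    ∃ (G : X.Modules) (φ : ι → (G ⟶ E)), Coh.IsCoh G ∧
      (∀ (Z : X.Modules) (f : Z ⟶ G), (∀ a, f ≫ φ a = 0) → f = 0) ∧ ShStab.IsHilbPoly k X L G Q ∧
        ∀ᶠ j in atTop, ∀ w ∈ W j, ∃ s : A j ⟶ G, ∀ a, s ≫ φ a = w a := by
  classical
  haveI : IsNoetherian X := CurveCohLib.isNoetherian_of_proper (k := k)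
  haveI := Abelian.hasFiniteBiproducts (C := X.Modules)
  haveI : ∀ j, Module.Finite k (A j ⟶ E) := fun j => hA.finite_hom j hE
  haveI : ∀ j, FiniteDimensional k (W j) := fun j => inferInstance
  let B := ⨁ fun _ : ι => E
  have hB : Coh.IsCoh B := SheafHomX.isCoh_biproduct_self hE
  haveI : ∀ j, Module.Free k (W j) := fun j => Module.Free.of_divisionRing k (W j)
  let J : ℕ → Type := fun j => Fin (Module.finrank k (W j))
  let b : ∀ j, Module.Basis (J j) k (W j) := fun j => Module.finBasis k (W j)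
  let Ψ : ∀ j, (⨁ fun _ : J j => A j) ⟶ B := fun j => biproduct.desc fun t => biproduct.lift ((b j t).1)
  let S : ℕ → Subobject B := fun j => Subobject.mk (Abelian.image.ι (Ψ j))
  have hT : ∀ j, Coh.IsCoh (⨁ fun _ : J j => A j) := fun j =>
    isCoh_biproduct_fin _ (hA.isCoh (k := k) j)
  have hI : ∀ j, Coh.IsCoh (Abelian.image (Ψ j)) := fun j =>
    QCoh.isCoh_kernel hB (QCoh.isCoh_cokernel (hT j).1 hB _) _
  have hS : ∀ j, Coh.IsCoh (S j : X.Modules) := fun j =>
    HilbPoly.isCoh_of_iso (Subobject.underlyingIso (Abelian.image.ι (Ψ j))).symm (hI j)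
  -- elements of the family factor through the generated submodule
  have hfac : ∀ j, ∀ w ∈ W j, ∃ s, s ≫ Abelian.image.ι (Ψ j) = biproduct.lift w := by
    intro j w hw
    let c := (b j).repr ⟨w, hw⟩
    let u : A j ⟶ ⨁ fun _ : J j => A j := biproduct.lift fun t => c t • 𝟙 (A j)
    refine ⟨u ≫ Abelian.factorThruImage (Ψ j), ?_⟩
    rw [Category.assoc, Abelian.image.fac]
    refine biproduct.hom_ext _ _ fun a => ?_
    have hw' : w a = ∑ t, c t • (b j t).1 a := by
      have h := congrArg (fun z : W j => z.1 a) ((b j).sum_repr ⟨w, hw⟩)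
      simp only [Submodule.coe_sum, Finset.sum_apply, Submodule.coe_smul, Pi.smul_apply] at h
      exact h.symm
    simp only [u, Ψ]
    rw [biproduct.lift_desc, Preadditive.sum_comp, biproduct.lift_π, hw']
    refine Finset.sum_congr rfl fun t _ => ?_
    rw [Linear.smul_comp, Category.id_comp, Linear.smul_comp, biproduct.lift_π]
  -- the generated submodules increase
  have hmono : ∀ i, ∀ᶠ j in atTop, S i ≤ S j := by
    intro i
    filter_upwards [hA.eventually_jointEpi (k := k) hL (hA.isCoh (k := k) i)] with j hj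
    have h0 : Ψ i ≫ cokernel.π (Abelian.image.ι (Ψ j)) = 0 := by
      refine biproduct.hom_ext' _ _ fun t => ?_
      rw [Limits.comp_zero]
      simp only [Ψ, biproduct.ι_desc_assoc]
      refine hj _ _ 0 fun σ => ?_
      obtain ⟨s, hs⟩ := hfac j _ (hW i j σ _ (b i t).2)
      rw [Limits.comp_zero, ← Category.assoc, show σ ≫ biproduct.lift ((b i t).1) = s ≫ Abelian.image.ι (Ψ j) from ?_,
        Category.assoc, cokernel.condition, Limits.comp_zero]
      rw [hs]
      exact biproduct.hom_ext _ _ fun a => by simp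
    have h1 : Abelian.image.ι (Ψ i) ≫ cokernel.π (Abelian.image.ι (Ψ j)) = 0 := by
      rw [← cancel_epi (Abelian.factorThruImage (Ψ i)), Limits.comp_zero, ← Category.assoc, Abelian.image.fac, h0]
    exact Subobject.mk_le_mk_of_comm (Abelian.monoLift _ _ h1) (Abelian.monoLift_comp _ _ h1)
  obtain ⟨T, ⟨i₀, rfl⟩, hmax⟩ := HilbPoly.exists_maximal_coh hB (fun T => ∃ i, T = S i)
    (fun T ⟨i, hi⟩ => hi ▸ hS i) ⟨S 0, 0, rfl⟩
  let G := Abelian.image (Ψ i₀)
  let φ : ι → (G ⟶ E) := fun a => Abelian.image.ι (Ψ i₀) ≫ biproduct.π _ a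
  have hφ : ∀ (Z : X.Modules) (f : Z ⟶ G), (∀ a, f ≫ φ a = 0) → f = 0 := fun Z f hf =>
    (cancel_mono (Abelian.image.ι (Ψ i₀))).1 (biproduct.hom_ext _ _ fun a => by
      rw [Category.assoc, Limits.zero_comp, Limits.zero_comp]; exact hf a)
  refine ⟨G, φ, hI i₀, hφ, ?_, ?_⟩
  swap
  · filter_upwards [hmono i₀] with j hle w hw
    obtain ⟨s, hs⟩ := hfac j w hw
    have e : S j = S i₀ := hmax (S j) ⟨j, rfl⟩ hle
    refine ⟨s ≫ Subobject.ofMkLEMk _ _ e.le, fun a => ?_⟩
    show (s ≫ Subobject.ofMkLEMk _ _ e.le) ≫ φ a = w a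
    rw [Category.assoc, ← Category.assoc (Subobject.ofMkLEMk _ _ _), Subobject.ofMkLEMk_comp,
      ← Category.assoc, hs, biproduct.lift_π]
  obtain ⟨d', hX⟩ := exists_dim_le_nat k (X := X)
  have hd' : DimLE (Abelian.image (Ψ i₀)) d' := (Topology.IsInducing.subtypeVal.topologicalKrullDim_le).trans hX
  obtain ⟨P, hP, -, -⟩ := HilbPoly.exists_hilb (k := k) hL.1 (hI i₀) hd'
  suffices h : Q = P by rwa [h]
  have hev := ((hmono i₀).and (hA.eventually_lift (k := k) hL (hT i₀) (hI i₀)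
    (Abelian.factorThruImage (Ψ i₀)))).and ((hA.finrank_hom hL (hI i₀) hP).and hQ)
  obtain ⟨N, hN⟩ := Filter.eventually_atTop.1 hev
  refine HilbPoly.poly_ext N fun j hj => ?_
  obtain ⟨⟨hle, hlift⟩, hP', hQ'⟩ := hN j hj
  rw [← hP', ← hQ']
  norm_cast
  let Θ : (A j ⟶ G) →ₗ[k] (ι → (A j ⟶ E)) :=
    LinearMap.pi fun a => Linear.rightComp k (A j) (φ a)
  have hinj : Function.Injective Θ := (injective_iff_map_eq_zero Θ).2 fun s hs =>
    hφ _ s fun a => congrFun hs a
  have hrange : LinearMap.range Θ = W j := by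
    refine le_antisymm ?_ fun w hw => ?_
    · rintro _ ⟨s, rfl⟩
      obtain ⟨ψ, hψ⟩ := hlift s
      have he : Θ s = ∑ t, (fun a => (ψ ≫ biproduct.π _ t) ≫ (b i₀ t).1 a) := by
        funext a
        show s ≫ φ a = _
        rw [Finset.sum_apply, ← hψ]
        conv_lhs => rw [Category.assoc, ← Category.assoc (Abelian.factorThruImage _), Abelian.image.fac,
          ← Category.comp_id ψ, ← biproduct.total (f := fun _ : J i₀ => A i₀)]
        simp only [Ψ, Preadditive.comp_sum, Preadditive.sum_comp, Category.assoc, biproduct.ι_desc_assoc,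
          biproduct.lift_π]
      rw [he]
      exact Submodule.sum_mem _ fun t _ => hW i₀ j _ _ (b i₀ t).2
    · obtain ⟨s, hs⟩ := hfac j w hw
      have e : S j = S i₀ := hmax (S j) ⟨j, rfl⟩ hle
      refine ⟨s ≫ Subobject.ofMkLEMk _ _ e.le, funext fun a => ?_⟩
      show (s ≫ Subobject.ofMkLEMk _ _ e.le) ≫ φ a = w a
      rw [Category.assoc, ← Category.assoc (Subobject.ofMkLEMk _ _ _), Subobject.ofMkLEMk_comp,
        ← Category.assoc, hs, biproduct.lift_π]
  rw [← hrange, LinearMap.finrank_range_of_inj hinj]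

/-- A family closed under precomposition comes from a submodule. -/
theorem exists_sub_of_closed (hA : IsTestFam L A) (hL : CohB1.IsAmple L) (hE : Coh.IsCoh E)
    {ι : Type u} [Fintype ι] (W : ∀ j, Submodule k (ι → (A j ⟶ E)))
    (hW : ∀ i j (σ : A j ⟶ A i), ∀ w ∈ W i, (fun a => σ ≫ w a) ∈ W j) (Q : ℚ[X])
    (hQ : ∀ᶠ j in atTop, (Module.finrank k (W j) : ℚ) = Q.eval (j : ℚ)) :
    ∃ (G : X.Modules) (φ : ι → (G ⟶ E)), Coh.IsCoh G ∧
      (∀ (Z : X.Modules) (f : Z ⟶ G), (∀ a, f ≫ φ a = 0) → f = 0) ∧ ShStab.IsHilbPoly k X L G Q := by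
  obtain ⟨G, φ, hG, hφ, hP, -⟩ := exists_sub_of_closed_range hA hL hE W hW Q hQ
  exact ⟨G, φ, hG, hφ, hP⟩

/-- Semistability bounds closed families. -/
theorem good_of_ssl (hA : IsTestFam L A) (hL : CohB1.IsAmple L) (hE : SSl k L d ℓ E) :
    haveI : ∀ j, Module.Finite k (A j ⟶ E) := fun j => hA.finite_hom j hE.1
    SecFam.Good k (fun j => A j ⟶ E) (preOp k E A) k (Bound d ℓ (tp k L d ℓ E)) := by
  classical
  intro ι _ W hW Q hQ hQ0
  haveI := Fintype.ofFinite ι
  let e : ∀ j, (ι → TensorProduct k k (A j ⟶ E)) ≃ₗ[k] (ι → (A j ⟶ E)) := fun j =>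
    LinearEquiv.piCongrRight fun _ => TensorProduct.lid k _
  let W' : ∀ j, Submodule k (ι → (A j ⟶ E)) := fun j => (W j).map (e j).toLinearMap
  have hW' : ∀ i j (σ : A j ⟶ A i), ∀ w ∈ W' i, (fun a => σ ≫ w a) ∈ W' j := by
    rintro i j σ _ ⟨w, hw, rfl⟩
    refine ⟨_, hW i j _ ⟨σ, rfl⟩ w hw, funext fun a => ?_⟩
    show TensorProduct.lid k _ ((Linear.leftComp k E σ).baseChange k (w a)) = σ ≫ TensorProduct.lid k _ (w a)
    generalize w a = z
    induction z using TensorProduct.induction_on with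
    | zero => simp
    | tmul c m => simp
    | add x y hx hy => simp only [map_add, hx, hy, Preadditive.comp_add]
  obtain ⟨G, φ, hG, hφ, hP⟩ := exists_sub_of_closed hA hL hE.1 W' hW' Q (by
    filter_upwards [hQ] with j hj
    rw [← hj, ← (LinearEquiv.submoduleMap (e j) (W j)).finrank_eq])
  have h0 : ¬ IsZero G := fun hz => hQ0 (HilbPoly.isHilbPoly_unique hP (HilbPoly.hilb_isZero hz))
  let q := Fintype.equivFin ι
  obtain ⟨hd, hle⟩ := sub_power hL hE (Fintype.card ι) G (fun i => φ (q.symm i)) hG h0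
    (fun Z f hf => hφ Z f fun a => by simpa using hf (q a))
  refine ⟨HilbPoly.alpha_pos hL hG hd hP, (HilbPoly.hilb_props hL.1 hG hd.le hP).1, ?_⟩
  rwa [← tp_eq hL hG hd.le hP]

end Groth.Agent.ShStabX
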