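import Groth.Agent.ShStabX.CurveSS

/-!
# The estimate of Le Potier on sections, and quotients of least slope
-/

set_option linter.style.haveILetI false
set_option linter.unusedSectionVars false
set_option backward.isDefEq.respectTransparency false
set_option backward.isDefEq.respectTransparency.types false

universe u

open CategoryTheory CategoryTheory.Limits AlgebraicGeometry TopologicalSpace

attribute [local instance] HasDerivedCategory.standard

noncomputable section

namespace Groth.Agent.ShStabX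

open Groth.Agent
open scoped Groth.Agent.H23.PicMul

variable {X : Scheme.{u}} (k : Type u) [Field k] [X.Over (Spec (CommRingCat.of k))]
  [IsProper (X ↘ Spec (CommRingCat.of k))] {L : X.Modules}
  (hdim : topologicalKrullDim X ≤ ((1 : ℕ) : WithBot ℕ∞)) (hL : CohB1.IsAmple L)

include hdim hL

/-- Multiplicities and Euler characteristics add up. -/
lemma invariants_add {S : ShortComplex X.Modules} (hS : S.ShortExact) (h₁ : Coh.IsCoh S.X₁) (h₂ : Coh.IsCoh S.X₂)
    (h₃ : Coh.IsCoh S.X₃) :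
    Curv2.euler k X S.X₂ = Curv2.euler k X S.X₁ + Curv2.euler k X S.X₃ ∧
      DecSh.mult k X L S.X₂ = DecSh.mult k X L S.X₁ + DecSh.mult k X L S.X₃ := by
  haveI : IsNoetherian X := CurveCohLib.isNoetherian_of_proper (k := k)
  exact ⟨CurveCohLib.euler_additive (k := k) hS h₁ h₂ h₃,
    (HilbPoly.additive_lead (HilbPoly.additive_euler k) hL.1 1).add S hS h₁ h₂ h₃⟩

/-- A module of multiplicity zero has nonnegative Euler characteristic, positive unless it is zero. -/
lemma euler_of_mult_zero {M : X.Modules} (hM : Coh.IsCoh M) (h : DecSh.mult k X L M = 0) :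
    0 ≤ Curv2.euler k X M ∧ (Curv2.euler k X M = 0 → IsZero M) := by
  rw [decMult_eq] at h
  have hd : topologicalKrullDim ↥(CohB1.support M) ≤ ((1 : ℕ) : WithBot ℕ∞) :=
    (topologicalKrullDim_subspace_le X _).trans hdim
  have hlt : topologicalKrullDim ↥(CohB1.support M) < ((1 : ℕ) : WithBot ℕ∞) :=
    lt_of_le_of_ne hd fun he => ((HilbPoly.mult_nonneg_and_pos k hL 1 M hM hd).2 he).ne' h
  have h0 : topologicalKrullDim ↥(CohB1.support M) ≤ ((0 : ℕ) : WithBot ℕ∞) := HilbPoly.le_of_lt_succ hlt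
  exact Euler.euler_nonneg_of_good k hM (Euler.good_of_dim_le_zero k hM (by exact_mod_cast h0))

/-- Slopes rise under twisting. -/
lemma slopeLE_twist {μ : ℚ} {F : X.Modules} (hF : SlopeLE k L μ F) (n : ℕ) :
    SlopeLE k L (μ + n) (ShStab.twist X L F n) := by
  haveI : IsNoetherian X := CurveCohLib.isNoetherian_of_proper (k := k)
  obtain ⟨A, hA⟩ := exists_testFam hL.1
  intro G ι hι hG hG0
  haveI := hι
  obtain ⟨e⟩ := (hA n).2
  haveI := AmpleVan.isEquivalence_tw (hA n).1
  haveI : Mono ((AmpleVan.tw (A n)).map ι) := Functor.map_mono _ _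
  obtain ⟨c⟩ := (nonempty_cancel e F).2
  obtain ⟨hG', hm, he⟩ := untwist_invariants k hdim hA hL.1 hG n
  have h := hF _ ((AmpleVan.tw (A n)).map ι ≫ c.hom) inferInstance hG'
    fun hz => hG0 ((IsZero.iff_id_eq_zero G).2 ((AmpleVan.tw _).map_injective (hz.eq_of_src _ _)))
  rw [hm, he] at h
  push_cast at h
  linarith

omit hdim in
/-- Twisting keeps short exact sequences. -/
lemma h0_twist_le_add {S : ShortComplex X.Modules} (hS : S.ShortExact) (h₂ : Coh.IsCoh S.X₂)
    (h₃ : Coh.IsCoh S.X₃) (m : ℕ) :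
    h0 k (ShStab.twist X L S.X₂ m) ≤ h0 k (ShStab.twist X L S.X₁ m) + h0 k (ShStab.twist X L S.X₃ m) := by
  haveI : IsNoetherian X := CurveCohLib.isNoetherian_of_proper (k := k)
  have hP := InvX.isInvertible_tensorPow hL.1 m
  haveI := AmpleVan.isEquivalence_tw hP
  exact (h0_shortExact k (hS.map_of_exact (AmpleVan.tw (CohB1.tensorPow L m)))
    (AmpleVan.isCoh_tensor h₂ (AmpleVan.isCoh_invertible hP))
    (AmpleVan.isCoh_tensor h₃ (AmpleVan.isCoh_invertible hP))).1

/-- A quotient of least slope: it is pure, its submodules have smaller slopes, and it controls every submodule. -/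
theorem exists_minQuot {E : X.Modules} (hE : Coh.IsCoh E) (hp : ShStab.IsPure X E 1) (hE0 : ¬ IsZero E) :
    ∃ (G Q : X.Modules) (ι : G ⟶ E) (π : E ⟶ Q) (w : ι ≫ π = 0), (ShortComplex.mk ι π w).ShortExact ∧
      Coh.IsCoh G ∧ Coh.IsCoh Q ∧ 1 ≤ DecSh.mult k X L Q ∧ ShStab.IsPure X Q 1 ∧
      SlopeLE k L ((Curv2.euler k X Q : ℚ) / DecSh.mult k X L Q) Q ∧
      ∀ (F : X.Modules) (j : F ⟶ E), Mono j → Coh.IsCoh F →
        ((Curv2.euler k X Q : ℚ) / DecSh.mult k X L Q) * ((DecSh.mult k X L E : ℚ) - DecSh.mult k X L F) ≤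
          (Curv2.euler k X E : ℚ) - Curv2.euler k X F := by
  haveI : IsNoetherian X := CurveCohLib.isNoetherian_of_proper (k := k)
  have hα := mult_pos_sub k hdim hL hp (𝟙 E) hE hE0
  obtain ⟨n, hn⟩ : ∃ n : ℕ, (n : ℤ) = DecSh.mult k X L E := ⟨_, Int.toNat_of_nonneg (by omega)⟩
  -- facts about submodules
  have key : ∀ (F : X.Modules) (j : F ⟶ E), Mono j → Coh.IsCoh F →
      0 ≤ DecSh.mult k X L F ∧ DecSh.mult k X L F ≤ DecSh.mult k X L E ∧
      (DecSh.mult k X L F = DecSh.mult k X L E → Curv2.euler k X F ≤ Curv2.euler k X E) := by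
    intro F j hj hF
    haveI := hj
    have hC : Coh.IsCoh (cokernel j) := QCoh.isCoh_cokernel hF.1 hE j
    obtain ⟨h1, h2⟩ := invariants_add k hdim hL (S := ShortComplex.mk j (cokernel.π j) (cokernel.condition j))
      (.mk' (ShortComplex.exact_of_g_is_cokernel _ (cokernelIsCokernel j)) inferInstance inferInstance) hF hE hC
    dsimp only at h1 h2
    have h3 := mult_nonneg k hdim hL (L := L) hC
    exact ⟨mult_nonneg k hdim hL hF, by omega, fun h => by
      have := (euler_of_mult_zero k hdim hL hC (by omega)).1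
      omega⟩
  let z : (Σ' (F : X.Modules) (j : F ⟶ E), Mono j ∧ Coh.IsCoh F ∧ DecSh.mult k X L F < DecSh.mult k X L E) → ℤ :=
    fun s => (Curv2.euler k X E - Curv2.euler k X s.1) *
      ((n.factorial / (DecSh.mult k X L E - DecSh.mult k X L s.1).toNat : ℕ) : ℤ)
  have hb : ∀ s, -((|Curv2.euler k X E| + h0 k E) * n.factorial) ≤ z s := by
    rintro ⟨F, j, hj, hF, hlt⟩
    haveI := hj
    have h1 := (euler_le_h0 k hdim F).trans (Int.ofNat_le.2 (h0_mono k j hE))
    have h2 : ((n.factorial / (DecSh.mult k X L E - DecSh.mult k X L F).toNat : ℕ) : ℤ) ≤ n.factorial := by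
      exact_mod_cast Nat.div_le_self _ _
    have h3 : (0 : ℤ) ≤ ((n.factorial / (DecSh.mult k X L E - DecSh.mult k X L F).toNat : ℕ) : ℤ) := Int.natCast_nonneg _
    have h4 := neg_abs_le (Curv2.euler k X E)
    have h5 : (0 : ℤ) ≤ |Curv2.euler k X E| + h0 k E := by positivity
    simp only [z]
    nlinarith
  obtain ⟨z₀, ⟨⟨G, ι, hι, hG, hlt⟩, hz₀⟩, hmin⟩ := Int.exists_least_of_bdd (P := fun x => ∃ s, z s = x)
    ⟨-((|Curv2.euler k X E| + h0 k E) * n.factorial), by rintro x ⟨s, rfl⟩; exact hb s⟩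
    (by
      refine ⟨_, ⟨kernel (𝟙 E), kernel.ι _, inferInstance, QCoh.isCoh_kernel hE hE _, ?_⟩, rfl⟩
      have hz : IsZero (kernel (𝟙 E)) := Limits.isZero_zero X.Modules |>.of_iso (kernel.ofMono (𝟙 E))
      have hm : DecSh.mult k X L (kernel (𝟙 E)) = 0 :=
        (HilbPoly.additive_lead (HilbPoly.additive_euler k) hL.1 1).zero_of_isZero hz
      omega)
  haveI := hι
  have hQc : Coh.IsCoh (cokernel ι) := QCoh.isCoh_cokernel hG.1 hE ι
  have hS : (ShortComplex.mk ι (cokernel.π ι) (cokernel.condition ι)).ShortExact :=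
    .mk' (ShortComplex.exact_of_g_is_cokernel _ (cokernelIsCokernel ι)) inferInstance inferInstance
  obtain ⟨hQe, hQm⟩ := invariants_add k hdim hL hS hG hE hQc
  dsimp only at hQe hQm
  have hQ1 : 1 ≤ DecSh.mult k X L (cokernel ι) := by omega
  set ν : ℚ := (Curv2.euler k X (cokernel ι) : ℚ) / DecSh.mult k X L (cokernel ι) with hν
  have hQ1' : (1 : ℚ) ≤ DecSh.mult k X L (cokernel ι) := by exact_mod_cast hQ1
  -- every quotient has slope at least `ν`
  have hall : ∀ (F : X.Modules) (j : F ⟶ E), Mono j → Coh.IsCoh F →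
      ν * ((DecSh.mult k X L E : ℚ) - DecSh.mult k X L F) ≤ (Curv2.euler k X E : ℚ) - Curv2.euler k X F := by
    intro F j hj hF
    obtain ⟨hk0, hk1, hk2⟩ := key F j hj hF
    rcases hk1.lt_or_eq with hlt' | heq
    · have h := hmin _ ⟨⟨F, j, hj, hF, hlt'⟩, rfl⟩
      rw [← hz₀] at h
      simp only [z] at h
      have hdiv : ∀ d : ℤ, 0 < d → d ≤ n →
          ((n.factorial / d.toNat : ℕ) : ℚ) = (n.factorial : ℚ) / (d : ℚ) := by
        intro d hd hd'
        obtain ⟨q, rfl⟩ : ∃ q : ℕ, (q : ℤ) = d := ⟨_, Int.toNat_of_nonneg hd.le⟩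
        rw [Int.toNat_natCast, Nat.cast_div (Nat.dvd_factorial (by omega) (by omega)) (by simpa using hd.ne'),
          Int.cast_natCast]
      have hkG := (key G ι hι hG).1
      rw [← Int.cast_le (R := ℚ), Int.cast_mul, Int.cast_mul, Int.cast_natCast, Int.cast_natCast,
        hdiv _ (by omega) (by omega), hdiv _ (by omega) (by omega)] at h
      have hd : (0 : ℚ) < (DecSh.mult k X L E : ℚ) - DecSh.mult k X L F := by
        have : (DecSh.mult k X L F : ℚ) < DecSh.mult k X L E := by exact_mod_cast hlt'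
        linarith
      rw [hQe, hQm] at h
      push_cast at h
      rw [hν, ← le_div_iff₀ hd]
      have hf : (0 : ℚ) < (n.factorial : ℚ) := by exact_mod_cast n.factorial_pos
      refine le_of_mul_le_mul_right ?_ hf
      rw [hQe, hQm]
      push_cast
      simp only [add_sub_cancel_left, mul_div, div_mul_eq_mul_div] at h ⊢
      exact h
    · rw [heq, sub_self, mul_zero, sub_nonneg]
      exact_mod_cast hk2 heq
  have hsub : ∀ (H : X.Modules) (i : H ⟶ cokernel ι), Mono i → Coh.IsCoh H →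
      (Curv2.euler k X H : ℚ) ≤ ν * DecSh.mult k X L H := by
    intro H i hi hH
    haveI := hi
    have hR : Coh.IsCoh (cokernel i) := QCoh.isCoh_cokernel hH.1 hQc i
    let p := cokernel.π ι ≫ cokernel.π i
    haveI : Epi p := epi_comp _ _
    have hK : Coh.IsCoh (kernel p) := QCoh.isCoh_kernel hE hR p
    obtain ⟨a1, a2⟩ := invariants_add k hdim hL (S := ShortComplex.mk i (cokernel.π i) (cokernel.condition i))
      (.mk' (ShortComplex.exact_of_g_is_cokernel _ (cokernelIsCokernel i)) inferInstance inferInstance) hH hQc hR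
    obtain ⟨b1, b2⟩ := invariants_add k hdim hL (S := ShortComplex.mk (kernel.ι p) p (kernel.condition p))
      (.mk' (ShortComplex.exact_of_f_is_kernel _ (kernelIsKernel p)) inferInstance inferInstance) hK hE hR
    dsimp only at a1 a2 b1 b2
    have h := hall _ (kernel.ι p) inferInstance hK
    rw [b1, b2] at h
    push_cast at h
    rw [add_sub_cancel_left, add_sub_cancel_left] at h
    have hQν : ν * DecSh.mult k X L (cokernel ι) = Curv2.euler k X (cokernel ι) :=
      div_mul_cancel₀ _ (by linarith)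
    rw [a1, a2] at hQν
    push_cast at hQν
    linarith
  refine ⟨G, cokernel ι, ι, cokernel.π ι, cokernel.condition ι, hS, hG, hQc, hQ1, ?_,
    fun H i hi hH _ => hsub H i hi hH, hall⟩
  intro H i hi hH hH0
  have hd : topologicalKrullDim ↥(CohB1.support H) ≤ ((1 : ℕ) : WithBot ℕ∞) :=
    (topologicalKrullDim_subspace_le X _).trans hdim
  refine hd.antisymm (not_lt.1 fun hlt => ?_)
  have hm : DecSh.mult k X L H = 0 := HilbPoly.iterD_eq_zero 1 (HilbPoly.additive_euler k) _ List.length_replicate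
    (fun N hN => (List.eq_of_mem_replicate hN) ▸ hL.1) H hH hlt
  obtain ⟨h1, h2⟩ := euler_of_mult_zero k hdim hL hH hm
  have h := hsub H i hi hH
  rw [hm, Int.cast_zero, mul_zero] at h
  exact hH0 (h2 (le_antisymm (by exact_mod_cast h) h1))

/-- Le Potier: sections of twists of a module of low slope. -/
theorem exists_lePotier : ∃ c : ℚ, 0 ≤ c ∧ ∀ (μ : ℚ) (F : X.Modules), Coh.IsCoh F → ShStab.IsPure X F 1 →
    ¬ IsZero F → SlopeLE k L μ F → ∀ m : ℕ, 0 ≤ μ + m + c →
      (h0 k (ShStab.twist X L F m) : ℚ) ≤ (DecSh.mult k X L F : ℚ) * (μ + m + c) -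
        min (μ + m + c) (μ - (Curv2.euler k X F : ℚ) / DecSh.mult k X L F) := by
  haveI : IsNoetherian X := CurveCohLib.isNoetherian_of_proper (k := k)
  obtain ⟨A, hA⟩ := exists_testFam hL.1
  obtain ⟨c, hc, hb⟩ := exists_h0_bound k hdim hL hA
  refine ⟨c, hc, fun μ F hF hp hF0 hs m hM => ?_⟩
  have htw : ∀ (ν : ℚ) (M : X.Modules), Coh.IsCoh M → ShStab.IsPure X M 1 → SlopeLE k L ν M →
      (h0 k (ShStab.twist X L M m) : ℚ) ≤ (DecSh.mult k X L M : ℚ) * max 0 (ν + m + c) := by
    intro ν M hM' hpM hsM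
    have hPm := InvX.isInvertible_tensorPow hL.1 m
    have h := hb _ (ShStab.twist X L M m) (AmpleVan.isCoh_tensor hM' (AmpleVan.isCoh_invertible hPm))
      (isPure_tw hPm hpM) (slopeLE_twist k hdim hL hsM m)
    rwa [decMult_twist k hdim hL.1 hM'] at h
  obtain ⟨G, Q, ι, π, w, hS, hG, hQ, hQ1, hQp, hQs, hall⟩ := exists_minQuot k hdim hL hF hp hF0
  haveI : Mono ι := hS.mono_f
  have hpG : ShStab.IsPure X G 1 := fun H i hi hH hH0 => by
    haveI := hi; exact hp H (i ≫ ι) inferInstance hH hH0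
  have hsG : SlopeLE k L μ G := fun H i hi hH hH0 => by
    haveI := hi; exact hs H (i ≫ ι) inferInstance hH hH0
  have h1 := htw μ G hG hpG hsG
  have h2 := htw _ Q hQ hQp hQs
  rw [max_eq_right hM] at h1
  have h3 := h0_twist_le_add k hL hS hF hQ m
  have h3' : (h0 k (ShStab.twist X L F m) : ℚ) ≤ h0 k (ShStab.twist X L G m) + h0 k (ShStab.twist X L Q m) := by
    exact_mod_cast h3
  obtain ⟨-, hadd⟩ := invariants_add k hdim hL hS hG hF hQ
  dsimp only at hadd
  have hα : (1 : ℚ) ≤ DecSh.mult k X L F := by exact_mod_cast mult_pos_sub k hdim hL hp (𝟙 F) hF hF0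
  have hQ1' : (1 : ℚ) ≤ DecSh.mult k X L Q := by exact_mod_cast hQ1
  have hν : (Curv2.euler k X Q : ℚ) / DecSh.mult k X L Q ≤ (Curv2.euler k X F : ℚ) / DecSh.mult k X L F := by
    have hz := hall _ (kernel.ι (𝟙 F)) inferInstance (QCoh.isCoh_kernel hF hF _)
    have hz' : IsZero (kernel (𝟙 F)) := Limits.isZero_zero X.Modules |>.of_iso (kernel.ofMono (𝟙 F))
    have hm0 : DecSh.mult k X L (kernel (𝟙 F)) = 0 :=
      (HilbPoly.additive_lead (HilbPoly.additive_euler k) hL.1 1).zero_of_isZero hz'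
    rw [(HilbPoly.additive_euler k).zero_of_isZero hz', hm0] at hz
    rw [le_div_iff₀ (by linarith)]
    simpa using hz
  set r : ℚ := (Curv2.euler k X Q : ℚ) / DecSh.mult k X L Q
  set f : ℚ := (Curv2.euler k X F : ℚ) / (DecSh.mult k X L F : ℚ)
  rw [hadd]
  push_cast
  have h4 : (DecSh.mult k X L Q : ℚ) * max 0 (r + m + c) ≤
      (DecSh.mult k X L Q : ℚ) * (μ + m + c) - min (μ + m + c) (μ - f) := by
    rcases le_total (r + m + c) 0 with hr | hr
    · rw [max_eq_left hr]
      nlinarith [min_le_left (μ + m + c) (μ - f)]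
    · rw [max_eq_right hr]
      have hfμ : r ≤ μ := by
        have := hs F (𝟙 F) inferInstance hF hF0
        rw [← div_le_iff₀ (by linarith)] at this
        linarith
      nlinarith [min_le_right (μ + m + c) (μ - f), mul_nonneg (sub_nonneg.2 hQ1') (sub_nonneg.2 hfμ)]
  have : ((DecSh.mult k X L G : ℚ) + DecSh.mult k X L Q) * (μ + m + c) =
      (DecSh.mult k X L G : ℚ) * (μ + m + c) + (DecSh.mult k X L Q : ℚ) * (μ + m + c) := by ring
  linarith

end Groth.Agent.ShStabX
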