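import Groth.Agent.ShStabX.TestFam
import Groth.Agent.ShStabX.Curve
import Groth.Agent.AmpleX.FiniteSet
import Groth.Agent.GrothVanish.Main

/-!
# Two sections of a power of an ample module on a one-dimensional scheme
-/

set_option linter.style.haveILetI false
set_option linter.unusedSectionVars false
set_option backward.isDefEq.respectTransparency false
set_option backward.isDefEq.respectTransparency.types false

universe u

open CategoryTheory CategoryTheory.Limits AlgebraicGeometry TopologicalSpace

attribute [local instance] HasDerivedCategory.standard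

noncomputable section

namespace Groth.Agent.ShStabX

open Groth.Agent
open scoped Groth.Agent.H23.PicMul

variable {X : Scheme.{u}}

/-- Multiplication by a section, natural in the module. -/
def secNat {N : X.Modules} (s : Coh.structureModule X ⟶ N) : 𝟭 X.Modules ⟶ AmpleVan.tw N where
  app M := HilbPoly.mulHom s M
  naturality {M M'} φ := by
    show φ ≫ HilbPoly.mulHom s M' = HilbPoly.mulHom s M ≫ (AmpleVan.tw N).map φ
    unfold HilbPoly.mulHom
    have h1 : φ ≫ AmpleVan.twUnit.inv.app M' =
        AmpleVan.twUnit.inv.app M ≫ (AmpleVan.tw (Coh.structureModule X)).map φ :=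
      AmpleVan.twUnit.inv.naturality φ
    rw [← Category.assoc, h1, Category.assoc, Category.assoc]
    refine congrArg (AmpleVan.twUnit.inv.app M ≫ ·) ?_
    exact (((DCoh.tensorBi (X := X)).map φ).naturality s).symm

/-- A set of closed points has dimension at most zero. -/
theorem dimLE_of_closedPoints [IsNoetherian X] {S : Set X} (hS : IsClosed S)
    (h : ∀ x ∈ S, IsClosed ({x} : Set X)) : topologicalKrullDim ↥S ≤ ((0 : ℕ) : WithBot ℕ∞) := by
  haveI : Finite ↥S := (CurveCohLib.finite_of_closedPoints hS h).to_subtype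
  haveI : T1Space ↥S := ⟨fun z => by
    have : ({z} : Set ↥S) = Subtype.val ⁻¹' ({z.1} : Set X) := by ext w; simp [Subtype.ext_iff]
    rw [this]
    exact (h z.1 z.2).preimage continuous_subtype_val⟩
  haveI : DiscreteTopology ↥S := inferInstance
  exact_mod_cast topologicalKrullDim_zero_of_discreteTopology _

variable (k : Type u) [Field k] [X.Over (Spec (CommRingCat.of k))] [IsProper (X ↘ Spec (CommRingCat.of k))]

/-- Two sections of a power of `L`, each nonzero at every generic point, without common zero. -/
structure TwoSec (L : X.Modules) where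
  a : ℕ
  pos : 0 < a
  s : Coh.structureModule X ⟶ CohB1.tensorPow L a
  t : Coh.structureModule X ⟶ CohB1.tensorPow L a
  cover : ∀ x : X, x ∈ CohB1.genLocus _ s ∨ x ∈ CohB1.genLocus _ t
  closedS : ∀ x : X, x ∉ CohB1.genLocus _ s → IsClosed ({x} : Set X)
  closedT : ∀ x : X, x ∉ CohB1.genLocus _ t → IsClosed ({x} : Set X)

include k in
theorem exists_twoSec (hdim : topologicalKrullDim X ≤ ((1 : ℕ) : WithBot ℕ∞)) {L : X.Modules}
    (hL : CohB1.IsAmple L) : Nonempty (TwoSec L) := by
  classical
  haveI : IsNoetherian X := CurveCohLib.isNoetherian_of_proper (k := k)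
  haveI := AmpleVan.isSeparated_of_proper (X := X) (A := k)
  let S₀ : Set X := {x | ¬ IsClosed ({x} : Set X)}
  have hS₀ : S₀.Finite := by
    refine ((NoetherianSpace.finite_irreducibleComponents (α := X)).preimage
      (f := fun x : X => closure ({x} : Set X)) ?_).subset fun x hx => ?_
    · intro x _ y _ hxy
      exact (specializes_iff_mem_closure.2 (hxy.le (subset_closure rfl))).antisymm
        (specializes_iff_mem_closure.2 (hxy.ge (subset_closure rfl))) |>.eq.symm
    · refine ⟨isIrreducible_singleton.closure, fun T hT hxT => ?_⟩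
      by_contra hne
      have hne' : ¬ closure T ⊆ closure ({x} : Set X) := fun hle => hne (subset_closure.trans hle)
      obtain ⟨x', hx', hcl⟩ := (isClosed_closure (s := ({x} : Set X))).exists_closed_singleton ⟨x, subset_closure rfl⟩
      have hne2 : x' ≠ x := fun e => hx (e ▸ hcl)
      let C : Fin 3 → IrreducibleCloseds X := ![⟨{x'}, isIrreducible_singleton, hcl⟩,
        ⟨closure {x}, isIrreducible_singleton.closure, isClosed_closure⟩,
        ⟨closure T, hT.closure, isClosed_closure⟩]
      have hmono : StrictMono C := by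
        refine Fin.strictMono_iff_lt_succ.2 fun i => ?_
        fin_cases i
        · refine lt_of_le_of_ne (Set.singleton_subset_iff.2 hx') fun e => hne2 ?_
          exact ((congrArg (fun Z : IrreducibleCloseds X => x ∈ (Z : Set X)) e).mpr (subset_closure rfl)).symm
        · exact lt_of_le_of_ne (closure_mono (Set.singleton_subset_iff.2 (hxT (subset_closure rfl))))
            fun e => hne' (congrArg (fun Z : IrreducibleCloseds X => (Z : Set X)) e).ge
      have h2 := Order.LTSeries.length_le_krullDim (LTSeries.mk 2 C hmono)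
      have h3 : ((2 : ℕ) : WithBot ℕ∞) ≤ ((1 : ℕ) : WithBot ℕ∞) := h2.trans hdim
      norm_cast at h3
  obtain ⟨n, s, hs, -, -⟩ := AmpleX.exists_finite_nhd hL hS₀ (U := ⊤) (fun x _ => trivial)
  let C : Set X := (CohB1.genLocus (CohB1.tensorPow L (n + 1)) s : Set X)ᶜ
  have hC : ∀ x ∈ C, IsClosed ({x} : Set X) := fun x hx => by
    by_contra hx'
    exact hx (hs hx')
  have hCfin : C.Finite := CurveCohLib.finite_of_closedPoints (CohB1.genLocus _ s).isOpen.isClosed_compl hC
  obtain ⟨m, t, ht, -, -⟩ := AmpleX.exists_finite_nhd hL (hS₀.union hCfin) (U := ⊤) (fun x _ => trivial)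
  have hLn := InvX.isInvertible_tensorPow hL.1 (n + 1)
  have hLm := InvX.isInvertible_tensorPow hL.1 (m + 1)
  obtain ⟨s', hs'⟩ := AmpleX.exists_section_of_cl_eq (B := CohB1.tensorPow L ((n + 1) * (m + 1)))
    (by rw [H23.PicMul.cl_tensorPow, H23.PicMul.cl_tensorPow, H23.PicMul.cl_tensorPow, ← pow_mul])
    (InvX.powHom s (m + 1))
  obtain ⟨t', ht'⟩ := AmpleX.exists_section_of_cl_eq (B := CohB1.tensorPow L ((n + 1) * (m + 1)))
    (by rw [H23.PicMul.cl_tensorPow, H23.PicMul.cl_tensorPow, H23.PicMul.cl_tensorPow, ← pow_mul, mul_comm (m + 1)])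
    (InvX.powHom t (n + 1))
  rw [InvX.genLocus_powHom hLn] at hs'
  rw [InvX.genLocus_powHom hLm] at ht'
  refine ⟨⟨(n + 1) * (m + 1), by positivity, s', t', fun x => ?_, fun x hx => hC x (by rw [hs'] at hx; exact hx), fun x hx => ?_⟩⟩
  · rw [hs', ht']
    by_cases hx : x ∈ CohB1.genLocus (CohB1.tensorPow L (n + 1)) s
    · exact Or.inl hx
    · exact Or.inr (ht (Or.inr hx))
  · rw [ht'] at hx
    by_contra hx'
    exact hx (ht (Or.inl hx'))

end Groth.Agent.ShStabX
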