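import Groth.Agent.ShStabX.Max

/-!
# The next step of a Harder–Narasimhan filtration
-/

set_option linter.style.haveILetI false
set_option linter.unusedSectionVars false
set_option backward.isDefEq.respectTransparency false
set_option backward.isDefEq.respectTransparency.types false

universe u

open CategoryTheory CategoryTheory.Limits AlgebraicGeometry Polynomial StabCat TopologicalSpace

noncomputable section

namespace Groth.Agent.ShStabX

open Groth.Agent

variable {X : Scheme.{u}} {k : Type u} [Field k] [X.Over (Spec (CommRingCat.of k))]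
  [IsProper (X ↘ Spec (CommRingCat.of k))] {L : X.Modules} {d ℓ : ℕ} {E : X.Modules}

variable (k L d ℓ) in
/-- `T` is the next step after `S`: the maximal destabilising submodule of `E/S`, as a submodule of `E`. -/
def IsNext (S T : Subobject E) : Prop :=
  S < T ∧ Coh.IsCoh (T : X.Modules) ∧ ∀ W : Subobject E, S < W → Coh.IsCoh (W : X.Modules) →
    RedLE d (tp k L d ℓ (W : X.Modules) - tp k L d ℓ (S : X.Modules))
        (tp k L d ℓ (T : X.Modules) - tp k L d ℓ (S : X.Modules)) ∧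
      (RedEq d (tp k L d ℓ (W : X.Modules) - tp k L d ℓ (S : X.Modules))
        (tp k L d ℓ (T : X.Modules) - tp k L d ℓ (S : X.Modules)) → W ≤ T)

section Basic

variable (hL : CohB1.IsAmple L) (hE : Coh.IsCoh E) (hd : DimLE E d)

include k hL hE hd

lemma dim_subobj {S : Subobject E} (hS : Coh.IsCoh (S : X.Modules)) : DimLE (S : X.Modules) d :=
  HilbPoly.dim_mono hS hE S.arrow hd

lemma isCoh_cok {S : Subobject E} (hS : Coh.IsCoh (S : X.Modules)) :
    Coh.IsCoh (cokernel S.arrow) ∧ DimLE (cokernel S.arrow) d := by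
  haveI : IsNoetherian X := CurveCohLib.isNoetherian_of_proper (k := k)
  exact ⟨QCoh.isCoh_cokernel hS.1 hE _, HilbPoly.dim_epi hE (QCoh.isCoh_cokernel hS.1 hE _) (cokernel.π _) hd⟩

lemma isCoh_piece {S T : Subobject E} (hS : Coh.IsCoh (S : X.Modules)) (hT : Coh.IsCoh (T : X.Modules))
    (h : S ≤ T) : Coh.IsCoh (cokernel (Subobject.ofLE S T h)) ∧ DimLE (cokernel (Subobject.ofLE S T h)) d := by
  haveI : IsNoetherian X := CurveCohLib.isNoetherian_of_proper (k := k)
  exact ⟨QCoh.isCoh_cokernel hS.1 hT _, HilbPoly.dim_epi hT (QCoh.isCoh_cokernel hS.1 hT _) (cokernel.π _)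
    (dim_subobj (k := k) hL hE hd hT)⟩

lemma tp_piece {S T : Subobject E} (hS : Coh.IsCoh (S : X.Modules)) (hT : Coh.IsCoh (T : X.Modules))
    (h : S ≤ T) : tp k L d ℓ (cokernel (Subobject.ofLE S T h)) =
      tp k L d ℓ (T : X.Modules) - tp k L d ℓ (S : X.Modules) := by
  have hsum := tp_add (k := k) (ℓ := ℓ) hL (S := ShortComplex.mk (Subobject.ofLE S T h) (cokernel.π _)
    (cokernel.condition _)) (.mk' (ShortComplex.exact_of_g_is_cokernel _ (cokernelIsCokernel _))
    inferInstance inferInstance) hS hT (isCoh_piece (k := k) hL hE hd hS hT h).1 (dim_subobj (k := k) hL hE hd hT)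
  dsimp only at hsum
  rw [hsum, add_sub_cancel_left]

lemma exists_preimage {S : Subobject E} (hS : Coh.IsCoh (S : X.Modules)) {F : X.Modules}
    (ι : F ⟶ cokernel S.arrow) [Mono ι] (hF : Coh.IsCoh F) :
    Coh.IsCoh (preimageSub S ι : X.Modules) ∧
      tp k L d ℓ (preimageSub S ι : X.Modules) - tp k L d ℓ (S : X.Modules) = tp k L d ℓ F := by
  haveI : IsNoetherian X := CurveCohLib.isNoetherian_of_proper (k := k)
  obtain ⟨hQ, hdQ⟩ := isCoh_cok (k := k) hL hE hd hS
  have hT : Coh.IsCoh (preimageSub S ι : X.Modules) :=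
    HilbPoly.isCoh_of_iso (Subobject.underlyingIso _).symm
      (QCoh.isCoh_kernel hE (QCoh.isCoh_cokernel hF.1 hQ ι) _)
  obtain ⟨φ, -⟩ := exists_iso_preimageSub S ι
  obtain ⟨hP, hdP⟩ := isCoh_piece (k := k) hL hE hd hS hT (le_preimageSub S ι)
  exact ⟨hT, by rw [← tp_piece hL hE hd hS hT (le_preimageSub S ι),
    tp_iso hL φ hP hF hdP (HilbPoly.dim_mono hF hQ ι hdQ)]⟩

theorem isNext_unique {S T T' : Subobject E} (h : IsNext k L d ℓ S T) (h' : IsNext k L d ℓ S T') : T = T' := by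
  have a := h.2.2 T' h'.1 h'.2.1
  have b := h'.2.2 T h.1 h.2.1
  have he := HilbPoly.redEq_of_le_le b.1 a.1
  exact le_antisymm (b.2 he) (a.2 (redEq_symm he))

end Basic

variable (hL : CohB1.IsAmple L) (hE : Coh.IsCoh E) (hp : ShStab.IsPure X E d)

include k hL hE hp

/-- Submodules above the next step are worse. -/
lemma IsNext.redLT {S T W : Subobject E} (h : IsNext k L d ℓ S T) (hTW : T < W) (hW : Coh.IsCoh (W : X.Modules)) :
    RedLT d (tp k L d ℓ (W : X.Modules) - tp k L d ℓ (T : X.Modules))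
      (tp k L d ℓ (T : X.Modules) - tp k L d ℓ (S : X.Modules)) := by
  obtain ⟨hle, hiff⟩ := h.2.2 W (h.1.trans hTW) hW
  have hlt := redLT_of_redLE_of_ne hle fun he => not_le_of_gt hTW (hiff he)
  rwa [show tp k L d ℓ (W : X.Modules) - tp k L d ℓ (S : X.Modules) =
    (tp k L d ℓ (T : X.Modules) - tp k L d ℓ (S : X.Modules)) +
      (tp k L d ℓ (W : X.Modules) - tp k L d ℓ (T : X.Modules)) by abel, redLT_add_left_iff] at hlt

/-- The quotient by the next step is pure. -/
lemma IsNext.isPure_cok {S T : Subobject E} (hS : Coh.IsCoh (S : X.Modules)) (h : IsNext k L d ℓ S T) :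
    ShStab.IsPure X (cokernel T.arrow) d := by
  intro G g hg hG hG0
  haveI := hg
  have hd := HilbPoly.dim_le_of_isPure hp hE
  obtain ⟨hQ, hdQ⟩ := isCoh_cok (k := k) hL hE hd h.2.1
  have hdG := HilbPoly.dim_mono hG hQ g hdQ
  refine le_antisymm hdG (le_of_not_gt fun hlt => ?_)
  obtain ⟨hW, hWp⟩ := exists_preimage (k := k) (ℓ := ℓ) hL hE hd h.2.1 g hG
  have hne : T < preimageSub T g := by
    refine lt_of_le_of_ne (le_preimageSub T g) fun he => hG0 ?_
    obtain ⟨φ, -⟩ := exists_iso_preimageSub T g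
    exact ((isZero_cokernel_ofLE_iff (le_preimageSub T g)).2 he.symm).of_iso φ.symm
  have h1 := h.redLT hL hE hp hne hW
  rw [hWp] at h1
  refine HilbPoly.not_redLE_of_redLT h1 (redLE_of_alpha_zero (alpha_tp_eq_zero hL hG hlt) ?_ (tp_nonneg hL hG hdG))
  rw [← tp_piece (k := k) hL hE hd hS h.2.1 h.1.le]
  exact alpha_tp_nonneg hL (isCoh_piece (k := k) hL hE hd hS h.2.1 h.1.le).1
    (isCoh_piece (k := k) hL hE hd hS h.2.1 h.1.le).2

/-- The piece of the next step is semistable. -/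
lemma IsNext.ssl {S T : Subobject E} (hS : Coh.IsCoh (S : X.Modules))
    (hSp : ShStab.IsPure X (cokernel S.arrow) d) (h : IsNext k L d ℓ S T) :
    SSl k L d ℓ (cokernel (Subobject.ofLE S T h.1.le)) := by
  have hd := HilbPoly.dim_le_of_isPure hp hE
  obtain ⟨hP, hdP⟩ := isCoh_piece (k := k) hL hE hd hS h.2.1 h.1.le
  refine ⟨hP, fun hz => h.1.ne' ((isZero_cokernel_ofLE_iff h.1.le).1 hz), fun F ι hι hF h0 => ?_,
    fun F ι hι hF h0 => ?_⟩ <;> haveI := hι
  · exact hSp F (ι ≫ quotIncl h.1.le) inferInstance hF h0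
  · obtain ⟨hW, hWp⟩ := exists_preimage (k := k) (ℓ := ℓ) hL hE hd hS (ι ≫ quotIncl h.1.le) hF
    have hne : S < preimageSub S (ι ≫ quotIncl h.1.le) := by
      refine lt_of_le_of_ne (le_preimageSub _ _) fun he => h0 ?_
      obtain ⟨φ, -⟩ := exists_iso_preimageSub S (ι ≫ quotIncl h.1.le)
      exact ((isZero_cokernel_ofLE_iff (le_preimageSub _ _)).2 he.symm).of_iso φ.symm
    have h1 := (h.2.2 _ hne hW).1
    rw [hWp] at h1
    rwa [tp_piece hL hE hd hS h.2.1 h.1.le]

/-- Existence of the next step. -/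
theorem exists_isNext {S : Subobject E} (hS : Coh.IsCoh (S : X.Modules))
    (hSp : ShStab.IsPure X (cokernel S.arrow) d) (hne : S ≠ ⊤) : ∃ T, IsNext k L d ℓ S T := by
  have hd := HilbPoly.dim_le_of_isPure hp hE
  obtain ⟨hQ, hdQ⟩ := isCoh_cok (k := k) hL hE hd hS
  obtain ⟨F, ι, hι, hF, hF0, hmax⟩ :=
    exists_max (k := k) (ℓ := ℓ) hL hQ (fun hz => hne (isZero_cokernel_arrow_iff.1 hz)) hSp
  haveI := hι
  obtain ⟨hT, hTp⟩ := exists_preimage (k := k) (ℓ := ℓ) hL hE hd hS ι hF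
  obtain ⟨φ, hφ⟩ := exists_iso_preimageSub S ι
  refine ⟨preimageSub S ι, lt_of_le_of_ne (le_preimageSub S ι) fun he =>
    hF0 (((isZero_cokernel_ofLE_iff (le_preimageSub S ι)).2 he.symm).of_iso φ.symm), hT, fun W hSW hW => ?_⟩
  obtain ⟨hP, hdP⟩ := isCoh_piece (k := k) hL hE hd hS hW hSW.le
  obtain ⟨h1, h2⟩ := hmax _ (quotIncl hSW.le) inferInstance hP
    (fun hz => hSW.ne' ((isZero_cokernel_ofLE_iff hSW.le).1 hz))
  rw [tp_piece hL hE hd hS hW hSW.le] at h1 h2
  rw [hTp]
  refine ⟨h1, fun he => ?_⟩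
  obtain ⟨ψ, hψ⟩ := h2 he
  refine le_of_comp_quotProj (le_preimageSub S ι) hSW.le ?_
  have hιg : ι ≫ quotProj (le_preimageSub S ι) = 0 := by
    rw [← cancel_epi φ.hom, ← Category.assoc, hφ, quotIncl_quotProj, Limits.comp_zero]
  rw [← hψ, Category.assoc, hιg, Limits.comp_zero]

end Groth.Agent.ShStabX
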