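import Groth.Agent.HilbPoly.Sub

/-!
# The preorder of reduced polynomials, and truncations
-/

universe u

open Polynomial StabCat

noncomputable section

namespace Groth.Agent.ShStabX

variable {d ℓ : ℕ} {P Q R S T : ℚ[X]}

lemma alpha_add' (j : ℕ) (P Q : ℚ[X]) : alpha j (P + Q) = alpha j P + alpha j Q := by
  simp only [alpha, coeff_add]; ring

lemma alpha_sub' (j : ℕ) (P Q : ℚ[X]) : alpha j (P - Q) = alpha j P - alpha j Q := by
  simp only [alpha, coeff_sub]; ring

lemma alpha_zero' (j : ℕ) : alpha j (0 : ℚ[X]) = 0 := by simp [alpha]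

lemma redLE_refl (d : ℕ) (P : ℚ[X]) : RedLE d P P := ⟨0, fun _ _ => le_rfl⟩

lemma not_redLT_self : ¬ RedLT d P P := fun h => HilbPoly.not_redLE_of_redLT h (redLE_refl d P)

lemma redEq_symm (h : RedEq d P Q) : RedEq d Q P := Eq.symm h

lemma redLE_of_redEq (h : RedEq d P Q) : RedLE d P Q :=
  ⟨0, fun _ _ => le_of_eq (congrArg (Polynomial.eval _) h)⟩

lemma redLT_of_not_redLE (h : ¬ RedLE d P Q) : RedLT d Q P :=
  (HilbPoly.redLE_or_redLT d P Q).resolve_left h

lemma redLT_of_redLE_of_ne (h : RedLE d P Q) (hne : ¬ RedEq d P Q) : RedLT d P Q :=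
  redLT_of_not_redLE fun h' => hne (HilbPoly.redEq_of_le_le h h')

lemma redLT_trans_right (hP : 0 ≤ alpha d P) (hQ : 0 < alpha d Q) (hR : 0 < alpha d R) (h₁ : RedLT d P Q)
    (h₂ : RedLE d Q R) : RedLT d P R :=
  redLT_of_not_redLE fun h => HilbPoly.not_redLE_of_redLT h₁ (HilbPoly.redLE_trans hQ.le hR hP h₂ h)

lemma redLT_trans' (hP : 0 < alpha d P) (hQ : 0 < alpha d Q) (hR : 0 ≤ alpha d R) (h₁ : RedLT d P Q)
    (h₂ : RedLT d Q R) : RedLT d P R :=
  HilbPoly.redLT_trans_left hP hQ hR (HilbPoly.redLE_of_redLT h₁) h₂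

/-- Comparisons with a sum. -/
lemma redLE_add_left_iff : RedLE d (S + T) S ↔ RedLE d T S := by
  constructor <;> rintro ⟨N, hN⟩ <;> refine ⟨N, fun m hm => ?_⟩ <;> have h := hN m hm <;>
    simp only [alpha_add', eval_smul, eval_add, smul_eq_mul] at h ⊢ <;> linarith

lemma redLE_add_right_iff : RedLE d S (S + T) ↔ RedLE d S T := by
  constructor <;> rintro ⟨N, hN⟩ <;> refine ⟨N, fun m hm => ?_⟩ <;> have h := hN m hm <;>
    simp only [alpha_add', eval_smul, eval_add, smul_eq_mul] at h ⊢ <;> linarith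

lemma redLT_add_left_iff : RedLT d (S + T) S ↔ RedLT d T S := by
  constructor <;> rintro ⟨N, hN⟩ <;> refine ⟨N, fun m hm => ?_⟩ <;> have h := hN m hm <;>
    simp only [alpha_add', eval_smul, eval_add, smul_eq_mul] at h ⊢ <;> linarith

lemma redLT_add_right_iff : RedLT d S (S + T) ↔ RedLT d S T := by
  constructor <;> rintro ⟨N, hN⟩ <;> refine ⟨N, fun m hm => ?_⟩ <;> have h := hN m hm <;>
    simp only [alpha_add', eval_smul, eval_add, smul_eq_mul] at h ⊢ <;> linarith

/-- A polynomial of multiplicity zero which is eventually non-negative is on top. -/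
lemma redLE_of_alpha_zero (hα : alpha d T = 0) (hS : 0 ≤ alpha d S) (hT : PolyLE 0 T) : RedLE d S T := by
  obtain ⟨N, hN⟩ := hT
  refine ⟨N, fun m hm => ?_⟩
  have h := hN m hm
  simp only [eval_zero] at h
  simp only [hα, zero_smul, eval_zero, eval_smul, smul_eq_mul]
  positivity

/-! ### Truncations -/

lemma topPart_add (ℓ d : ℕ) (P Q : ℚ[X]) : topPart ℓ d (P + Q) = topPart ℓ d P + topPart ℓ d Q := by
  simp only [topPart, coeff_add, map_add, Finset.sum_add_distrib]

lemma topPart_zero (ℓ d : ℕ) : topPart ℓ d (0 : ℚ[X]) = 0 := by simp [topPart]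

lemma topPart_sub (ℓ d : ℕ) (P Q : ℚ[X]) : topPart ℓ d (P - Q) = topPart ℓ d P - topPart ℓ d Q := by
  simp only [topPart, coeff_sub, map_sub, Finset.sum_sub_distrib]

lemma topPart_smul (ℓ d : ℕ) (c : ℚ) (P : ℚ[X]) : topPart ℓ d (c • P) = c • topPart ℓ d P := by
  simp only [topPart, coeff_smul, Finset.smul_sum, smul_monomial]

/-- Truncation preserves eventual non-negativity. -/
lemma polyLE_topPart (hd : P.natDegree ≤ d) (h : PolyLE 0 P) : PolyLE 0 (topPart ℓ d P) := by
  by_cases hP : P = 0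
  · subst hP
    rw [topPart_zero]
    exact ⟨0, fun _ _ => le_rfl⟩
  have hlc : 0 < P.coeff P.natDegree := by
    rw [← leadingCoeff]
    refine lt_of_not_ge fun hle => ?_
    have hneg : P.leadingCoeff < 0 := lt_of_le_of_ne hle (leadingCoeff_ne_zero.2 hP)
    obtain ⟨N₁, h₁⟩ := HilbPoly.eventually_pos (P := -P) (d := P.natDegree) (by rw [natDegree_neg])
      (by rw [coeff_neg, ← leadingCoeff]; linarith)
    obtain ⟨N₂, h₂⟩ := h
    have a := h₁ (max N₁ N₂) (le_max_left _ _)
    have b := h₂ (max N₁ N₂) (le_max_right _ _)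
    simp only [eval_neg, eval_zero] at a b
    linarith
  by_cases hj : d - ℓ ≤ P.natDegree
  · obtain ⟨N, hN⟩ := HilbPoly.eventually_pos (P := topPart ℓ d P) (d := P.natDegree)
      (natDegree_le_iff_coeff_eq_zero.2 fun j hj' => by
        rw [HilbPoly.topPart_coeff, coeff_eq_zero_of_natDegree_lt hj']
        simp)
      (by rw [HilbPoly.topPart_coeff, if_pos ⟨hj, hd⟩]; exact hlc)
    exact ⟨N, fun m hm => by rw [eval_zero]; exact (hN m hm).le⟩
  · have : topPart ℓ d P = 0 := Polynomial.ext fun j => by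
      rw [HilbPoly.topPart_coeff, coeff_zero]
      split_ifs with hc
      · exact coeff_eq_zero_of_natDegree_lt (by omega)
      · rfl
    rw [this]
    exact ⟨0, fun _ _ => le_rfl⟩

lemma topPart_one (hd : 1 ≤ d) (P : ℚ[X]) :
    topPart 1 d P = monomial (d - 1) (P.coeff (d - 1)) + monomial d (P.coeff d) := by
  have h : Finset.Icc (d - 1) d = {d - 1, d} := by
    ext x; simp only [Finset.mem_Icc, Finset.mem_insert, Finset.mem_singleton]; omega
  rw [topPart, h, Finset.sum_pair (by omega)]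

/-- The `ℓ = 1` comparison is the comparison of slopes. -/
lemma redLE_topPart_one_iff (hd : 1 ≤ d) :
    RedLE d (topPart 1 d P) (topPart 1 d Q) ↔ alpha (d - 1) P * alpha d Q ≤ alpha (d - 1) Q * alpha d P := by
  have key : ∀ m : ℕ, (alpha d P • topPart 1 d Q).eval (m : ℚ) - (alpha d Q • topPart 1 d P).eval (m : ℚ) =
      (alpha d P * Q.coeff (d - 1) - alpha d Q * P.coeff (d - 1)) * (m : ℚ) ^ (d - 1) := fun m => by
    simp only [topPart_one hd, eval_smul, eval_add, eval_monomial, smul_eq_mul, alpha]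
    ring
  have hf : (0 : ℚ) < ((d - 1).factorial : ℚ) := by exact_mod_cast Nat.factorial_pos _
  simp only [RedLE, PolyLE, HilbPoly.alpha_topPart]
  constructor
  · rintro ⟨N, hN⟩
    have h := hN (N + 1) (Nat.le_succ N)
    have k := key (N + 1)
    have hp : (0 : ℚ) < ((N + 1 : ℕ) : ℚ) ^ (d - 1) := by positivity
    have : 0 ≤ alpha d P * Q.coeff (d - 1) - alpha d Q * P.coeff (d - 1) :=
      nonneg_of_mul_nonneg_left (by rw [← k]; linarith) hp
    simp only [alpha] at this ⊢
    nlinarith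
  · intro h
    refine ⟨0, fun m _ => sub_nonneg.1 ?_⟩
    rw [key]
    refine mul_nonneg ?_ (by positivity)
    simp only [alpha] at h ⊢
    exact nonneg_of_mul_nonneg_right (by linarith : 0 ≤ ((d - 1).factorial : ℚ) * _) hf

lemma redLT_topPart_one_iff (hd : 1 ≤ d) :
    RedLT d (topPart 1 d P) (topPart 1 d Q) ↔ alpha (d - 1) P * alpha d Q < alpha (d - 1) Q * alpha d P := by
  rw [← not_le, ← redLE_topPart_one_iff hd]
  exact ⟨HilbPoly.not_redLE_of_redLT, redLT_of_not_redLE⟩

lemma redLE_topPart_one_iff_hatSlope (hd : 1 ≤ d) (hP : 0 < alpha d P) (hQ : 0 < alpha d Q) :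
    RedLE d (topPart 1 d P) (topPart 1 d Q) ↔ hatSlope d P ≤ hatSlope d Q := by
  rw [redLE_topPart_one_iff hd, hatSlope, hatSlope, div_le_div_iff₀ hP hQ]

lemma redLT_topPart_one_iff_hatSlope (hd : 1 ≤ d) (hP : 0 < alpha d P) (hQ : 0 < alpha d Q) :
    RedLT d (topPart 1 d P) (topPart 1 d Q) ↔ hatSlope d P < hatSlope d Q := by
  rw [redLT_topPart_one_iff hd, hatSlope, hatSlope, div_lt_div_iff₀ hP hQ]

end Groth.Agent.ShStabX
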