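import Groth.Agent.HilbPoly.Sub
import Mathlib.CategoryTheory.Abelian.Refinements

/-!
# Quotients along a chain of subobjects in an abelian category
-/

universe v u

open CategoryTheory CategoryTheory.Limits

noncomputable section

namespace Groth.Agent.ShStabX

variable {C : Type u} [Category.{v} C] [Abelian C] {E : C}

/-- The map `T/S ⟶ E/S`. -/
def quotIncl {S T : Subobject E} (h : S ≤ T) : cokernel (Subobject.ofLE S T h) ⟶ cokernel S.arrow :=
  cokernel.map _ _ (𝟙 _) T.arrow (by simp)

/-- The map `E/S ⟶ E/T`. -/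
def quotProj {S T : Subobject E} (h : S ≤ T) : cokernel S.arrow ⟶ cokernel T.arrow :=
  cokernel.desc _ (cokernel.π T.arrow) (by rw [← Subobject.ofLE_arrow h, Category.assoc, cokernel.condition, comp_zero])

@[reassoc]
lemma π_quotIncl {S T : Subobject E} (h : S ≤ T) :
    cokernel.π (Subobject.ofLE S T h) ≫ quotIncl h = T.arrow ≫ cokernel.π S.arrow := by
  simp [quotIncl]

@[reassoc]
lemma π_quotProj {S T : Subobject E} (h : S ≤ T) : cokernel.π S.arrow ≫ quotProj h = cokernel.π T.arrow := by
  simp [quotProj]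

lemma quotIncl_quotProj {S T : Subobject E} (h : S ≤ T) : quotIncl h ≫ quotProj h = 0 := by
  rw [← cancel_epi (cokernel.π (Subobject.ofLE S T h)), π_quotIncl_assoc, π_quotProj, cokernel.condition, comp_zero]

instance mono_quotIncl {S T : Subobject E} (h : S ≤ T) : Mono (quotIncl h) := by
  refine Preadditive.mono_of_cancel_zero _ fun {A} x hx => ?_
  obtain ⟨A', π, hπ, y, hy⟩ := surjective_up_to_refinements_of_epi (cokernel.π (Subobject.ofLE S T h)) x
  have h0 : (y ≫ T.arrow) ≫ cokernel.π S.arrow = 0 := by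
    rw [Category.assoc, ← π_quotIncl h, ← Category.assoc, ← hy, Category.assoc, hx, comp_zero]
  have h1 : y = Abelian.monoLift S.arrow _ h0 ≫ Subobject.ofLE S T h := by
    rw [← cancel_mono T.arrow, Category.assoc, Subobject.ofLE_arrow, Abelian.monoLift_comp]
  rw [← cancel_epi π, hy, h1, Category.assoc, cokernel.condition, comp_zero, comp_zero]

instance epi_quotProj {S T : Subobject E} (h : S ≤ T) : Epi (quotProj h) := by
  haveI : Epi (cokernel.π S.arrow ≫ quotProj h) := by rw [π_quotProj]; infer_instance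
  exact epi_of_epi (cokernel.π S.arrow) _

/-- `0 → T/S → E/S → E/T → 0`. -/
lemma quot_shortExact {S T : Subobject E} (h : S ≤ T) :
    (ShortComplex.mk (quotIncl h) (quotProj h) (quotIncl_quotProj h)).ShortExact := by
  refine .mk' ?_ (mono_quotIncl h) (epi_quotProj h)
  rw [ShortComplex.exact_iff_exact_up_to_refinements]
  intro A x hx
  obtain ⟨A', π, hπ, y, hy⟩ := surjective_up_to_refinements_of_epi (cokernel.π S.arrow) x
  have h0 : y ≫ cokernel.π T.arrow = 0 := by
    rw [← π_quotProj h, ← Category.assoc, ← hy, Category.assoc]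
    exact (congrArg (π ≫ ·) hx).trans comp_zero
  refine ⟨A', π, hπ, Abelian.monoLift T.arrow y h0 ≫ cokernel.π (Subobject.ofLE S T h), ?_⟩
  show π ≫ x = _ ≫ quotIncl h
  rw [Category.assoc, π_quotIncl, ← Category.assoc, Abelian.monoLift_comp, hy]

/-- The preimage of a subobject of `E/S`. -/
def preimageSub (S : Subobject E) {F : C} (ι : F ⟶ cokernel S.arrow) : Subobject E :=
  Subobject.mk (kernel.ι (cokernel.π S.arrow ≫ cokernel.π ι))

lemma le_preimageSub (S : Subobject E) {F : C} (ι : F ⟶ cokernel S.arrow) : S ≤ preimageSub S ι :=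
  Subobject.le_mk_of_comm (kernel.lift _ S.arrow (by simp)) (kernel.lift_ι _ _ _)

lemma preimageSub_arrow_comp (S : Subobject E) {F : C} (ι : F ⟶ cokernel S.arrow) :
    (preimageSub S ι).arrow ≫ cokernel.π S.arrow ≫ cokernel.π ι = 0 := by
  unfold preimageSub
  rw [← Subobject.underlyingIso_hom_comp_eq_mk, Category.assoc, kernel.condition, comp_zero]

/-- The piece over the preimage is the given subobject. -/
lemma exists_iso_preimageSub (S : Subobject E) {F : C} (ι : F ⟶ cokernel S.arrow) [Mono ι] :
    ∃ φ : cokernel (Subobject.ofLE S _ (le_preimageSub S ι)) ≅ F,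
      φ.hom ≫ ι = quotIncl (le_preimageSub S ι) := by
  have h0 : quotIncl (le_preimageSub S ι) ≫ cokernel.π ι = 0 := by
    rw [← cancel_epi (cokernel.π (Subobject.ofLE S _ (le_preimageSub S ι))), π_quotIncl_assoc,
      preimageSub_arrow_comp, comp_zero]
  have hle : ι ≫ quotProj (le_preimageSub S ι) = 0 := by
    obtain ⟨A', π, hπ, y, hy⟩ := surjective_up_to_refinements_of_epi (cokernel.π S.arrow) ι
    have hk : y ≫ (cokernel.π S.arrow ≫ cokernel.π ι) = 0 := by
      rw [← Category.assoc, ← hy, Category.assoc, cokernel.condition, comp_zero]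
    obtain ⟨z, hz⟩ : ∃ z : A' ⟶ (preimageSub S ι : C), z ≫ (preimageSub S ι).arrow = y :=
      ⟨kernel.lift _ y hk ≫ (Subobject.underlyingIso _).inv, by simp [preimageSub]⟩
    rw [← cancel_epi π, ← Category.assoc, hy, Category.assoc, π_quotProj, ← hz, Category.assoc,
      cokernel.condition, comp_zero, comp_zero]
  let a := Abelian.monoLift ι (quotIncl (le_preimageSub S ι)) h0
  let b := (quot_shortExact (le_preimageSub S ι)).exact.lift ι hle
  have hb : b ≫ quotIncl (le_preimageSub S ι) = ι := (quot_shortExact (le_preimageSub S ι)).exact.lift_f ι hle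
  refine ⟨⟨a, b, ?_, ?_⟩, Abelian.monoLift_comp _ _ _⟩
  · rw [← cancel_mono (quotIncl (le_preimageSub S ι)), Category.assoc, hb, Category.id_comp]
    exact Abelian.monoLift_comp _ _ _
  · rw [← cancel_mono ι, Category.assoc]
    show b ≫ Abelian.monoLift ι _ h0 ≫ ι = _
    rw [Abelian.monoLift_comp, hb, Category.id_comp]

/-- Criterion for `W ≤ T` on the quotient. -/
lemma le_of_comp_quotProj {S T W : Subobject E} (hST : S ≤ T) (hSW : S ≤ W)
    (h : quotIncl hSW ≫ quotProj hST = 0) : W ≤ T := by
  have h0 : W.arrow ≫ cokernel.π T.arrow = 0 := by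
    rw [← π_quotProj hST, ← Category.assoc, ← π_quotIncl hSW, Category.assoc, h, comp_zero]
  exact Subobject.le_of_comm (Abelian.monoLift T.arrow W.arrow h0) (Abelian.monoLift_comp _ _ _)

lemma isZero_cokernel_arrow_iff {S : Subobject E} : IsZero (cokernel S.arrow) ↔ S = ⊤ := by
  constructor
  · intro h
    haveI : Epi S.arrow := Preadditive.epi_of_isZero_cokernel _ h
    haveI := isIso_of_mono_of_epi S.arrow
    exact Subobject.eq_top_of_isIso_arrow S
  · rintro rfl
    exact isZero_cokernel_of_epi _

lemma isZero_cokernel_ofLE_iff {S T : Subobject E} (h : S ≤ T) :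
    IsZero (cokernel (Subobject.ofLE S T h)) ↔ T = S := by
  constructor
  · intro hz
    haveI : Epi (Subobject.ofLE S T h) := Preadditive.epi_of_isZero_cokernel _ hz
    haveI := isIso_of_mono_of_epi (Subobject.ofLE S T h)
    exact le_antisymm (Subobject.le_of_comm (inv (Subobject.ofLE S T h))
      (by rw [IsIso.inv_comp_eq, Subobject.ofLE_arrow])) h
  · rintro rfl
    haveI : Epi (Subobject.ofLE T T h) := by rw [Subobject.ofLE_refl]; infer_instance
    exact isZero_cokernel_of_epi _

lemma isIso_π_of_arrow_eq_zero {S : Subobject E} (h : S.arrow = 0) : IsIso (cokernel.π S.arrow) := by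
  rw [show cokernel.π S.arrow = (cokernelIsoOfEq h ≪≫ cokernelZeroIsoTarget).inv from ?_]
  · infer_instance
  · rw [← cancel_mono (cokernelIsoOfEq h ≪≫ cokernelZeroIsoTarget).hom, Iso.inv_hom_id]
    simp

end Groth.Agent.ShStabX
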