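import Groth.Agent.ShStabX.Ord
import Groth.Agent.ShStabX.Quot

/-!
# Truncated Hilbert polynomials of coherent modules of bounded dimension, and semistability for them
-/

set_option linter.style.haveILetI false
set_option linter.unusedSectionVars false
set_option backward.isDefEq.respectTransparency false
set_option backward.isDefEq.respectTransparency.types false

universe u

open CategoryTheory CategoryTheory.Limits AlgebraicGeometry Polynomial StabCat TopologicalSpace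

noncomputable section

namespace Groth.Agent.ShStabX

open Groth.Agent

variable {X : Scheme.{u}}

/-- Support of dimension at most `d`. -/
abbrev DimLE (F : X.Modules) (d : ℕ) : Prop :=
  topologicalKrullDim ↥(CohB1.support F) ≤ (d : WithBot ℕ∞)

variable {k : Type u} [Field k] [X.Over (Spec (CommRingCat.of k))]
  [IsProper (X ↘ Spec (CommRingCat.of k))] {L : X.Modules} {d ℓ : ℕ}

variable (k L d ℓ) in
/-- The `ℓ`-truncation of the Hilbert polynomial. -/
@[irreducible] def tp (F : X.Modules) : ℚ[X] := topPart ℓ d (HilbPoly.hp k L F)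

lemma tp_eq (hL : CohB1.IsAmple L) {F : X.Modules} (hF : Coh.IsCoh F) (hd : DimLE F d) {P : ℚ[X]}
    (hP : ShStab.IsHilbPoly k X L F P) : tp k L d ℓ F = topPart ℓ d P := by
  rw [tp, HilbPoly.isHilbPoly_unique (HilbPoly.isHilbPoly_hp (k := k) hL hF hd) hP]

lemma tp_iso (hL : CohB1.IsAmple L) {F G : X.Modules} (e : F ≅ G) (hF : Coh.IsCoh F) (hG : Coh.IsCoh G)
    (hd : DimLE F d) (hd' : DimLE G d) : tp k L d ℓ F = tp k L d ℓ G :=
  (tp_eq hL hF hd (HilbPoly.isHilbPoly_hp (k := k) hL hF hd)).trans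
    (tp_eq hL hG hd' (HilbPoly.hilb_iso e (HilbPoly.isHilbPoly_hp (k := k) hL hF hd))).symm

lemma tp_isZero (hL : CohB1.IsAmple L) {F : X.Modules} (hF : Coh.IsCoh F) (hd : DimLE F d) (hz : IsZero F) :
    tp k L d ℓ F = 0 := by
  rw [tp_eq hL hF hd (HilbPoly.hilb_isZero (k := k) hz), topPart_zero]

lemma tp_add (hL : CohB1.IsAmple L) {S : ShortComplex X.Modules} (hS : S.ShortExact)
    (h₁ : Coh.IsCoh S.X₁) (h₂ : Coh.IsCoh S.X₂) (h₃ : Coh.IsCoh S.X₃) (hd : DimLE S.X₂ d) :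
    tp k L d ℓ S.X₂ = tp k L d ℓ S.X₁ + tp k L d ℓ S.X₃ := by
  haveI := hS.mono_f
  haveI := hS.epi_g
  have hd₁ := HilbPoly.dim_mono h₁ h₂ S.f hd
  have hd₃ := HilbPoly.dim_epi h₂ h₃ S.g hd
  rw [tp_eq hL h₂ hd (HilbPoly.hilb_add (k := k) hL.1 hS h₁ h₂ h₃ (HilbPoly.isHilbPoly_hp (k := k) hL h₁ hd₁)
    (HilbPoly.isHilbPoly_hp (k := k) hL h₃ hd₃)), topPart_add]
  rw [tp, tp]

lemma alpha_tp (F : X.Modules) : alpha d (tp k L d ℓ F) = alpha d (HilbPoly.hp k L F) := by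
  rw [tp]
  exact HilbPoly.alpha_topPart ℓ _

lemma alpha_tp_nonneg (hL : CohB1.IsAmple L) {F : X.Modules} (hF : Coh.IsCoh F) (hd : DimLE F d) :
    0 ≤ alpha d (tp k L d ℓ F) := by
  rw [alpha_tp]
  exact HilbPoly.alpha_nonneg hL hF hd (HilbPoly.isHilbPoly_hp (k := k) hL hF hd)

lemma alpha_tp_pos (hL : CohB1.IsAmple L) {F : X.Modules} (hF : Coh.IsCoh F)
    (hd : topologicalKrullDim ↥(CohB1.support F) = (d : WithBot ℕ∞)) : 0 < alpha d (tp k L d ℓ F) := by
  rw [alpha_tp]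
  exact HilbPoly.alpha_pos hL hF hd (HilbPoly.isHilbPoly_hp (k := k) hL hF hd.le)

lemma alpha_tp_eq_zero (hL : CohB1.IsAmple L) {F : X.Modules} (hF : Coh.IsCoh F)
    (hd : topologicalKrullDim ↥(CohB1.support F) < (d : WithBot ℕ∞)) : alpha d (tp k L d ℓ F) = 0 := by
  haveI : IsNoetherian X := CurveCohLib.isNoetherian_of_proper (k := k)
  rw [alpha_tp, (HilbPoly.hilb_props hL.1 hF hd.le (HilbPoly.isHilbPoly_hp (k := k) hL hF hd.le)).2]
  exact_mod_cast HilbPoly.iterD_eq_zero d (HilbPoly.additive_euler k) _ List.length_replicate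
    (fun N hN => (List.eq_of_mem_replicate hN) ▸ hL.1) F hF hd

lemma tp_nonneg (hL : CohB1.IsAmple L) {F : X.Modules} (hF : Coh.IsCoh F) (hd : DimLE F d) :
    PolyLE 0 (tp k L d ℓ F) := by
  have h := HilbPoly.isHilbPoly_hp (k := k) hL hF hd
  rw [tp]
  exact polyLE_topPart (HilbPoly.hilb_props hL.1 hF hd h).1 (HilbPoly.hilb_nonneg hL hF hd h)

variable (k L d ℓ) in
/-- Semistability for the truncated polynomials, all non-zero submodules being tested. -/
def SSl (G : X.Modules) : Prop :=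
  Coh.IsCoh G ∧ ¬ IsZero G ∧ ShStab.IsPure X G d ∧
    ∀ (F : X.Modules) (ι : F ⟶ G), Mono ι → Coh.IsCoh F → ¬ IsZero F →
      RedLE d (tp k L d ℓ F) (tp k L d ℓ G)

lemma SSl.dimLE {G : X.Modules} (h : SSl k L d ℓ G) : DimLE G d := HilbPoly.dim_le_of_isPure h.2.2.1 h.1

lemma SSl.alpha_pos (hL : CohB1.IsAmple L) {G : X.Modules} (h : SSl k L d ℓ G) :
    0 < alpha d (tp k L d ℓ G) := alpha_tp_pos hL h.1 (HilbPoly.dim_of_isPure h.2.2.1 h.1 h.2.1)

lemma isPure_of_iso {G G' : X.Modules} (e : G ≅ G') (h : ShStab.IsPure X G d) : ShStab.IsPure X G' d :=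
  fun F ι hι hF h0 => by
    haveI := hι
    exact h F (ι ≫ e.inv) inferInstance hF h0

lemma SSl.of_iso (hL : CohB1.IsAmple L) {G G' : X.Modules} (e : G ≅ G') (h : SSl k L d ℓ G) :
    SSl k L d ℓ G' := by
  have hG' := HilbPoly.isCoh_of_iso e h.1
  refine ⟨hG', fun hz => h.2.1 (hz.of_iso e), isPure_of_iso e h.2.2.1, fun F ι hι hF h0 => ?_⟩
  haveI := hι
  rw [← tp_iso hL e h.1 hG' h.dimLE (HilbPoly.dim_le_of_isPure (isPure_of_iso e h.2.2.1) hG')]
  exact h.2.2.2 F (ι ≫ e.inv) inferInstance hF h0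

/-- Semistability for truncations is `ℓ`-semistability. -/
theorem ssl_iff_ell (hL : CohB1.IsAmple L) (G : X.Modules) :
    SSl k L d ℓ G ↔ ShStab.IsEllSemistable k X L G d ℓ := by
  constructor
  · rintro ⟨hc, h0, hp, h⟩
    refine ⟨hc, h0, hp, fun F ι hι hFc pF pG hpF hpG hpos _ => ?_⟩
    haveI := hι
    have hd := HilbPoly.dim_le_of_isPure hp hc
    have hF0 : ¬ IsZero F := fun hz => by
      rw [HilbPoly.isHilbPoly_unique hpF (HilbPoly.hilb_isZero hz), alpha_zero'] at hpos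
      exact lt_irrefl _ hpos
    rw [← tp_eq hL hFc (HilbPoly.dim_mono hFc hc ι hd) hpF, ← tp_eq hL hc hd hpG]
    exact h F ι hι hFc hF0
  · rintro ⟨hc, h0, hp, h⟩
    refine ⟨hc, h0, hp, fun F ι hι hFc hF0 => ?_⟩
    haveI := hι
    have hd := HilbPoly.dim_le_of_isPure hp hc
    have hdF := HilbPoly.dim_mono hFc hc ι hd
    have hpos := alpha_tp_pos (k := k) (ℓ := ℓ) hL hFc (hp F ι hι hFc hF0)
    obtain ⟨Q, g, w, hg, hS, hQ, -⟩ := HilbPoly.exists_quot (k := k) hFc hc ι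
    haveI := hg
    have hdQ := HilbPoly.dim_epi hc hQ g hd
    have hsum : tp k L d ℓ G = tp k L d ℓ F + tp k L d ℓ Q :=
      tp_add (S := ShortComplex.mk ι g w) hL hS hFc hc hQ hd
    rcases (alpha_tp_nonneg (k := k) (ℓ := ℓ) hL hQ hdQ).lt_or_eq with hQα | hQα
    · rw [tp_eq hL hFc hdF (HilbPoly.isHilbPoly_hp (k := k) hL hFc hdF),
        tp_eq hL hc hd (HilbPoly.isHilbPoly_hp (k := k) hL hc hd)]
      refine h F ι hι hFc (HilbPoly.hp k L F) (HilbPoly.hp k L G) (HilbPoly.isHilbPoly_hp (k := k) hL hFc hdF)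
        (HilbPoly.isHilbPoly_hp (k := k) hL hc hd) ?_ ?_
      · rw [← alpha_tp (ℓ := ℓ)]; exact hpos
      · rw [← alpha_tp (ℓ := ℓ), ← alpha_tp (ℓ := ℓ), hsum, alpha_add']
        linarith
    · rw [hsum, redLE_add_right_iff]
      exact redLE_of_alpha_zero hQα.symm hpos.le (tp_nonneg hL hQ hdQ)

theorem ssl_iff_semistable (hL : CohB1.IsAmple L) (G : X.Modules) :
    SSl k L d d G ↔ ShStab.IsSemistable k X L G d :=
  (ssl_iff_ell hL G).trans (HilbPoly.isSemistable_iff_ell hL G).symm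

theorem ssl_iff_mu (hd : 1 ≤ d) (hL : CohB1.IsAmple L) (G : X.Modules) :
    SSl k L d 1 G ↔ ShStab.IsPure X G d ∧ ShStab.IsMuSemistable k X L G d := by
  rw [ssl_iff_ell hL G]
  constructor
  · rintro ⟨hc, h0, hp, h⟩
    refine ⟨hp, hc, h0, HilbPoly.dim_of_isPure hp hc h0, fun F ι hι hFc he => ?_,
      fun F ι hι hFc pF pG hpF hpG hpos hlt =>
        (redLE_topPart_one_iff_hatSlope hd hpos (hpos.trans hlt)).1 (h F ι hι hFc pF pG hpF hpG hpos hlt)⟩
    by_cases hF0 : IsZero F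
    · rw [QCoh.support_eq_empty_of_isZero hF0 hFc.1] at he
      haveI hE : IsEmpty (IrreducibleCloseds ↥(∅ : Set X)) :=
        ⟨fun s => s.2.1.ne_empty (Set.eq_empty_of_isEmpty s.1)⟩
      rw [topologicalKrullDim, Order.krullDim_eq_bot_iff.2 hE, WithBot.bot_add] at he
      exact WithBot.bot_ne_coe he
    · rw [hp F ι hι hFc hF0] at he
      have h2 : (((d + 1 : ℕ) : ℕ∞) : WithBot ℕ∞) = ((d : ℕ∞) : WithBot ℕ∞) := he
      have h3 : d + 1 = d := by exact_mod_cast h2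
      omega
  · rintro ⟨hp, hc, h0, -, -, h⟩
    exact ⟨hc, h0, hp, fun F ι hι hFc pF pG hpF hpG hpos hlt =>
      (redLE_topPart_one_iff_hatSlope hd hpos (hpos.trans hlt)).2 (h F ι hι hFc pF pG hpF hpG hpos hlt)⟩

/-- A nonzero map between semistable modules does not decrease the reduced truncation. -/
theorem ssl_redLE_of_ne_zero (hL : CohB1.IsAmple L) {G H : X.Modules} (hG : SSl k L d ℓ G)
    (hH : SSl k L d ℓ H) {φ : G ⟶ H} (hφ : φ ≠ 0) : RedLE d (tp k L d ℓ G) (tp k L d ℓ H) := by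
  obtain ⟨K, I, a, p, b, w, hfac, ha, hb, hp, hS, hKc, hIc⟩ := HilbPoly.exists_factor (k := k) hG.1 hH.1 φ
  haveI := ha; haveI := hb; haveI := hp
  have hI0 : ¬ IsZero I := fun h => hφ (by rw [← hfac, h.eq_of_tgt p 0, Limits.zero_comp])
  have hIpos := alpha_tp_pos (k := k) (ℓ := ℓ) hL hIc (hH.2.2.1 I b hb hIc hI0)
  have hsum : tp k L d ℓ G = tp k L d ℓ K + tp k L d ℓ I :=
    tp_add (S := ShortComplex.mk a p w) hL hS hKc hG.1 hIc hG.dimLE
  have h1 : RedLE d (tp k L d ℓ G) (tp k L d ℓ I) := by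
    by_cases hK0 : IsZero K
    · rw [hsum, tp_isZero hL hKc (HilbPoly.dim_mono hKc hG.1 a hG.dimLE) hK0, zero_add]
      exact redLE_refl _ _
    · have h := hG.2.2.2 K a ha hKc hK0
      rw [hsum, redLE_add_right_iff] at h
      rw [hsum, add_comm, redLE_add_left_iff]
      exact h
  exact HilbPoly.redLE_trans (hG.alpha_pos hL).le hIpos (hH.alpha_pos hL).le h1 (hH.2.2.2 I b hb hIc hI0)

end Groth.Agent.ShStabX
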