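import Groth.Agent.ShStabX.BC
import Groth.Agent.Lib.CurveRR
import Groth.Agent.Lib.CurveLinear
import Groth.Agent.Lib.RegEpiGen
import Groth.Agent.AmpleVan.Uniform
import Groth.Agent.AmpleX.Generated
import Groth.Agent.Lib.CurveTensor
import Groth.Agent.ASBunK.HomFinite

/-!
# Negative powers of an ample module as test objects

`Hom(L^{-m}, M) = H⁰(M ⊗ L^m)`: its dimension is eventually the Hilbert polynomial, it is eventually
exact in `M`, and its elements eventually generate `M`.
-/

set_option linter.style.haveILetI false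
set_option linter.unusedSectionVars false
set_option backward.isDefEq.respectTransparency false
set_option backward.isDefEq.respectTransparency.types false

universe u

open CategoryTheory CategoryTheory.Limits AlgebraicGeometry Polynomial Filter

attribute [local instance] HasDerivedCategory.standard

noncomputable section

namespace Groth.Agent.ShStabX

open Groth.Agent

variable {X : Scheme.{u}}

/-- `A m` is inverse to `L^m`. -/
def IsTestFam (L : X.Modules) (A : ℕ → X.Modules) : Prop :=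
  ∀ m, PicF.IsInvertible (A m) ∧
    Nonempty (CohB1.tensorMod (CohB1.tensorPow L m) (A m) ≅ Coh.structureModule X)

theorem exists_testFam {L : X.Modules} (hL : PicF.IsInvertible L) : ∃ A, IsTestFam L A := by
  choose A hA using fun m => H23.PicInv.exists_inverse (InvX.isInvertible_tensorPow hL m)
  exact ⟨A, hA⟩

theorem IsTestFam.pullback {Y : Scheme.{u}} (g : Y ⟶ X) {L : X.Modules} {A : ℕ → X.Modules}
    (hA : IsTestFam L A) :
    IsTestFam ((Scheme.Modules.pullback g).obj L) fun m => (Scheme.Modules.pullback g).obj (A m) := by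
  intro m
  refine ⟨PicClLib.isInvertible_pullback g (hA m).1, ?_⟩
  obtain ⟨e⟩ := (hA m).2
  obtain ⟨p⟩ := H23.PicMul.pull g (CohB1.tensorPow L m) (A m)
  obtain ⟨q⟩ := nonempty_pull_tensorPow g L m
  exact ⟨(PicGrp.tensorModIso q (Iso.refl _)).symm ≪≫ p.symm ≪≫ (Scheme.Modules.pullback g).mapIso e ≪≫
    CurveBC.unitIso g⟩

variable {k : Type u} [Field k] [X.Over (Spec (CommRingCat.of k))] {L : X.Modules} {A : ℕ → X.Modules}

/-- Tensoring is linear. -/
lemma tensor_map_smul' (P : X.Modules) {M N : X.Modules} (a : k) (φ : M ⟶ N) :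
    (DCoh.tensorBi.obj P).map (a • φ) = a • (DCoh.tensorBi.obj P).map φ := by
  rw [KLin.smul_def, KLin.smul_def, Functor.map_comp]
  exact congrArg (· ≫ _) (CurveLinear.tensor_map_smul P M _)

theorem isEquivalence_tensor {P D : X.Modules} (e : CohB1.tensorMod P D ≅ Coh.structureModule X) :
    (DCoh.tensorBi.obj P).IsEquivalence := by
  obtain ⟨c⟩ := H23.PicMul.comm D P
  exact (CategoryTheory.Equivalence.mk (DCoh.tensorBi.obj P) (DCoh.tensorBi.obj D)
    (CurveRR.cancelIso (A := D) (B := P) (c ≪≫ e)).symm (CurveRR.cancelIso (A := P) (B := D) e)).isEquivalence_functor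

theorem hom_bijective {P D : X.Modules} (e : CohB1.tensorMod P D ≅ Coh.structureModule X) (M : X.Modules) :
    Function.Bijective (fun φ : D ⟶ M =>
      (e.inv : Coh.structureModule X ⟶ (DCoh.tensorBi.obj P).obj D) ≫ (DCoh.tensorBi.obj P).map φ) := by
  haveI := isEquivalence_tensor e
  refine ⟨fun φ ψ h => (DCoh.tensorBi.obj P).map_injective ((cancel_epi e.inv).1 h), fun t => ?_⟩
  obtain ⟨φ, hφ⟩ := (DCoh.tensorBi.obj P).map_surjective (X := D) (Y := M)
    ((e.hom : (DCoh.tensorBi.obj P).obj D ⟶ Coh.structureModule X) ≫ t)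
  exact ⟨φ, by simp only [hφ, Iso.inv_hom_id_assoc]⟩

/-- `Hom(D, M) = H⁰(P ⊗ M)` for `D` inverse to `P`. -/
theorem finrank_hom_eq {P D : X.Modules} (e : CohB1.tensorMod P D ≅ Coh.structureModule X) (M : X.Modules) :
    Module.finrank k (D ⟶ M) = Module.finrank k (Coh.HH X ((DCoh.tensorBi.obj P).obj M) 0) := by
  let f : (D ⟶ M) →ₗ[k] (Coh.structureModule X ⟶ (DCoh.tensorBi.obj P).obj M) :=
    { toFun := fun φ => (e.inv : Coh.structureModule X ⟶ (DCoh.tensorBi.obj P).obj D) ≫
        (DCoh.tensorBi.obj P).map φ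
      map_add' := fun φ ψ => by rw [Functor.map_add, Preadditive.comp_add]
      map_smul' := fun a φ => by rw [tensor_map_smul', Linear.comp_smul]; rfl }
  exact ((LinearEquiv.ofBijective f (hom_bijective e M)).trans
    (LinearEquiv.ofBijective _ (RegEpi.evalOneLin_bijective k _))).finrank_eq

variable [IsProper (X ↘ Spec (CommRingCat.of k))]

include k

theorem eventually_vanish (hL : CohB1.IsAmple L) {M : X.Modules} (hM : Coh.IsCoh M) :
    ∀ᶠ m in atTop, ∀ i, 1 ≤ i →
      Subsingleton (Coh.HH X ((DCoh.tensorBi.obj (CohB1.tensorPow L m)).obj M) i) := by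
  obtain ⟨d₀, h⟩ := AmpleVan.exists_vanishing (A := k) hL hM
  refine Filter.eventually_atTop.2 ⟨d₀, fun m hm i hi => ?_⟩
  obtain ⟨q, rfl⟩ : ∃ q, i = q + 1 := ⟨i - 1, by omega⟩
  obtain ⟨c⟩ := H23.PicMul.comm M (CohB1.tensorPow L m)
  exact QCoh.subsingleton_HH_of_iso c _ (h m hm q)

/-- The dimension is eventually the Hilbert polynomial. -/
theorem IsTestFam.finrank_hom (hA : IsTestFam L A) (hL : CohB1.IsAmple L) {M : X.Modules}
    (hM : Coh.IsCoh M) {P : ℚ[X]} (hP : ShStab.IsHilbPoly k X L M P) :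
    ∀ᶠ m in atTop, (Module.finrank k (A m ⟶ M) : ℚ) = P.eval (m : ℚ) := by
  filter_upwards [eventually_vanish (k := k) hL hM] with m hm
  obtain ⟨e⟩ := (hA m).2
  obtain ⟨c⟩ := H23.PicMul.comm M (CohB1.tensorPow L m)
  have h1 : Curv2.euler k X (ShStab.twist X L M m) =
      Curv2.euler k X ((DCoh.tensorBi.obj (CohB1.tensorPow L m)).obj M) := CurveCohLib.euler_congr c
  rw [← hP m, h1, CurveCohLib.euler_eq_sum (k := k) (N := 1) hm, finrank_hom_eq e M]
  simp

/-- Lifting along epimorphisms. -/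
theorem IsTestFam.eventually_lift (hA : IsTestFam L A) (hL : CohB1.IsAmple L) {M G : X.Modules}
    (hM : Coh.IsCoh M) (hG : Coh.IsCoh G) (π : M ⟶ G) [Epi π] :
    ∀ᶠ m in atTop, ∀ φ : A m ⟶ G, ∃ ψ, ψ ≫ π = φ := by
  haveI : IsNoetherian X := CurveCohLib.isNoetherian_of_proper (k := k)
  have hK : Coh.IsCoh (kernel π) := QCoh.isCoh_kernel hM hG π
  filter_upwards [eventually_vanish (k := k) hL hK] with m hm φ
  obtain ⟨e⟩ := (hA m).2
  haveI := isEquivalence_tensor e
  let F := DCoh.tensorBi.obj (CohB1.tensorPow L m)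
  have hS : (ShortComplex.mk (kernel.ι π) π (kernel.condition π)).ShortExact :=
    .mk' (ShortComplex.exact_of_f_is_kernel _ (kernelIsKernel π)) inferInstance inferInstance
  obtain ⟨t, ht⟩ := CurveRR.exists_lift_of_HH_one (hS.map_of_exact F) (hm 1 le_rfl)
    ((e.inv : Coh.structureModule X ⟶ F.obj (A m)) ≫ F.map φ)
  obtain ⟨ψ, hψ⟩ := (hom_bijective e M).2 t
  refine ⟨ψ, (hom_bijective e G).1 ?_⟩
  dsimp only
  rw [Functor.map_comp, ← Category.assoc]
  exact (congrArg (· ≫ F.map π) hψ).trans ht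

/-- The test maps eventually generate. -/
theorem IsTestFam.eventually_jointEpi (hA : IsTestFam L A) (hL : CohB1.IsAmple L) {M : X.Modules}
    (hM : Coh.IsCoh M) :
    ∀ᶠ m in atTop, ∀ (Z : X.Modules) (a c : M ⟶ Z), (∀ φ : A m ⟶ M, φ ≫ a = φ ≫ c) → a = c := by
  haveI : CompactSpace X := hL.2.1
  haveI := AmpleVan.isSeparated_of_proper (X := X) (A := k)
  obtain ⟨n₀, h⟩ := AmpleX.eventually_isGloballyGenerated hL hM.1 hM.2
  refine Filter.eventually_atTop.2 ⟨n₀, fun m hm Z a c hac => ?_⟩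
  obtain ⟨e⟩ := (hA m).2
  haveI := isEquivalence_tensor e
  let F := DCoh.tensorBi.obj (CohB1.tensorPow L m)
  obtain ⟨co⟩ := H23.PicMul.comm M (CohB1.tensorPow L m)
  obtain ⟨ι, p, hp⟩ := AmpleX.isGloballyGenerated_of_iso co (h m hm)
  haveI : Epi p := hp
  refine F.map_injective ((cancel_epi p).1 (Sigma.hom_ext _ _ fun i => ?_))
  suffices hs : ∀ t : Coh.structureModule X ⟶ F.obj M, t ≫ F.map a = t ≫ F.map c by
    exact (Category.assoc _ _ _).symm.trans ((hs _).trans (Category.assoc _ _ _))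
  intro t
  obtain ⟨φ, rfl⟩ := (hom_bijective e M).2 t
  dsimp only
  rw [Category.assoc, Category.assoc, ← F.map_comp, ← F.map_comp, hac φ]

theorem IsTestFam.isCoh (hA : IsTestFam L A) (m : ℕ) : Coh.IsCoh (A m) := by
  haveI : IsNoetherian X := CurveCohLib.isNoetherian_of_proper (k := k)
  exact CurveDeg.isCoh_of_isInvertible (hA m).1

theorem IsTestFam.finite_hom (hA : IsTestFam L A) (m : ℕ) {M : X.Modules} (hM : Coh.IsCoh M) :
    Module.Finite k (A m ⟶ M) := ASBunK.finite_hom k (hA.isCoh (k := k) m) hM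

end Groth.Agent.ShStabX
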